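import Cfsg.Statements.S0970
import Cfsg.Agent.Lib.BlockFong

set_option autoImplicit false
open Cfsg

namespace Cfsg.Agent.S0970

open Cfsg.Agent.Lib.Helper2_BlockLocal Cfsg.Agent.Lib.Helper2_BlockCover2 Cfsg.Agent.Lib.Helper2_BlockDefOrder Cfsg.Agent.Lib.Helper2_BlockFMT Cfsg.Agent.Lib.BlockFong

/-- Let N be a normal subgroup of the finite group G and fix a maximal ideal M of the algebraic integers containing the prime p. Let b be a block of N that is invariant under conjugation by G, and B a block of G covering b (some χ ∈ B has a constituent in b) whose defect is at least that of every block covering b. If P is a defect group of B, then p does not divide the index of P ⊔ N, the subgroup P ∩ N of N is a defect group of b, and the defect of B equals the defect of b plus the exponent of p in the index of N. -/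
theorem result {G : Type*} [Group G] [Fintype G] (p : ℕ) [Fact p.Prime] (M : Ideal Cfsg.AlgInt) (hM : Cfsg.IsPModular p M) (N : Subgroup G) [hN : N.Normal] [Fintype N] (b : Set (Cfsg.IrrCharacter N)) (hb : Cfsg.IsPBlock M b) (hinv : ∀ g : G, ∀ θ ∈ b, ∀ θ' : Cfsg.IrrCharacter N, (∀ n : N, (θ' : N → ℂ) n = (θ : N → ℂ) ⟨g * n * g⁻¹, hN.conj_mem n n.2 g⟩) → θ' ∈ b) (B : Set (Cfsg.IrrCharacter G)) (hB : Cfsg.IsPBlock M B) (hcov : ∃ χ ∈ B, ∃ θ ∈ b, Cfsg.classInner (fun n : N => (χ : G → ℂ) n) (θ : N → ℂ) ≠ 0) (hmax : ∀ B' : Set (Cfsg.IrrCharacter G), Cfsg.IsPBlock M B' → (∃ χ ∈ B', ∃ θ ∈ b, Cfsg.classInner (fun n : N => (χ : G → ℂ) n) (θ : N → ℂ) ≠ 0) → Cfsg.blockDefect p B' ≤ Cfsg.blockDefect p B) (P : Subgroup G) (hP : Cfsg.IsDefectGroup p M B P) : ¬ p ∣ (P ⊔ N).index ∧ Cfsg.IsDefectGroup p M b ((P ⊓ N).subgroupOf N) ∧ Cfsg.blockDefect p B = Cfsg.blockDefect p b + N.index.factorization p := by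
  have hPr := isPrime_of_modular hM
  have hp : p.Prime := Fact.out
  have hst : Stable N hN b := fun g θ hθ => hinv g θ hθ (conjIrr N hN g θ) (fun n => rfl)
  have hcov' : Covers N B b := hcov
  obtain ⟨x, B', hB', hcB', hdb, hdB', hm⟩ := exists_regular_cover N hN hM hb hst
  have e1 := blockDefect_eq hM hb hdb
  have e2 := blockDefect_eq hM hB' hdB'
  have e3 := card_centralizer_mul N hN x
  have hle := hmax B' hB' hcB'
  have hidx : N.index ≠ 0 := Subgroup.index_ne_zero_of_finite
  have hmm : mm N x ≠ 0 := fun h => hm (h ▸ dvd_zero p)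
  have e4 : blockDefect p B' = blockDefect p b + N.index.factorization p := by
    have := congrArg (fun n => n.factorization p) e3
    rw [Nat.factorization_mul Nat.card_pos.ne' hmm, Nat.factorization_mul Nat.card_pos.ne' hidx,
      Finsupp.add_apply, Finsupp.add_apply, Nat.factorization_eq_zero_of_not_dvd hm, add_zero] at this
    rw [e1, e2, this]
  obtain ⟨D, hD, hAD⟩ := inf_le_defect N hN hM hb hst hB hcov' hP
  have c1 := card_defectGroup hM hB hP
  have c2 := card_defectGroup hM hb hD
  have hPp := isPGroup_of_defect hP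
  have c3 : Nat.card ((P ⊓ N).subgroupOf N) = Nat.card (P ⊓ N : Subgroup G) :=
    Nat.card_congr (Subgroup.subgroupOfEquivOfLe inf_le_right).toEquiv
  have c4 : (P ⊓ N).relIndex P * Nat.card (P ⊓ N : Subgroup G) = Nat.card P := by
    have h := ((P ⊓ N).subgroupOf P).card_mul_index
    rw [Nat.card_congr (Subgroup.subgroupOfEquivOfLe (inf_le_left : P ⊓ N ≤ P)).toEquiv] at h
    rw [mul_comm]; exact h
  rw [Subgroup.inf_relIndex_left] at c4
  have c5 : N.relIndex P ∣ N.index := Subgroup.relIndex_dvd_index_of_normal N P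
  obtain ⟨j, hj⟩ := (IsPGroup.iff_card (p := p)).mp (hPp.to_le (inf_le_left : P ⊓ N ≤ P))
  have c6 : N.relIndex P ∣ p ^ blockDefect p B := by
    rw [← c1, ← c4]; exact dvd_mul_right _ _
  obtain ⟨k, -, hk⟩ := (Nat.dvd_prime_pow hp).mp c6
  have c7 : k ≤ N.index.factorization p := by
    rw [hk] at c5
    exact (hp.pow_dvd_iff_le_factorization hidx).mp c5
  have c8 : j ≤ blockDefect p b := by
    have : Nat.card ((P ⊓ N).subgroupOf N) ≤ Nat.card D :=
      Nat.card_le_card_of_injective _ (Subgroup.inclusion_injective hAD)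
    rw [c3, hj, c2] at this
    exact (Nat.pow_le_pow_iff_right hp.one_lt).mp this
  have c9 : k + j = blockDefect p B := by
    rw [hk, hj, c1, ← pow_add] at c4
    exact Nat.pow_right_injective hp.two_le c4
  have hk' : k = N.index.factorization p := by omega
  have hj' : j = blockDefect p b := by omega
  refine ⟨?_, ?_, by omega⟩
  · have d1 : N.relIndex (P ⊔ N) * (P ⊔ N).index = N.index :=
      Subgroup.relIndex_mul_index le_sup_right
    rw [Subgroup.relIndex_sup_right, hk, hk'] at d1
    intro hdvd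
    obtain ⟨r, hr⟩ := hdvd
    have d2 : p ^ (N.index.factorization p + 1) ∣ N.index :=
      ⟨r, by rw [pow_succ, mul_assoc, ← hr]; exact d1.symm⟩
    have := (hp.pow_dvd_iff_le_factorization hidx).mp d2
    omega
  · have : (P ⊓ N).subgroupOf N = D := by
      apply Subgroup.eq_of_le_of_card_ge hAD
      rw [c3, hj, c2, hj']
    rw [this]
    exact hD

end Cfsg.Agent.S0970
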