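import Cfsg.Statements.S0004
import Cfsg.Agent.Lib.Helper1_SZ
import Cfsg.Agent.Lib.Helper1_MinNormal

set_option autoImplicit false
open Pointwise
open Cfsg

namespace Cfsg.Agent.S0004

open Subgroup Cfsg.Agent.Lib.Helper1_Basic Cfsg.Agent.Lib.Helper1_SZ Cfsg.Agent.Lib.Helper1_MinNormal

universe u

theorem aux (N : ℕ) : ∀ (G : Type u) [Group G] [Finite G] [Group.IsSolvable G], Nat.card G = N →
    ∀ m n : ℕ, Nat.card G = m * n → m.Coprime n → ∀ H K : Subgroup G, Nat.card H = m →
      Nat.card K = m → ∃ g : G, MulAut.conj g • H = K := by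
  induction N using Nat.strong_induction_on with
  | _ N ih =>
  intro G _ _ _ hN m n hG hmn H K hH hK
  subst hN
  rcases subsingleton_or_nontrivial G with hsub | hnt
  · exact ⟨1, Subsingleton.elim _ _⟩
  obtain ⟨p, M, hp, hMn, hMbot, hMab, hMpow, -⟩ := exists_normal_elementary_abelian (G := G)
  have hMp : IsPGroup p M := isPGroup_of_pow_eq_one hMpow
  have hlt := Cfsg.Agent.S0001.card_quotient_lt M hMbot
  have hcpos : 0 < Nat.card M := Nat.card_pos
  have hidx : Nat.card M * Nat.card (G ⧸ M) = m * n := by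
    rw [← index_eq_card, card_mul_index, hG]
  set f := QuotientGroup.mk' M with hf
  have hker : f.ker = M := QuotientGroup.ker_mk' M
  have hfs : Function.Surjective f := QuotientGroup.mk'_surjective M
  rcases card_dvd_or hG hmn hp hMp with ⟨m', hm'⟩ | ⟨n', hn'⟩
  · have h1 : Nat.card (G ⧸ M) = m' * n := by
      rw [hm', mul_assoc] at hidx
      exact Nat.eq_of_mul_eq_mul_left hcpos hidx
    have h2 : m'.Coprime n := Nat.Coprime.coprime_dvd_left ⟨_, by rw [hm', mul_comm]⟩ hmn
    have hMn' : (Nat.card M).Coprime n := Nat.Coprime.coprime_dvd_left ⟨_, hm'⟩ hmn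
    have key : ∀ X : Subgroup G, Nat.card X = m → M ≤ X ∧ Nat.card (X.map f) = m' := by
      intro X hX
      have hMX : M ≤ X := le_of_normal_of_coprime hG hX hmn hMn'
      refine ⟨hMX, ?_⟩
      have h3 := card_comap_mk' M (X.map f)
      rw [← hf, comap_map_eq_self (hker.le.trans hMX), hX, hm', mul_comm] at h3
      exact (Nat.eq_of_mul_eq_mul_right hcpos h3).symm
    obtain ⟨g', hg'⟩ := ih _ hlt (G ⧸ M) rfl m' n h1 h2 (H.map f) (K.map f) (key H hH).2 (key K hK).2
    obtain ⟨g, rfl⟩ := hfs g'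
    refine ⟨g, ?_⟩
    rw [← map_conj_smul, map_eq_map_iff, hker,
      sup_eq_left.mpr (key (MulAut.conj g • H) (by rw [card_conj_smul, hH])).1,
      sup_eq_left.mpr (key K hK).1] at hg'
    exact hg'
  · have h1 : Nat.card (G ⧸ M) = m * n' := by
      rw [hn', mul_left_comm] at hidx
      exact Nat.eq_of_mul_eq_mul_left hcpos hidx
    have h2 : m.Coprime n' := Nat.Coprime.coprime_dvd_right ⟨_, by rw [hn', mul_comm]⟩ hmn
    have hMm : m.Coprime (Nat.card M) := Nat.Coprime.coprime_dvd_right ⟨_, hn'⟩ hmn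
    have hdisj : ∀ X : Subgroup G, Nat.card X = m → Disjoint X M := fun X hX =>
      disjoint_of_coprime_natCard (hX ▸ hMm)
    have key : ∀ X : Subgroup G, Nat.card X = m → Nat.card (X.map f) = m := by
      intro X hX
      rw [card_map_of_disjoint_ker f X (hker.symm ▸ hdisj X hX), hX]
    obtain ⟨g', hg'⟩ := ih _ hlt (G ⧸ M) rfl m n' h1 h2 (H.map f) (K.map f) (key H hH) (key K hK)
    obtain ⟨g, rfl⟩ := hfs g'
    rw [← map_conj_smul, map_eq_map_iff, hker] at hg'
    have hH' : Nat.card (MulAut.conj g • H : Subgroup G) = m := by rw [card_conj_smul, hH]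
    have hrel : M.relIndex (K ⊔ M) = m := by
      rw [relIndex_sup_eq_card_of_disjoint (hdisj K hK), hK]
    obtain ⟨x, -, hx⟩ := SZ_rel_conj (N := M) (L := K ⊔ M) (X := MulAut.conj g • H) (Y := K)
      le_sup_right le_normalizer_of_normal (by rw [hrel]; exact hMm.symm) (Or.inl inferInstance)
      (hg' ▸ le_sup_left) le_sup_left (by rw [hrel, hH']) (by rw [hrel, hK])
    exact ⟨x * g, by rw [map_mul, mul_smul, hx]⟩

/-- Hall's Theorem, conjugacy: in a finite solvable group of order m * n with m and n coprime, any two subgroups of order m are conjugate. -/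
theorem result {G : Type*} [Group G] [Finite G] [Group.IsSolvable G] (m n : ℕ)
    (hG : Nat.card G = m * n) (hmn : m.Coprime n) (H K : Subgroup G)
    (hH : Nat.card H = m) (hK : Nat.card K = m) : ∃ g : G, MulAut.conj g • H = K :=
  aux _ G rfl m n hG hmn H K hH hK

end Cfsg.Agent.S0004
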