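import Cfsg.Statements.S4735
import Mathlib
import Mathlib
import Cfsg.Agent.Lib.Helper2_BlockThird
import Cfsg.Agent.Lib.Helper2_BlockFMT
import Cfsg.Agent.Lib.Helper2_PrincipalSection
import Cfsg.Agent.Lib.BlockPC
import Cfsg.Agent.Lib.CharGalois
import Cfsg.Agent.Lib.CharPow
import Cfsg.Agent.Lib.CharQuot
import Cfsg.Agent.Lib.helper8_Defect


set_option autoImplicit false
open Cfsg

namespace Cfsg.Agent.S4735

open Cfsg Cfsg.Agent.Lib.Helper2_BlockLocal Cfsg.Agent.Lib.Helper2_BlockOm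
  Cfsg.Agent.Lib.Helper2_BlockOsima Cfsg.Agent.Lib.Helper2_BlockBasic
  Cfsg.Agent.Lib.Helper2_BlockInd Cfsg.Agent.Lib.Helper2_BlockThird Cfsg.Agent.Lib.Helper2_BlockQuot
  Cfsg.Agent.Lib.CharBasic Cfsg.Agent.Lib.CharOrtho
  Cfsg.Agent.Lib.CharComplete Cfsg.Agent.Lib.CharIntegral Cfsg.Agent.Lib.CharMore
  Cfsg.Agent.Lib.CharInd Cfsg.Agent.Lib.CharQuot Cfsg.Agent.Lib.CharPow
open scoped ComplexConjugate Pointwise

/-- exact characterisation of the principal block -/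
lemma mem_principal_iff_sum {G : Type*} [Group G] [Fintype G] {p : ℕ} {M : Ideal AlgInt}
    (hM : IsPModular p M) (χ : IrrCharacter G) :
    χ ∈ principalBlock M G ↔ ∑ x, reg p G x * (χ : G → ℂ) x ≠ 0 := by
  have hPr := isPrime_of_modular hM
  constructor
  · intro h h0
    apply (mem_principal_iff hM χ).1 h
    unfold Om
    rw [h0, zero_div]
    exact ideal_zero hPr
  · intro h
    by_contra hn
    apply h
    have h1 : oneIrr G ∉ blockOf M (χ : G → ℂ) := by
      intro h2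
      apply hn
      exact sameBlock_symm (mem_blockOf.mp h2)
    exact sum_reg_eq_zero hM (B := blockOf M (χ : G → ℂ)) ⟨χ, rfl⟩ h1 (self_mem_blockOf hPr χ)

noncomputable def powIrr {G : Type*} [Group G] [Fintype G] {k : ℕ} (hk : k.Coprime (Nat.card G))
    (χ : IrrCharacter G) : IrrCharacter G := ⟨powFun (χ : G → ℂ) k, isIrr_powFun χ.2 hk⟩

lemma powIrr_bijective {G : Type*} [Group G] [Fintype G] {k : ℕ} (hk : k.Coprime (Nat.card G)) :
    Function.Bijective (powIrr (G := G) hk) := by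
  rw [← Finite.injective_iff_bijective]
  intro χ χ' h
  apply Subtype.ext
  funext g
  obtain ⟨y, rfl⟩ := (powCoprime hk.symm).surjective g
  have := congrFun (congrArg Subtype.val h) y
  exact this

lemma powIrr_mem_iff {G : Type*} [Group G] [Fintype G] {p : ℕ} {M : Ideal AlgInt}
    (hM : IsPModular p M) {k : ℕ} (hk : k.Coprime (Nat.card G)) (χ : IrrCharacter G) :
    powIrr hk χ ∈ principalBlock M G ↔ χ ∈ principalBlock M G := by
  rw [mem_principal_iff_sum hM, mem_principal_iff_sum hM]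
  have h1 : ∑ x, reg p G x * ((powIrr hk χ : IrrCharacter G) : G → ℂ) x =
      ∑ x, reg p G x * (χ : G → ℂ) x := by
    rw [← sum_pow (fun g => reg p G g * (χ : G → ℂ) g) hk]
    refine Finset.sum_congr rfl fun x _ => ?_
    have h2 : reg p G (x ^ k) = reg p G x := by
      unfold reg
      rw [Nat.Coprime.orderOf_pow]
      exact (Nat.Coprime.coprime_dvd_right (orderOf_dvd_natCard x) hk).symm
    beta_reduce
    rw [h2]
    rfl
  rw [h1]

noncomputable def infl {G : Type*} [Group G] [Finite G] (N : Subgroup G) [N.Normal]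
    (ψ : IrrCharacter (G ⧸ N)) : IrrCharacter G :=
  ⟨fun g => (ψ : G ⧸ N → ℂ) (QuotientGroup.mk g), isIrr_inflate N ψ.2⟩

lemma infl_bijOn {G : Type*} [Group G] [Finite G] {p : ℕ} {M : Ideal AlgInt}
    (hM : IsPModular p M) (N : Subgroup G) [N.Normal] (hnp : ¬ p ∣ Nat.card N)
    (hker : ∀ χ ∈ principalBlock M G, ∀ n ∈ N, (χ : G → ℂ) n = (χ : G → ℂ) 1) :
    Set.BijOn (infl N) (principalBlock M (G ⧸ N)) (principalBlock M G) := by
  refine ⟨?_, ?_, ?_⟩
  · intro ψ hψ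
    have h1 : SameBlock M (oneIrr (G ⧸ N) : G ⧸ N → ℂ) (ψ : G ⧸ N → ℂ) := hψ
    have h2 := Cfsg.Agent.Lib.BlockPC.sameBlock_inflate N hM (irr_classFunction _)
      (irr_classFunction _) h1
    have e : (fun g : G => (oneIrr (G ⧸ N) : G ⧸ N → ℂ) (QuotientGroup.mk g)) =
        (oneIrr G : G → ℂ) := rfl
    rw [e] at h2
    exact h2
  · intro ψ _ ψ' _ h
    apply Subtype.ext
    funext q
    obtain ⟨g, rfl⟩ := QuotientGroup.mk_surjective q
    exact congrFun (congrArg Subtype.val h) g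
  · intro χ hχ
    obtain ⟨ψ, hψ, hχψ⟩ := exists_deflate_irr N χ.2 (hker χ hχ)
    refine ⟨⟨ψ, hψ⟩, ?_, Subtype.ext hχψ.symm⟩
    have h1 : SameBlock M (oneIrr G : G → ℂ) (χ : G → ℂ) := hχ
    rw [hχψ] at h1
    have e : (oneIrr G : G → ℂ) =
        (fun g : G => (oneIrr (G ⧸ N) : G ⧸ N → ℂ) (QuotientGroup.mk g)) := rfl
    rw [e] at h1
    have h2 := sameBlock_deflate hM N hnp (irr_classFunction (oneIrr (G ⧸ N)))
      (irr_classFunction ⟨ψ, hψ⟩) h1
    exact h2

/-- Let p be a prime, M a maximal ideal of the algebraic integers containing p, G a finite group, H = O_p'(G) and Ḡ = G/H. For x ∈ G write λ(G, x) for the sum of |χ(x)|^2 over the irreducible characters χ in the principal p-block of G. Then λ(G, x) is a positive integer, λ(G, x) = λ(Ḡ, x̄) where x̄ is the image of x, and λ(G, x) ≤ #C_Ḡ(x̄). Moreover λ(G, 1) = [G : H] if and only if the principal block is the only p-block of Ḡ. -/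
theorem result {G : Type*} [Group G] [Finite G] (p : ℕ) [Fact p.Prime] (M : Ideal Cfsg.AlgInt) (hM : Cfsg.IsPModular p M) (x : G) : (∃ n : ℕ, 0 < n ∧ ∑ᶠ χ ∈ Cfsg.principalBlock M G, Complex.normSq ((χ : G → ℂ) x) = n) ∧ ∑ᶠ χ ∈ Cfsg.principalBlock M G, Complex.normSq ((χ : G → ℂ) x) = ∑ᶠ ψ ∈ Cfsg.principalBlock M (G ⧸ Cfsg.pPrimeCore p G), Complex.normSq ((ψ : G ⧸ Cfsg.pPrimeCore p G → ℂ) (QuotientGroup.mk x)) ∧ ∑ᶠ χ ∈ Cfsg.principalBlock M G, Complex.normSq ((χ : G → ℂ) x) ≤ (Nat.card ↥(Subgroup.centralizer ({(QuotientGroup.mk x : G ⧸ Cfsg.pPrimeCore p G)} : Set (G ⧸ Cfsg.pPrimeCore p G))) : ℝ) ∧ ((∑ᶠ χ ∈ Cfsg.principalBlock M G, Cfsg.charDegree (χ : G → ℂ) ^ 2) = (Cfsg.pPrimeCore p G).index ↔ ∀ B : Set (Cfsg.IrrCharacter (G ⧸ Cfsg.pPrimeCore p G)), Cfsg.IsPBlock M B → B = Cfsg.principalBlock M (G ⧸ Cfsg.pPrimeCore p G)) := by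
  classical
  haveI : Fintype G := Fintype.ofFinite G
  have hPr := isPrime_of_modular hM
  have hp : p.Prime := Fact.out
  set H := pPrimeCore p G with hH
  haveI : Fintype (G ⧸ H) := Fintype.ofFinite _
  have hnp : ¬ p ∣ Nat.card H := by
    intro h
    have := Nat.Coprime.eq_one_of_dvd (Cfsg.Agent.Lib.Helper4_Core.pPrimeCore_coprime (G := G) p).symm h
    exact hp.one_lt.ne' this
  have hbij := infl_bijOn hM H hnp
    (fun χ hχ n hn => Cfsg.Agent.Lib.Helper2_PrincipalSection.principal_ker hM hχ hn)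
  have e2 : ∑ᶠ χ ∈ principalBlock M G, Complex.normSq ((χ : G → ℂ) x) =
      ∑ᶠ ψ ∈ principalBlock M (G ⧸ H),
        Complex.normSq ((ψ : G ⧸ H → ℂ) (QuotientGroup.mk x)) :=
    (finsum_mem_eq_of_bijOn (infl H) hbij (fun ψ _ => rfl)).symm
  have e4 : ∑ᶠ χ ∈ principalBlock M G, charDegree (χ : G → ℂ) ^ 2 =
      ∑ᶠ ψ ∈ principalBlock M (G ⧸ H), charDegree (ψ : G ⧸ H → ℂ) ^ 2 := by
    refine (finsum_mem_eq_of_bijOn (infl H) hbij (fun ψ _ => ?_)).symm
    have h1 := (Cfsg.Agent.Lib.helper8_Defect.irr_charDegree ψ.2).2.1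
    have h2 := (Cfsg.Agent.Lib.helper8_Defect.irr_charDegree (infl H ψ).2).2.1
    have h3 : ((infl H ψ : IrrCharacter G) : G → ℂ) 1 = (ψ : G ⧸ H → ℂ) 1 := rfl
    rw [h3, h1] at h2
    have h4 : charDegree (ψ : G ⧸ H → ℂ) = charDegree ((infl H ψ : IrrCharacter G) : G → ℂ) := by
      exact_mod_cast h2
    rw [h4]
  set BG := Finset.univ.filter (fun χ : IrrCharacter G => χ ∈ principalBlock M G) with hBG
  set BQ := Finset.univ.filter
    (fun ψ : IrrCharacter (G ⧸ H) => ψ ∈ principalBlock M (G ⧸ H)) with hBQ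
  have eG : (∑ᶠ χ ∈ principalBlock M G, Complex.normSq ((χ : G → ℂ) x)) =
      ∑ χ ∈ BG, Complex.normSq ((χ : G → ℂ) x) := by
    rw [finsum_mem_eq_finite_toFinset_sum _ (Set.toFinite _)]
    apply Finset.sum_congr _ (fun _ _ => rfl)
    ext χ; simp [hBG]
  have eQ : (∑ᶠ ψ ∈ principalBlock M (G ⧸ H),
      Complex.normSq ((ψ : G ⧸ H → ℂ) (QuotientGroup.mk x))) =
      ∑ ψ ∈ BQ, Complex.normSq ((ψ : G ⧸ H → ℂ) (QuotientGroup.mk x)) := by
    rw [finsum_mem_eq_finite_toFinset_sum _ (Set.toFinite _)]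
    apply Finset.sum_congr _ (fun _ _ => rfl)
    ext χ; simp [hBQ]
  have eQ4 : (∑ᶠ ψ ∈ principalBlock M (G ⧸ H), charDegree (ψ : G ⧸ H → ℂ) ^ 2) =
      ∑ ψ ∈ BQ, charDegree (ψ : G ⧸ H → ℂ) ^ 2 := by
    rw [finsum_mem_eq_finite_toFinset_sum _ (Set.toFinite _)]
    apply Finset.sum_congr _ (fun _ _ => rfl)
    ext χ; simp [hBQ]
  refine ⟨?_, e2, ?_, ?_⟩
  · -- integrality
    rw [eG]
    set Ψ : G → ℂ := ∑ χ ∈ BG, ((χ : G → ℂ) * fun g => conj ((χ : G → ℂ) g)) with hΨ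
    have hΨc : IsCharacter G Ψ := isCharacter_sum _ _ fun χ _ =>
      isCharacter_mul (isCharacter_of_isIrr χ.2) (isCharacter_conj (isCharacter_of_isIrr χ.2))
    have hΨv : ∀ g, Ψ g = ((∑ χ ∈ BG, Complex.normSq ((χ : G → ℂ) g) : ℝ) : ℂ) := by
      intro g
      rw [hΨ, Finset.sum_apply]
      push_cast
      refine Finset.sum_congr rfl fun χ _ => ?_
      rw [Pi.mul_apply, Complex.mul_conj]
    have hfix : ∀ k : ℕ, k.Coprime (Nat.card G) → Ψ (x ^ k) = Ψ x := by
      intro k hk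
      rw [hΨv, hΨv]
      congr 1
      rw [hBG, Finset.sum_filter, Finset.sum_filter]
      rw [← (powIrr_bijective hk).sum_comp
        (fun χ : IrrCharacter G => if χ ∈ principalBlock M G then
          Complex.normSq ((χ : G → ℂ) x) else 0)]
      refine Finset.sum_congr rfl fun χ _ => ?_
      simp only [powIrr_mem_iff hM hk]
      rfl
    obtain ⟨z, hz⟩ := Cfsg.Agent.Lib.CharGalois.int_of_fixed hΨc x hfix
    rw [hΨv] at hz
    have hz' : (∑ χ ∈ BG, Complex.normSq ((χ : G → ℂ) x) : ℝ) = (z : ℝ) := by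
      exact_mod_cast hz
    have hpos : (0 : ℝ) < ∑ χ ∈ BG, Complex.normSq ((χ : G → ℂ) x) := by
      have h1 : oneIrr G ∈ BG := Finset.mem_filter.2 ⟨Finset.mem_univ _, oneIrr_mem_principal hPr G⟩
      have h2 := Finset.single_le_sum (f := fun χ : IrrCharacter G =>
        Complex.normSq ((χ : G → ℂ) x)) (fun _ _ => Complex.normSq_nonneg _) h1
      have h3 : Complex.normSq ((oneIrr G : G → ℂ) x) = 1 := by
        have : (oneIrr G : G → ℂ) x = 1 := rfl
        rw [this, map_one]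
      beta_reduce at h2
      rw [h3] at h2
      linarith
    rw [hz'] at hpos ⊢
    have hz0 : 0 < z := by exact_mod_cast hpos
    refine ⟨z.toNat, by omega, ?_⟩
    have : ((z.toNat : ℤ) : ℝ) = (z : ℝ) := by rw [Int.toNat_of_nonneg hz0.le]
    exact_mod_cast this.symm
  · rw [e2, eQ]
    have h1 := second_orthogonality_conj (QuotientGroup.mk x : G ⧸ H) (QuotientGroup.mk x)
      (IsConj.refl _)
    have h2 : (∑ ψ : IrrCharacter (G ⧸ H),
        Complex.normSq ((ψ : G ⧸ H → ℂ) (QuotientGroup.mk x)) : ℝ) =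
        (Nat.card (Subgroup.centralizer ({(QuotientGroup.mk x : G ⧸ H)} : Set (G ⧸ H))) : ℝ) := by
      have h3 : ((∑ ψ : IrrCharacter (G ⧸ H),
          Complex.normSq ((ψ : G ⧸ H → ℂ) (QuotientGroup.mk x)) : ℝ) : ℂ) =
          (Nat.card (Subgroup.centralizer ({(QuotientGroup.mk x : G ⧸ H)} : Set (G ⧸ H))) : ℂ) := by
        rw [← h1]
        push_cast
        exact Finset.sum_congr rfl fun ψ _ => (Complex.mul_conj _).symm
      exact_mod_cast h3
    rw [← h2]
    exact Finset.sum_le_sum_of_subset_of_nonneg (Finset.filter_subset _ _)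
      (fun _ _ _ => Complex.normSq_nonneg _)
  · rw [e4, eQ4]
    have hall : ∑ ψ : IrrCharacter (G ⧸ H), charDegree (ψ : G ⧸ H → ℂ) ^ 2 = H.index := by
      have h1 := sum_sq_degree (G := G ⧸ H)
      have h2 : ((∑ ψ : IrrCharacter (G ⧸ H), charDegree (ψ : G ⧸ H → ℂ) ^ 2 : ℕ) : ℂ) =
          (Nat.card (G ⧸ H) : ℂ) := by
        rw [← h1]
        push_cast
        refine Finset.sum_congr rfl fun ψ _ => ?_
        rw [(Cfsg.Agent.Lib.helper8_Defect.irr_charDegree ψ.2).2.1]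
      have h3 : (∑ ψ : IrrCharacter (G ⧸ H), charDegree (ψ : G ⧸ H → ℂ) ^ 2) =
          Nat.card (G ⧸ H) := by exact_mod_cast h2
      rw [h3]; rfl
    constructor
    · intro h B hB
      have hmem : ∀ ψ : IrrCharacter (G ⧸ H), ψ ∈ principalBlock M (G ⧸ H) := by
        intro ψ
        by_contra hn
        have h1 : ∑ ψ ∈ BQ, charDegree (ψ : G ⧸ H → ℂ) ^ 2 <
            ∑ ψ : IrrCharacter (G ⧸ H), charDegree (ψ : G ⧸ H → ℂ) ^ 2 := by
          apply Finset.sum_lt_sum_of_subset (Finset.filter_subset _ _) (Finset.mem_univ ψ)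
          · intro h2; exact hn (Finset.mem_filter.1 h2).2
          · exact pow_pos (Cfsg.Agent.Lib.helper8_Defect.irr_charDegree ψ.2).1 2
          · intro _ _ _; exact Nat.zero_le _
        rw [h, hall] at h1
        exact lt_irrefl _ h1
      obtain ⟨ψ, hψ⟩ := block_nonempty hPr hB
      exact Cfsg.Agent.Lib.Helper2_BlockFMT.block_eq_of_mem hPr hB
        (principalBlock_isPBlock M (G ⧸ H)) hψ (hmem ψ)
    · intro h
      rw [← hall]
      apply Finset.sum_congr _ (fun _ _ => rfl)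
      ext ψ
      simp only [hBQ, Finset.mem_filter, Finset.mem_univ, true_and, iff_true]
      rw [← h (blockOf M (ψ : G ⧸ H → ℂ)) ⟨ψ, rfl⟩]
      exact self_mem_blockOf hPr ψ

end Cfsg.Agent.S4735
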