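import Cfsg.Statements.S2898
import Cfsg.Agent.Lib.Helper4_CharP2

set_option autoImplicit false
open Cfsg

namespace Cfsg.Agent.S2898

open Cfsg.Agent.Lib.Helper4_CharP Cfsg.Agent.Lib.Helper4_CharP2 Cfsg.Agent.Lib.Helper4_Syl
  Cfsg.Agent.Lib.Helper3_PComp

theorem inverts_of_fpf {G : Type*} [Group G] [Finite G] (O : Subgroup G) [O.Normal] (z : G)
    (hz : z * z = 1) (h : ∀ x ∈ O, z * x = x * z → x = 1) : ∀ y ∈ O, z * y * z⁻¹ = y⁻¹ := by
  let f : O → O := fun x => ⟨(x : G)⁻¹ * (z * x * z⁻¹), O.mul_mem (O.inv_mem x.2)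
    (Subgroup.Normal.conj_mem inferInstance _ x.2 z)⟩
  have hinj : Function.Injective f := by
    intro x y hxy
    have h1 : (x : G)⁻¹ * (z * x * z⁻¹) = (y : G)⁻¹ * (z * y * z⁻¹) := congrArg Subtype.val hxy
    have h2 : z * ((y : G) * (x : G)⁻¹) = ((y : G) * (x : G)⁻¹) * z := by
      calc z * ((y : G) * (x : G)⁻¹) = y * ((y : G)⁻¹ * (z * y * z⁻¹)) * z * (x : G)⁻¹ := by group
        _ = y * ((x : G)⁻¹ * (z * x * z⁻¹)) * z * (x : G)⁻¹ := by rw [h1]
        _ = ((y : G) * (x : G)⁻¹) * z := by group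
    have h3 := h _ (O.mul_mem y.2 (O.inv_mem x.2)) h2
    apply Subtype.ext
    exact (mul_inv_eq_one.1 h3).symm
  have hsurj : Function.Surjective f := Finite.surjective_of_injective hinj
  intro y hy
  obtain ⟨x, hx⟩ := hsurj ⟨y, hy⟩
  have h1 : (x : G)⁻¹ * (z * x * z⁻¹) = y := congrArg Subtype.val hx
  have hzi : z⁻¹ = z := inv_eq_of_mul_eq_one_left hz
  rw [← h1, hzi]
  calc z * ((x : G)⁻¹ * (z * x * z)) * z = z * (x : G)⁻¹ * (z * x * (z * z)) := by group
    _ = z * (x : G)⁻¹ * (z * x) := by rw [hz, mul_one]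
    _ = z⁻¹ * (x : G)⁻¹ * z⁻¹ * x := by rw [hzi]; group
    _ = ((x : G)⁻¹ * (z * x * z))⁻¹ := by group

/-- Let G be a finite group of even order with parabolic characteristic 2. If the centre of G ⧸ O(G) is trivial, then O(G) = 1. -/
theorem result {G : Type*} [Group G] [Finite G] (h2 : 2 ∣ Nat.card G) (hG : Cfsg.IsOfParabolicCharacteristic 2 G) [hN : (Cfsg.oddCore G).Normal] (hZ : Subgroup.center (G ⧸ Cfsg.oddCore G) = ⊥) : Cfsg.oddCore G = ⊥ := by
  set O := Cfsg.oddCore G with hO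
  obtain ⟨S⟩ : Nonempty (Sylow 2 G) := inferInstance
  have hSne : (S : Subgroup G) ≠ ⊥ := S.ne_bot_of_dvd_card h2
  have hOc : (Nat.card O).Coprime 2 := pPrimeCore_coprime 2 G
  have hA : ∀ t : G, t ≠ 1 → t ∈ (S : Subgroup G) → (∀ x ∈ (S : Subgroup G), x * t = t * x) →
      ∀ x ∈ O, t * x = x * t → x = 1 := by
    intro t ht1 htS htc x hx hxt
    have h1 := parabolic_centralizer hG S ht1 htS htc
    set C := Subgroup.centralizer ({t} : Set G) with hC
    have h3 : O.subgroupOf C ≤ Cfsg.pPrimeCore 2 C := by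
      apply subnormal_le_pPrimeCore (Subgroup.Normal.isSubnormal inferInstance)
      exact Nat.Coprime.of_dvd_left (Subgroup.card_comap_dvd_of_injective O C.subtype
        C.subtype_injective) hOc
    rw [h1.2] at h3
    have hxC : x ∈ C := by
      rw [hC, Subgroup.mem_centralizer_singleton_iff]
      exact hxt.symm
    have h4 : (⟨x, hxC⟩ : C) ∈ O.subgroupOf C := by
      rw [Subgroup.mem_subgroupOf]; exact hx
    have h5 := h3 h4
    rw [Subgroup.mem_bot] at h5
    exact congrArg Subtype.val h5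
  by_contra hne
  set C₀ := Subgroup.centralizer (O : Set G) with hC₀
  have hC₀n : C₀.Normal := inferInstance
  have h1 : (S : Subgroup G) ⊓ C₀ = ⊥ := by
    by_contra hcon
    obtain ⟨w, hw, hw1, hwc⟩ := Cfsg.Agent.Lib.helper6_PGroup.exists_central_of_normal
      (S : Subgroup G) ((S : Subgroup G) ⊓ C₀) S.isPGroup' inf_le_left hcon
      (Cfsg.Agent.Lib.Helper3_Local.le_normalizer_inf Subgroup.le_normalizer
        (by rw [Subgroup.normalizer_eq_top]; exact le_top))
    apply hne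
    rw [eq_bot_iff]
    intro x hx
    rw [Subgroup.mem_bot]
    apply hA w hw1 hw.1 hwc x hx
    exact (Subgroup.mem_centralizer_iff.1 hw.2 x hx).symm
  have h3 : C₀ ≤ O := by
    apply subnormal_le_pPrimeCore hC₀n.isSubnormal
    have h4 := IsSylIn.inf_normal (IsSylIn.of_sylow_top S) C₀
    rw [Nat.coprime_comm, Nat.Prime.coprime_iff_not_dvd Nat.prime_two]
    intro hd
    exact h4.ne_bot_of_dvd hd h1
  obtain ⟨z, hzS, hzo, hzc⟩ := exists_central_orderOf_eq S.isPGroup' hSne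
  have hz1 : z ≠ 1 := by
    rintro rfl
    rw [orderOf_one] at hzo
    omega
  have hzz : z * z = 1 := by
    rw [← pow_two, ← hzo, pow_orderOf_eq_one]
  have hinv := inverts_of_fpf O z hzz (hA z hz1 hzS hzc)
  have hzi : z⁻¹ = z := inv_eq_of_mul_eq_one_left hzz
  have hcomm : ∀ g : G, z * g * z⁻¹ * g⁻¹ ∈ C₀ := by
    intro g
    rw [hC₀, Subgroup.mem_centralizer_iff]
    intro x hx
    have hx' : g⁻¹ * x * g ∈ O := by
      have := hN.conj_mem x hx g⁻¹
      rwa [inv_inv] at this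
    have e1 := hinv _ hx'
    have e2 := hinv _ (O.inv_mem hx)
    rw [inv_inv] at e2
    have e3 : z * (g⁻¹ * x * g) = (g⁻¹ * x * g)⁻¹ * z := by
      calc z * (g⁻¹ * x * g) = (z * (g⁻¹ * x * g) * z⁻¹) * z := by group
        _ = _ := by rw [e1]
    have e4 : (z * g * z⁻¹ * g⁻¹) * x = x * (z * g * z⁻¹ * g⁻¹) := by
      rw [hzi]
      calc (z * g * z * g⁻¹) * x = z * g * (z * (g⁻¹ * x * g)) * g⁻¹ := by group
        _ = z * g * ((g⁻¹ * x * g)⁻¹ * z) * g⁻¹ := by rw [e3]
        _ = (z * x⁻¹ * z⁻¹) * z * g * z * g⁻¹ := by group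
        _ = x * (z * g * z * g⁻¹) := by rw [e2]; group
    exact e4.symm
  have hzcen : (QuotientGroup.mk' O z) ∈ Subgroup.center (G ⧸ O) := by
    rw [Subgroup.mem_center_iff]
    intro y
    obtain ⟨g, rfl⟩ := QuotientGroup.mk'_surjective O y
    have h4 := h3 (hcomm g)
    rw [← QuotientGroup.eq_one_iff, ← QuotientGroup.mk'_apply] at h4
    simp only [map_mul, map_inv] at h4
    have := mul_inv_eq_one.1 h4
    rw [mul_inv_eq_iff_eq_mul] at this
    exact this.symm
  rw [hZ, Subgroup.mem_bot, QuotientGroup.mk'_apply, QuotientGroup.eq_one_iff] at hzcen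
  have h5 := orderOf_dvd_natCard (⟨z, hzcen⟩ : O)
  rw [Subgroup.orderOf_mk, hzo] at h5
  have := Nat.Coprime.eq_one_of_dvd hOc.symm h5
  omega

end Cfsg.Agent.S2898
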