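import Cfsg.Statements.S2842
import Cfsg.Agent.Lib.Helper4_WC2

set_option autoImplicit false
open Cfsg

namespace Cfsg.Agent.S2842

open scoped Pointwise commutatorElement
open Cfsg.Agent.Lib.Helper4_Syl Cfsg.Agent.Lib.Helper4_Control Cfsg.Agent.Lib.Helper4_Cop
  Cfsg.Agent.Lib.Helper4_WC Cfsg.Agent.Lib.Helper4_WC2 Cfsg.Agent.Lib.Helper4_Chain
  Cfsg.Agent.Lib.Helper4_Core

/-- Let Q be a nontrivial p-subgroup of the finite group H that is a weakly closed subgroup with C_H(Q) ≤ Q, and Q ≤ L ≤ H. Suppose H has characteristic p, or more generally that C_H(y) has characteristic p for some nonidentity y ∈ C_{O_p(L)}(Q). Then [Q, C_H(O_p(L))] ≤ Q ∩ O_p(L), C_H(O_p(L)) is a p-group, and L has characteristic p. -/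
theorem result {H : Type*} [Group H] [Finite H] {p : ℕ} [Fact p.Prime] (Q : Subgroup H) (hQp : IsPGroup p ↥Q) (hQ1 : Q ≠ ⊥) (hwc : Cfsg.IsWeaklyClosedSubgroup p Q) (hCQ : Subgroup.centralizer ((Q : Subgroup H) : Set H) ≤ Q) (L : Subgroup H) (hQL : Q ≤ L) (hyp : Subgroup.centralizer (Cfsg.pCore p H : Set H) ≤ Cfsg.pCore p H ∨ ∃ y : H, y ≠ 1 ∧ y ∈ (Cfsg.pCoreOf p L) ⊓ Subgroup.centralizer ((Q : Subgroup H) : Set H) ∧ Subgroup.centralizer (Cfsg.pCore p ↥(Subgroup.centralizer ({y} : Set H)) : Set ↥(Subgroup.centralizer ({y} : Set H))) ≤ Cfsg.pCore p ↥(Subgroup.centralizer ({y} : Set H))) : ⁅Q, Subgroup.centralizer (((Cfsg.pCoreOf p L) : Subgroup H) : Set H)⁆ ≤ Q ⊓ (Cfsg.pCoreOf p L) ∧ IsPGroup p ↥(Subgroup.centralizer (((Cfsg.pCoreOf p L) : Subgroup H) : Set H)) ∧ Subgroup.centralizer (Cfsg.pCore p ↥L : Set ↥L) ≤ Cfsg.pCore p ↥L := by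
  rw [charPSub_iff]
  rcases hyp with hch | ⟨y, hy1, hy, hch⟩
  · have hn : (Cfsg.pCore p H).Normal := Subgroup.sSup_normal _ (fun _ h => h.1)
    have hN : Subgroup.normalizer ((Cfsg.pCore p H : Subgroup H) : Set H) = ⊤ :=
      Subgroup.normalizer_eq_top_iff.2 hn
    apply wc_charp_core hwc hCQ hQL (pCore_isPGroup p H)
    · rw [hN]; exact le_top
    · rw [hN]; exact le_top
    · exact (pCore_isPGroup p H).to_le (inf_le_right.trans hch)
  · rw [charPSub_iff] at hch
    set P := Cfsg.pCoreOf p L with hP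
    set D := Subgroup.centralizer (P : Set H) with hD
    set H₁ := Subgroup.centralizer ({y} : Set H) with hH₁
    set R' := Cfsg.pCoreOf p H₁ with hR'
    have hLD : L ≤ Subgroup.normalizer (D : Set H) :=
      le_normalizer_centralizer' (le_normalizer_pCoreOf p L)
    set L₁ := D ⊔ Q with hL₁
    have hDH₁ : D ≤ H₁ := Subgroup.centralizer_le (by simpa using hy.1)
    have hQH₁ : Q ≤ H₁ := by
      intro q hq
      rw [hH₁, Subgroup.mem_centralizer_singleton_iff]
      exact Subgroup.mem_centralizer_iff.1 hy.2 q hq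
    have hL₁H₁ : L₁ ≤ H₁ := sup_le hDH₁ hQH₁
    have hL₁D : L₁ ≤ Subgroup.normalizer (D : Set H) :=
      sup_le Subgroup.le_normalizer (hQL.trans hLD)
    set P₁ := Cfsg.pCoreOf p L₁ with hP₁
    have hyP₁ : y ∈ P₁ := by
      have h1 : Subgroup.zpowers y ≤ P₁ := by
        apply le_pCoreOf
        · rw [Subgroup.zpowers_le]
          exact (le_sup_right : Q ≤ L₁) (hCQ hy.2)
        · exact (pCoreOf_isPGroup p L).to_le (by rw [Subgroup.zpowers_le]; exact hy.1)
        · exact hL₁H₁.trans (centralizer_singleton_le_normalizer_zpowers y)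
      exact h1 (Subgroup.mem_zpowers y)
    have hD₁H₁ : Subgroup.centralizer (P₁ : Set H) ≤ H₁ :=
      Subgroup.centralizer_le (by simpa using hyP₁)
    have hH₁R' : H₁ ≤ Subgroup.normalizer (R' : Set H) := le_normalizer_pCoreOf p H₁
    have step1 := wc_charp_core hwc hCQ (le_sup_right : Q ≤ L₁) (pCoreOf_isPGroup p H₁)
      (hL₁H₁.trans hH₁R') (hD₁H₁.trans hH₁R')
      ((pCoreOf_isPGroup p H₁).to_le ((inf_le_inf_right _ hD₁H₁).trans hch))
    have hL₁char := step1.2.2
    -- now `D` has characteristic `p`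
    set R := Cfsg.pCoreOf p D with hR
    have hP₁p : IsPGroup p P₁ := pCoreOf_isPGroup p L₁
    have hL₁P₁ : L₁ ≤ Subgroup.normalizer (P₁ : Set H) := le_normalizer_pCoreOf p L₁
    have hP₁D : P₁ ⊓ D ≤ R :=
      le_pCoreOf inf_le_right (hP₁p.to_le inf_le_left)
        (le_normalizer_inf' ((le_sup_left : D ≤ L₁).trans hL₁P₁) Subgroup.le_normalizer)
    have hCR : IsPGroup p (D ⊓ Subgroup.centralizer (R : Set H) : Subgroup H) := by
      apply isPGroup_of_pprime_trivial
      intro z hz hcop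
      have key := centralizes_of_chain hP₁p hcop
        (fun i => if i = 0 then ⊥ else if i = 1 then P₁ ⊓ D else P₁) 2
        (by simp)
        (by
          intro i _
          by_cases h0 : i = 0
          · simp [h0]
          · by_cases h1 : i = 1
            · simp [h1]
            · simp [h0, h1])
        (by
          intro i hi x hx
          interval_cases i
          · simp only [zero_add, one_ne_zero, if_false, if_true] at hx ⊢
            rw [Subgroup.mem_bot, commutatorElement_eq_one_iff_mul_comm]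
            exact (Subgroup.mem_centralizer_iff.1 hz.2 x (hP₁D hx)).symm
          · simp only [Nat.reduceAdd, OfNat.ofNat_ne_zero, OfNat.ofNat_ne_one, one_ne_zero,
              if_false, if_true] at hx ⊢
            refine Subgroup.mem_inf.2 ⟨comm_mem_left (hL₁P₁ ((le_sup_left : D ≤ L₁) hz.1)) hx, ?_⟩
            exact comm_mem_right (hL₁D (pCoreOf_le p L₁ hx)) hz.1) 2 le_rfl
      have hzC : z ∈ Subgroup.centralizer (P₁ : Set H) := by
        apply mem_centralizer_of_comm
        intro x hx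
        apply key
        simpa using hx
      exact eq_one_of_isPGroup_of_coprime hP₁p
        (hL₁char (Subgroup.mem_inf.2 ⟨(le_sup_left : D ≤ L₁) hz.1, hzC⟩)) hcop
    exact wc_charp_core hwc hCQ hQL (pCoreOf_isPGroup p D)
      (hLD.trans (normalizer_le_normalizer_pCoreOf p D)) (le_normalizer_pCoreOf p D) hCR

end Cfsg.Agent.S2842
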