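import Cfsg.Statements.S4720
import Cfsg.Agent.Lib.Helper2_PrincipalSection
import Cfsg.Agent.Lib.helper8_BlockSum

set_option autoImplicit false
open Cfsg Cfsg.Agent.Lib.Helper2_BlockLocal Cfsg.Agent.Lib.helper8_BlockSum
  Cfsg.Agent.Lib.Helper2_BlockOm Cfsg.Agent.Lib.Helper2_BlockThird Cfsg.Agent.Lib.CharBasic
  Cfsg.Agent.Lib.Helper2_PrincipalSection Cfsg.Agent.Lib.Helper2_BlockOrtho2 Cfsg.Agent.Lib.helper8_Defect
  Cfsg.Agent.Lib.CharIntegral Cfsg.Agent.Lib.Helper2_BlockFMT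
open scoped ComplexConjugate Classical

namespace Cfsg.Agent.S4720

/-- Let p be a prime, M a maximal ideal of the algebraic integers containing p, P a p-subgroup of the finite group G, N a subgroup with P ≤ N ≤ N_G(P), and U a nonempty subset of P normalized by N such that an element of U and an element of P that are conjugate in G are already conjugate in N, and such that λ(C_G(y)) = w·#C_N(y) for every y ∈ U with one rational number w, where λ(X) denotes the sum of the squares of the degrees of the irreducible characters in the principal p-block of X. For a complex function θ on P and χ in the principal block of G put a_χ(θ) = #P⁻¹ Σ_{y ∈ P} χ(y) θ(y⁻¹). Then for generalized characters θ, η of P with θ vanishing outside U, Σ_χ a_χ(θ)·conj(a_χ(η)) = (w/#P²)·Σ_{y ∈ P} θ(y)·conj(Σ_{x ∈ N} η(x y x⁻¹)) (η extended by zero off P; the conjugates lie in P), the first sum over the principal p-block of G. -/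
theorem result {G : Type*} [Group G] [Finite G] (p : ℕ) [Fact p.Prime] (M : Ideal Cfsg.AlgInt) (hM : Cfsg.IsPModular p M) (P : Subgroup G) (hP : IsPGroup p P) (N : Subgroup G) (hPN : P ≤ N) (hNN : N ≤ Subgroup.normalizer (P : Set G)) (U : Set G) (hUne : U.Nonempty) (hUP : U ⊆ (P : Set G)) (hUN : ∀ n ∈ N, ∀ u ∈ U, n * u * n⁻¹ ∈ U) (hfus : ∀ u ∈ U, ∀ g : G, g * u * g⁻¹ ∈ (P : Set G) → ∃ n ∈ N, n * u * n⁻¹ = g * u * g⁻¹) (w : ℚ) (hw : ∀ y ∈ U, ((∑ᶠ ψ ∈ Cfsg.principalBlock M ↥(Subgroup.centralizer ({y} : Set G)), Cfsg.charDegree (ψ : ↥(Subgroup.centralizer ({y} : Set G)) → ℂ) ^ 2) : ℚ) = w * Nat.card ↥(N ⊓ Subgroup.centralizer ({y} : Set G))) (θ η : ↥P → ℂ) (hθ : Cfsg.IsGeneralizedCharacter ↥P θ) (hη : Cfsg.IsGeneralizedCharacter ↥P η) (hθU : ∀ y : ↥P, (y : G) ∉ U → θ y = 0) : ∑ᶠ χ ∈ Cfsg.principalBlock M G, ((Nat.card ↥P : ℂ)⁻¹ * ∑ᶠ y : ↥P, (χ : G → ℂ) (y : G) * θ y⁻¹) * (starRingEnd ℂ) ((Nat.card ↥P : ℂ)⁻¹ * ∑ᶠ y : ↥P, (χ : G → ℂ) (y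 : G) * η y⁻¹) = ((w : ℂ) / ((Nat.card ↥P : ℂ) ^ 2)) * ∑ᶠ y : ↥P, θ y * (starRingEnd ℂ) (∑ᶠ x : ↥N, Cfsg.extendByZero P η ((x : G) * (y : G) * (x : G)⁻¹)) := by
  have := Fintype.ofFinite G
  have hPr := isPrime_of_modular hM
  have hp := hM.1
  have hB := principalBlock_isPBlock M G
  set c : ℂ := (Nat.card ↥P : ℂ)⁻¹ with hc
  let K : G → G → ℂ := fun y y' => ∑ χ : IrrCharacter G,
    (if χ ∈ principalBlock M G then (χ : G → ℂ) y' else 0) * conj ((χ : G → ℂ) y)
  have hpel : ∀ y ∈ P, ∃ k : ℕ, orderOf y = p ^ k := by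
    intro y hy
    obtain ⟨k, hk⟩ := (IsPGroup.iff_orderOf.mp hP) ⟨y, hy⟩
    exact ⟨k, by rw [← hk, Subgroup.orderOf_mk]⟩
  have h1reg : ∀ (A : Type _) [Group A], ¬ p ∣ orderOf (1 : A) := by
    intro A _
    rw [orderOf_one]; exact hp.one_lt.ne' ∘ Nat.dvd_one.mp
  have hpp : ∀ y ∈ P, IsPPart p y y := fun y hy =>
    ⟨1, mul_one y, Commute.one_right y, hpel y hy, h1reg G⟩
  have hK0 : ∀ y ∈ P, ∀ y' ∈ P, ¬ IsConj y' y → K y y' = 0 := fun y hy y' hy' hn =>
    block_orthogonality hM (hpp y' hy') (hpp y hy) hn hB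
  have hK1 : ∀ y ∈ U, ∀ y', IsConj y' y →
      K y y' = (w : ℂ) * (Nat.card ↥(N ⊓ Subgroup.centralizer ({y} : Set G)) : ℂ) := by
    intro y hy y' hconj
    have e1 : K y y' = K y y := by
      refine Finset.sum_congr rfl fun χ _ => ?_
      rw [classFunction_of_isConj (irr_classFunction χ) hconj]
    rw [e1]
    show ∑ χ : IrrCharacter G,
      (if χ ∈ principalBlock M G then (χ : G → ℂ) y else 0) * conj ((χ : G → ℂ) y) = _
    rw [← finsum_normSq]
    have h2 := principal_section_sum hM (hpel y (hUP hy)) 1 (h1reg _)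
    rw [Subgroup.coe_one, mul_one] at h2
    rw [h2]
    have h3 := hw y hy
    rw [finsum_mem_eq_finite_toFinset_sum _ (Set.toFinite _)] at h3 ⊢
    have h4 := congrArg (fun q : ℚ => (q : ℂ)) h3
    simp only [Rat.cast_sum, Rat.cast_pow, Rat.cast_natCast, Rat.cast_mul] at h4
    rw [← h4]
    push_cast
    refine Finset.sum_congr rfl fun ψ _ => ?_
    obtain ⟨-, hd1, -⟩ := irr_charDegree ψ.2
    rw [hd1]
    simp
  -- rewrite the coefficients
  have hA : ∀ (χ : IrrCharacter G) (ϑ : ↥P → ℂ), ∑ᶠ y : ↥P, (χ : G → ℂ) (y : G) * ϑ y⁻¹ =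
      ∑ y : ↥P, conj ((χ : G → ℂ) (y : G)) * ϑ y := by
    intro χ ϑ
    rw [finsum_eq_sum_of_fintype, ← Equiv.sum_comp (Equiv.inv ↥P)]
    refine Finset.sum_congr rfl fun y _ => ?_
    rw [Equiv.inv_apply, inv_inv, Subgroup.coe_inv, inv_of_isCharacter (isCharacter_of_isIrr χ.2)]
  rw [finsum_block]
  have hterm : ∀ χ : IrrCharacter G, (c * ∑ᶠ y : ↥P, (χ : G → ℂ) (y : G) * θ y⁻¹) *
      conj (c * ∑ᶠ y : ↥P, (χ : G → ℂ) (y : G) * η y⁻¹) =
      c ^ 2 * ∑ y : ↥P, ∑ y' : ↥P, (θ y * conj (η y')) *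
        ((χ : G → ℂ) (y' : G) * conj ((χ : G → ℂ) (y : G))) := by
    intro χ
    rw [hA, hA, map_mul, map_sum, hc, map_inv₀, Complex.conj_natCast, mul_mul_mul_comm,
      Finset.sum_mul_sum, ← pow_two]
    congr 1
    refine Finset.sum_congr rfl fun y _ => Finset.sum_congr rfl fun y' _ => ?_
    rw [map_mul, Complex.conj_conj]
    ring
  rw [Finset.sum_congr rfl fun χ _ => hterm χ, ← Finset.mul_sum, Finset.sum_filter]
  have hswap : ∑ χ : IrrCharacter G, (if χ ∈ principalBlock M G then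
      ∑ y : ↥P, ∑ y' : ↥P, (θ y * conj (η y')) *
        ((χ : G → ℂ) (y' : G) * conj ((χ : G → ℂ) (y : G))) else 0) =
      ∑ y : ↥P, θ y * ∑ y' : ↥P, conj (η y') * K y y' := by
    have e1 : ∀ χ : IrrCharacter G, (if χ ∈ principalBlock M G then
      ∑ y : ↥P, ∑ y' : ↥P, (θ y * conj (η y')) *
        ((χ : G → ℂ) (y' : G) * conj ((χ : G → ℂ) (y : G))) else 0) =
      ∑ y : ↥P, ∑ y' : ↥P, (θ y * conj (η y')) *
        ((if χ ∈ principalBlock M G then (χ : G → ℂ) (y' : G) else 0) *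
          conj ((χ : G → ℂ) (y : G))) := by
      intro χ
      split_ifs
      · rfl
      · simp
    rw [Finset.sum_congr rfl fun χ _ => e1 χ, Finset.sum_comm]
    refine Finset.sum_congr rfl fun y _ => ?_
    rw [Finset.sum_comm, Finset.mul_sum]
    refine Finset.sum_congr rfl fun y' _ => ?_
    rw [← Finset.mul_sum, mul_assoc]
  rw [hswap, finsum_eq_sum_of_fintype]
  have hcc : c ^ 2 = 1 / (Nat.card ↥P : ℂ) ^ 2 := by
    rw [hc, inv_pow, one_div]
  rw [hcc, div_mul_eq_mul_div, one_mul, div_mul_eq_mul_div, Finset.mul_sum]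
  congr 1
  refine Finset.sum_congr rfl fun y _ => ?_
  by_cases hyU : (y : G) ∈ U
  swap
  · rw [hθU y hyU]; ring
  rw [mul_left_comm]
  congr 1
  -- the local computation
  rw [finsum_eq_sum_of_fintype, map_sum]
  set yN : N := ⟨(y : G), hPN y.2⟩ with hyN
  have hs := sum_conj_eq yN (fun n : N => conj (extendByZero P η (n : G)))
  have e2 : ∑ x : N, conj (extendByZero P η ((x : G) * (y : G) * (x : G)⁻¹)) =
      ∑ x : N, conj (extendByZero P η ((x * yN * x⁻¹ : N) : G)) := rfl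
  rw [e2, hs, nsmul_eq_mul, card_centralizer_sub, ← mul_assoc, inf_comm, ← hK1 y hyU y (IsConj.refl _),
    Finset.mul_sum, Finset.sum_filter]
  have hext : ∀ q : ↥P, extendByZero P η (q : G) = η q := fun q =>
    Subtype.val_injective.extend_apply η 0 q
  apply Fintype.sum_of_injective (Subgroup.inclusion hPN) (Subgroup.inclusion_injective hPN)
  · intro n hn
    have hnP : (n : G) ∉ P := by
      intro h
      exact hn ⟨⟨n, h⟩, Subtype.ext rfl⟩
    have : extendByZero P η (n : G) = 0 := by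
      unfold extendByZero
      rw [Function.extend_apply']
      · rfl
      · rintro ⟨q, hq⟩
        exact hnP (hq ▸ q.2)
    rw [this]
    simp
  · intro y'
    have e3 : ((Subgroup.inclusion hPN y' : N) : G) = y' := rfl
    rw [e3, hext]
    split_ifs with hconj
    · have hG : IsConj (y' : G) (y : G) := by
        obtain ⟨t, ht⟩ := isConj_iff.mp hconj
        exact (isConj_iff.mpr ⟨(t : G), congrArg Subtype.val ht⟩ : IsConj (y : G) (y' : G)).symm
      rw [hK1 y hyU y' hG, hK1 y hyU y (IsConj.refl _)]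
      ring
    · have hG : ¬ IsConj (y' : G) (y : G) := by
        intro h
        apply hconj
        obtain ⟨g, hg⟩ := isConj_iff.mp h.symm
        obtain ⟨n, hn, hn2⟩ := hfus y hyU g (by rw [hg]; exact y'.2)
        exact isConj_iff.mpr ⟨⟨n, hn⟩, Subtype.ext (by
          show n * (y : G) * n⁻¹ = y'
          rw [hn2, hg])⟩
      rw [hK0 y y.2 y' y'.2 hG, mul_zero]

end Cfsg.Agent.S4720
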