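import Cfsg.Statements.S0013
import Mathlib

set_option autoImplicit false
open Cfsg

namespace Cfsg.Agent.S0013

open Subgroup
open scoped commutatorElement

/-- In a finite p-group the Frattini subgroup is the smallest normal subgroup with elementary abelian quotient: it lies below any normal subgroup containing all commutators and all p-th powers. -/
theorem result {G : Type*} [Group G] [Finite G] (p : ℕ) [Fact p.Prime]
    (hG : IsPGroup p G) (N : Subgroup G) [N.Normal] (hcomm : commutator G ≤ N) (hpow : ∀ x : G, x ^ p ∈ N) :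
    frattini G ≤ N := by
  classical
  intro x hx
  by_contra hxN
  -- a subgroup maximal among those containing `N` but not `x`
  let S : Set (Subgroup G) := {M | N ≤ M ∧ x ∉ M}
  obtain ⟨M, hM⟩ := (Set.toFinite S).exists_maximal ⟨N, le_rfl, hxN⟩
  obtain ⟨hNM, hxM⟩ := hM.prop
  have hMn : M.Normal := by
    constructor
    intro m hm g
    have h1 : ⁅g, m⁆ ∈ M := hNM (hcomm (commutator_mem_commutator (mem_top g) (mem_top m)))
    have h2 : g * m * g⁻¹ = ⁅g, m⁆ * m := by simp [commutatorElement_def]
    rw [h2]; exact M.mul_mem h1 hm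
  have hco : IsCoatom M := by
    refine ⟨fun h => hxM (h ▸ mem_top x), ?_⟩
    intro L hL
    have hxL : x ∈ L := by
      by_contra hxL
      exact hL.not_ge (hM.le_of_ge ⟨hNM.trans hL.le, hxL⟩ hL.le)
    rw [eq_top_iff]
    intro g _
    by_cases hgM : g ∈ M
    · exact hL.le hgM
    have hx2 : x ∈ M ⊔ zpowers g := by
      by_contra hx2
      have := hM.le_of_ge (y := M ⊔ zpowers g) ⟨hNM.trans le_sup_left, hx2⟩ le_sup_left
      exact hgM (this (mem_sup_right (mem_zpowers g)))
    have hx3 : x ∈ ((M ⊔ zpowers g : Subgroup G) : Set G) := hx2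
    rw [normal_mul] at hx3
    obtain ⟨m, hm, z, hz, hmz⟩ := hx3
    obtain ⟨j, rfl⟩ := hz
    simp only at hmz
    have hgj : g ^ j ∈ L := by
      have : g ^ j = m⁻¹ * x := by rw [← hmz]; group
      rw [this]; exact L.mul_mem (L.inv_mem (hL.le hm)) hxL
    have hpj : IsCoprime (j : ℤ) (p : ℤ) := by
      rw [isCoprime_comm, Prime.coprime_iff_not_dvd (Nat.prime_iff_prime_int.mp Fact.out)]
      rintro ⟨k, rfl⟩
      apply hxM
      rw [← hmz]
      refine M.mul_mem hm ?_
      rw [zpow_mul, zpow_natCast]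
      exact M.zpow_mem (hNM (hpow g)) k
    obtain ⟨u, v, huv⟩ := hpj
    have : g = (g ^ j) ^ u * (g ^ p) ^ v := by
      rw [← zpow_natCast g p, ← zpow_mul, ← zpow_mul, ← zpow_add, mul_comm j u, mul_comm (p : ℤ) v,
        huv, zpow_one]
    rw [this]
    exact L.mul_mem (L.zpow_mem hgj u) (L.zpow_mem (hL.le (hNM (hpow g))) v)
  exact hxM (frattini_le_coatom hco hx)

end Cfsg.Agent.S0013
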