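import Cfsg.Statements.S0027
import Cfsg.Agent.S0026

set_option autoImplicit false
open Pointwise
open scoped commutatorElement
open Cfsg

namespace Cfsg.Agent.S0027

open Subgroup Cfsg.Agent.Lib.Helper1_Comm

/-- Under coprime action the commutator subgroup with A is stable: taking the commutator with A twice gives the same subgroup as once. -/
theorem result {G : Type*} [Group G] [Finite G] (A K : Subgroup G) (hAK : A ≤ Subgroup.normalizer (K : Set G))
    (hcop : (Nat.card A).Coprime (Nat.card K)) (hsolv : Group.IsSolvable A ∨ Group.IsSolvable K) :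
    ⁅⁅K, A⁆, A⁆ = ⁅K, A⁆ := by
  apply le_antisymm (commutator_mono (commutator_le_left hAK) le_rfl)
  rw [commutator_le]
  intro k hk a ha
  obtain ⟨n, hn, c, hc, rfl⟩ := Cfsg.Agent.S0026.decomp A K hAK hcop hsolv k hk
  have hca : a * c = c * a := mem_centralizer_iff.mp hc.2 a ha
  have h1 : ⁅n * c, a⁆ = ⁅n, a⁆ := by
    simp only [commutatorElement_def]
    calc n * c * a * (n * c)⁻¹ * a⁻¹ = n * (c * a) * c⁻¹ * n⁻¹ * a⁻¹ := by group
      _ = n * (a * c) * c⁻¹ * n⁻¹ * a⁻¹ := by rw [hca]
      _ = n * a * n⁻¹ * a⁻¹ := by group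
  rw [h1]
  exact commutator_mem_commutator hn ha

end Cfsg.Agent.S0027
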