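import Cfsg.Statements.S0028
import Cfsg.Agent.Lib.Helper1_Comm2
import Cfsg.Agent.S0027

set_option autoImplicit false
open Cfsg

namespace Cfsg.Agent.S0028

open Subgroup Cfsg.Agent.Lib.Helper1_Comm Cfsg.Agent.Lib.Helper1_Comm2

theorem aux {G : Type*} [Group G] [Finite G] (p : ℕ) [Fact p.Prime]
    (P Q : Subgroup G) (hP : IsPGroup p P) (hQ : (Nat.card Q).Coprime p)
    (hPQ : P ≤ Subgroup.centralizer (Q : Set G)) : ∀ (n : ℕ) (U : Subgroup G), Nat.card U = n →
    IsPGroup p U → P ≤ Subgroup.normalizer (U : Set G) → Q ≤ Subgroup.normalizer (U : Set G) →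
    U ⊓ Subgroup.centralizer (P : Set G) ≤ Subgroup.centralizer (Q : Set G) → ⁅U, Q⁆ = ⊥ := by
  intro n
  induction n using Nat.strong_induction_on with
  | _ n ih =>
    intro U hcard hU hPU hQU hC
    have hlt : ∀ {T : Subgroup G}, T < U → Nat.card T < n := by
      intro T hT
      rw [← hcard]
      exact Set.ncard_lt_ncard (show (T : Set G) ⊂ U from hT) (Set.toFinite _)
    have hPnQ : P ≤ normalizer (Q : Set G) := hPQ.trans (centralizer_le_normalizer' Q)
    have hQnP : Q ≤ normalizer (P : Set G) :=
      (le_centralizer_iff.mp hPQ).trans (centralizer_le_normalizer' P)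
    have hUnil : Group.IsNilpotent U := hU.isNilpotent
    have hcop : (Nat.card Q).Coprime (Nat.card U) := by
      obtain ⟨m, hm⟩ := IsPGroup.iff_card.mp hU
      rw [hm]; exact Nat.Coprime.pow_right m hQ
    have h27 := Cfsg.Agent.S0027.result Q U hQU hcop (Or.inr inferInstance)
    have hWU : ⁅U, Q⁆ ≤ U := commutator_le_left hQU
    rcases hWU.lt_or_eq with hW | hW
    · have h1 := ih _ (hlt hW) ⁅U, Q⁆ rfl (hU.to_le hWU) (le_normalizer_commutator hPU hPnQ)
        (le_normalizer_commutator_right hQU) ((inf_le_inf_right _ hWU).trans hC)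
      rw [← h27, h1]
    · by_cases hbot : U = ⊥
      · rw [hbot, commutator_bot_left]
      have hT : ⁅U, P⁆ < U := commutator_lt_of_isPGroup hU hP hPU hbot
      have h1 := ih _ (hlt hT) ⁅U, P⁆ rfl (hU.to_le hT.le) (le_normalizer_commutator_right hPU)
        (le_normalizer_commutator hQU hQnP) ((inf_le_inf_right _ hT.le).trans hC)
      have h2 : ⁅⁅P, Q⁆, U⁆ = ⊥ := by
        rw [commutator_eq_bot_iff_le_centralizer.mpr hPQ, commutator_bot_left]
      have h3 := commutator_commutator_eq_bot_of_rotate h1 h2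
      rw [commutator_comm Q U, hW, commutator_eq_bot_iff_le_centralizer] at h3
      rw [commutator_eq_bot_iff_le_centralizer]
      exact (le_inf le_rfl h3).trans hC

/-- Thompson's P × Q Lemma: let a p-subgroup P and a subgroup Q of order prime to p centralise each other and normalise a p-subgroup U; if every element of U fixed by P is fixed by Q, then Q centralises U. -/
theorem result {G : Type*} [Group G] [Finite G] (p : ℕ) [Fact p.Prime]
    (P Q U : Subgroup G) (hP : IsPGroup p P) (hQ : (Nat.card Q).Coprime p) (hU : IsPGroup p U)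
    (hPQ : P ≤ Subgroup.centralizer (Q : Set G))
    (hPU : P ≤ Subgroup.normalizer (U : Set G)) (hQU : Q ≤ Subgroup.normalizer (U : Set G))
    (hC : U ⊓ Subgroup.centralizer (P : Set G) ≤ Subgroup.centralizer (Q : Set G)) :
    Q ≤ Subgroup.centralizer (U : Set G) := by
  rw [le_centralizer_iff, ← commutator_eq_bot_iff_le_centralizer]
  exact aux p P Q hP hQ hPQ _ U rfl hU hPU hQU hC

end Cfsg.Agent.S0028
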