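import Cfsg.Statements.S0095
import Cfsg.Agent.Lib.Helper1_HomCount
import Cfsg.Agent.Lib.Helper1_Class2
import Cfsg.Agent.S0015

set_option autoImplicit false
open Cfsg

namespace Cfsg.Agent.S0095

open Subgroup Cfsg.Agent.Lib.Helper1_HomCount Cfsg.Agent.Lib.Helper1_Class2
open scoped commutatorElement

/-- the commutator pairing gives `|U : C_U(W)| ≤ |W : M|` when `U` centralises `M ≤ W` -/
theorem pairing_le {P : Type*} [Group P] [Finite P] (hcl : Cl2 P)
    (hZ : (Nat.card (center P)).Prime) (U W M : Subgroup P) [M.Normal]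
    (hUM : ∀ u ∈ U, ∀ m ∈ M, ⁅m, u⁆ = 1) :
    (centralizer (W : Set P)).relIndex U ≤ M.relIndex W := by
  have hcomm : ∀ a b : center P, a * b = b * a :=
    fun a b => Subtype.ext (mem_center_iff.1 b.2 a.1)
  let ψ : U → {f : W →* center P // M.subgroupOf W ≤ f.ker} := fun u =>
    ⟨{ toFun := fun w => ⟨⁅w.1, u.1⁆, hcl _ _⟩
       map_one' := by apply Subtype.ext; simp
       map_mul' := by
        intro a b
        apply Subtype.ext
        exact comm_mul_left hcl a.1 b.1 u.1 }, by
      intro w hw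
      rw [MonoidHom.mem_ker]
      apply Subtype.ext
      exact hUM u.1 u.2 w.1 hw⟩
  haveI : Finite (center P) := inferInstance
  haveI := finite_hom W (center P)
  have h1 : (centralizer (W : Set P)).relIndex U ≤
      Nat.card {f : W →* center P // M.subgroupOf W ≤ f.ker} := by
    apply Nat.card_le_card_of_injective
      (fun q : U ⧸ (centralizer (W : Set P)).subgroupOf U => ψ q.out)
    intro q q' hq
    rw [← QuotientGroup.out_eq' q, ← QuotientGroup.out_eq' q', QuotientGroup.eq, mem_subgroupOf,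
      mem_centralizer_iff]
    intro w hw
    have h2 := congrArg (fun f : {f : W →* center P // M.subgroupOf W ≤ f.ker} =>
      ((f.1 ⟨w, hw⟩ : center P) : P)) hq
    have h3 : ⁅w, (q.out : P)⁆ = ⁅w, (q'.out : P)⁆ := h2
    have h4 : ⁅w, (q.out : P)⁻¹ * (q'.out : P)⁆ = 1 := by
      rw [comm_mul_right hcl, ← h3, ← comm_mul_right hcl, inv_mul_cancel]
      simp
    rw [commutatorElement_eq_one_iff_mul_comm] at h4
    simpa using h4
  exact h1.trans (card_hom_ker_le hcomm hZ _)

/-- The order of an extraspecial p-group is an odd power p^(2n+1) of p with n ≥ 1. -/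
theorem result {P : Type*} [Group P] [Finite P] {p : ℕ} [Fact p.Prime] (h : Cfsg.IsExtraspecial p P) : ∃ n : ℕ, 1 ≤ n ∧ Nat.card P = p ^ (2 * n + 1) := by
  obtain ⟨⟨hP, hfr, hcom⟩, hcard⟩ := h
  have hpp : p.Prime := Fact.out
  have hcl : Cl2 P := cl2_of_commutator_le_center hcom.le
  have hZp : (Nat.card (center P)).Prime := by rw [hcard]; exact hpp
  haveI : Group.IsNilpotent P := hP.isNilpotent
  -- a maximal normal abelian subgroup
  obtain ⟨A, ⟨hAn, hAc⟩, hAmax⟩ : ∃ A : Subgroup P, (A.Normal ∧ IsMulCommutative A) ∧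
      ∀ M : Subgroup P, M.Normal → IsMulCommutative M → A ≤ M → M = A := by
    have hfin : {M : Subgroup P | M.Normal ∧ IsMulCommutative M}.Finite := Set.toFinite _
    have hne : {M : Subgroup P | M.Normal ∧ IsMulCommutative M}.Nonempty :=
      ⟨⊥, inferInstance, inferInstance⟩
    obtain ⟨A, hA⟩ := hfin.exists_maximal hne
    exact ⟨A, hA.1, fun M h1 h2 h3 => le_antisymm (hA.2 ⟨h1, h2⟩ h3) h3⟩
  have hCA : centralizer (A : Set P) = A := Cfsg.Agent.S0015.result A hAmax
  have hZA : center P ≤ A := by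
    rw [← hCA]; exact center_le_centralizer _
  have h1 := pairing_le hcl hZp ⊤ A (center P) (by
    intro u _ m hm
    rw [commutatorElement_eq_one_iff_mul_comm]
    exact (mem_center_iff.1 hm u).symm)
  have h2 := pairing_le hcl hZp A ⊤ A (by
    intro u hu m hm
    rw [commutatorElement_eq_one_iff_mul_comm]
    exact congrArg Subtype.val (hAc.is_comm.comm (⟨m, hm⟩ : A) ⟨u, hu⟩))
  rw [hCA, relIndex_top_right] at h1
  rw [coe_top, centralizer_univ, relIndex_top_right] at h2
  have hxy : A.index = (center P).relIndex A := le_antisymm h1 h2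
  have hcardP : Nat.card P = p * (A.index * A.index) := by
    rw [← card_mul_index (center P), hcard, ← relIndex_mul_index hZA, ← hxy]
  obtain ⟨n, hn⟩ : ∃ n, A.index = p ^ n := by
    obtain ⟨k, hk⟩ := IsPGroup.iff_card.1 hP
    have : A.index ∣ p ^ k := by rw [← hk]; exact index_dvd_card A
    obtain ⟨n, -, hn⟩ := (Nat.dvd_prime_pow hpp).1 this
    exact ⟨n, hn⟩
  refine ⟨n, ?_, ?_⟩
  · by_contra hn0
    have hn0' : n = 0 := by omega
    rw [hn0', pow_zero, index_eq_one] at hn
    have hab : commutator P = ⊥ := by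
      rw [commutator_def, commutator_eq_bot_iff_le_centralizer, ← hn, hCA]
    rw [hcom] at hab
    rw [hab, card_bot] at hcard
    exact hpp.one_lt.ne hcard
  · rw [hcardP, hn]; ring

end Cfsg.Agent.S0095
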