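import Cfsg.Statements.S0214
import Cfsg.Agent.Lib.Helper1_Invol2
import Cfsg.Agent.Lib.Helper4_Syl

set_option autoImplicit false
open Cfsg

namespace Cfsg.Agent.S0214

open Cfsg.Agent.Lib.Helper1_Invol Cfsg.Agent.Lib.Helper1_Invol2 Cfsg.Agent.Lib.Helper4_Syl
open scoped Pointwise

/-- Let H be a proper subgroup of the finite group G and P a nontrivial Sylow 2-subgroup of H. Then H is strongly embedded in G if and only if N_G(X) ≤ H for every nontrivial subgroup X of P. -/
theorem result {G : Type*} [Group G] [Finite G] (H : Subgroup G) (hH : H ≠ ⊤) (P : Sylow 2 ↥H) (hP : (P : Subgroup ↥H) ≠ ⊥) : Cfsg.IsStronglyEmbedded H ↔ (∀ X : Subgroup ↥H, X ≤ (P : Subgroup ↥H) → X ≠ ⊥ → Subgroup.normalizer ((X.map H.subtype : Subgroup G) : Set G) ≤ H) := by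
  haveI : Fact (Nat.Prime 2) := ⟨Nat.prime_two⟩
  set P0 : Subgroup G := (P : Subgroup H).map H.subtype with hP0def
  have hP0 : IsSylIn 2 P0 H := IsSylIn.of_sylow H P
  have hP0ne : P0 ≠ ⊥ := by
    intro h
    apply hP
    rw [hP0def, Subgroup.map_eq_bot_iff_of_injective _ H.subtype_injective] at h
    exact h
  constructor
  · rintro ⟨_, _, hse⟩ X hXP hX g hg
    by_contra hgH
    have hodd := hse g hgH
    set Y : Subgroup G := X.map H.subtype with hY
    have hYH : Y ≤ H := Subgroup.map_subtype_le _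
    have hYne : Y ≠ ⊥ := by
      intro h
      apply hX
      rw [hY, Subgroup.map_eq_bot_iff_of_injective _ H.subtype_injective] at h
      exact h
    have hYp : IsPGroup 2 Y := (P.2.to_le hXP).map _
    have hYg : MulAut.conj g • Y = Y := mem_normalizer_iff_conj_smul.1 hg
    have hYD : Y ≤ H ⊓ H.map (MulAut.conj g).toMonoidHom := by
      refine le_inf hYH ?_
      rw [map_conj_eq, ← hYg]
      exact Subgroup.pointwise_smul_le_pointwise_smul_iff.2 hYH
    have h2 := (dvd_card_of_ne_bot hYp hYne).trans (Subgroup.card_dvd_of_le hYD)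
    exact (Nat.not_even_iff_odd.2 hodd) (even_iff_two_dvd.2 h2)
  · intro hN
    have hN' : ∀ Y : Subgroup G, Y ≤ P0 → Y ≠ ⊥ → Subgroup.normalizer (Y : Set G) ≤ H := by
      intro Y hYP hYne
      have hYH : Y ≤ H := hYP.trans hP0.le
      have h1 := hN (Y.subgroupOf H) ?_ ?_
      · rwa [Subgroup.map_subgroupOf_eq_of_le hYH] at h1
      · intro x hx
        rw [Subgroup.mem_subgroupOf] at hx
        obtain ⟨q, hq, hqx⟩ := hYP hx
        have : q = x := Subtype.ext hqx
        rw [← this]; exact hq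
      · intro h
        apply hYne
        rw [← Subgroup.map_subgroupOf_eq_of_le hYH, h, Subgroup.map_bot]
    have hN'' : ∀ Y : Subgroup G, Y ≤ H → IsPGroup 2 Y → Y ≠ ⊥ →
        Subgroup.normalizer (Y : Set G) ≤ H := by
      intro Y hYH hYp hYne
      obtain ⟨S', hS', hYS'⟩ := exists_isSylIn_ge hYH hYp
      obtain ⟨m, hm, hmS⟩ := hS'.conj hP0
      have h1 := hN' (MulAut.conj m • Y)
        (by rw [← hmS]; exact Subgroup.pointwise_smul_le_pointwise_smul_iff.2 hYS')
        (by
          intro h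
          apply hYne
          have := congrArg (fun Z => MulAut.conj m⁻¹ • Z) h
          simpa [conj_inv_smul_smul] using this)
      rw [normalizer_conj, conj_smul_le_iff, conj_smul_eq_of_mem (inv_mem hm)] at h1
      exact h1
    have hevenH : Even (Nat.card H) :=
      even_iff_two_dvd.2 ((dvd_card_of_ne_bot hP0.isPGroup hP0ne).trans (Subgroup.card_dvd_of_le hP0.le))
    refine ⟨hH, hevenH, ?_⟩
    intro g hgH
    by_contra hodd
    rw [Nat.not_odd_iff_even, map_conj_eq] at hodd
    set D : Subgroup G := H ⊓ MulAut.conj g • H with hD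
    obtain ⟨T, hT⟩ := exists_isSylIn 2 D
    have hTne : T ≠ ⊥ := hT.ne_bot_of_dvd hodd.two_dvd
    have hTH : T ≤ H := hT.le.trans inf_le_left
    have hTg : T ≤ MulAut.conj g • H := hT.le.trans inf_le_right
    have hNT := hN'' T hTH hT.isPGroup hTne
    obtain ⟨S2, hS2, hTS2⟩ := exists_isSylIn_ge hTg hT.isPGroup
    have hTS : T = S2 := by
      by_contra hne
      obtain ⟨x, hxS, hxT, hxN⟩ := exists_mem_normalizer_not_mem hS2.isPGroup hTS2 hne
      have h1 := hT.eq_of_le (Q := S2 ⊓ Subgroup.normalizer (T : Set G))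
        (le_inf (inf_le_right.trans hNT) (inf_le_left.trans hS2.le))
        (hS2.isPGroup.to_le inf_le_left) (le_inf hTS2 Subgroup.le_normalizer)
      apply hxT
      rw [← h1]
      exact ⟨hxS, hxN⟩
    subst hTS
    obtain ⟨m, hm, hmT⟩ := (hP0.smul g).conj hS2
    obtain ⟨S1, hS1, hTS1⟩ := exists_isSylIn_ge hTH hT.isPGroup
    obtain ⟨h, hh, hhS⟩ := hS1.conj hP0
    have hcard : Nat.card S1 ≤ Nat.card T := by
      rw [← card_conj_smul h S1, hhS, ← hmT, card_conj_smul, card_conj_smul]
    have hTS1' : T = S1 := Subgroup.eq_of_le_of_card_ge hTS1 hcard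
    rw [← hTS1', ← hmT, ← conj_mul_smul, ← conj_mul_smul] at hhS
    have h1 : h * (m * g) ∈ H := by
      rw [← mul_assoc]
      exact hN' P0 le_rfl hP0ne (mem_normalizer_iff_conj_smul.2 hhS)
    rw [mem_conj_smul] at hm
    apply hgH
    have e : g = (h⁻¹ * (h * (m * g))) * (g⁻¹ * m * g)⁻¹ := by group
    rw [e]
    exact mul_mem (mul_mem (inv_mem hh) h1) (inv_mem hm)

end Cfsg.Agent.S0214
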