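import Cfsg.Statements.S0223
import Cfsg.Agent.Lib.Helper1_Invol2
import Cfsg.Agent.Lib.Helper7_Conj

set_option autoImplicit false
open Cfsg

namespace Cfsg.Agent.S0223

open Cfsg.Agent.Lib.Helper1_Invol Cfsg.Agent.Lib.Helper1_Invol2 Cfsg.Agent.Lib.Helper7_Conj

theorem not_odd_of_invol_mem {G : Type*} [Group G] [Finite G] {D : Subgroup G} {t : G}
    (ht : orderOf t = 2) (htD : t ∈ D) : ¬ Odd (Nat.card D) := by
  intro h
  apply ne_one_of_order ht
  apply eq_one_of_two_pow_of_odd h htD (k := 1)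
  rw [pow_one, pow_two]; exact mul_self_of_order ht

theorem exists_invol_of_not_odd {G : Type*} [Group G] [Finite G] {D : Subgroup G}
    (h : ¬ Odd (Nat.card D)) : ∃ t ∈ D, orderOf t = 2 := by
  haveI : Fact (Nat.Prime 2) := ⟨Nat.prime_two⟩
  rw [Nat.not_odd_iff_even] at h
  obtain ⟨t, ht⟩ := exists_prime_orderOf_dvd_card' (G := D) 2 h.two_dvd
  exact ⟨t.1, t.2, by rw [Subgroup.orderOf_coe]; exact ht⟩

/-- Let H be a proper subgroup of even order of the finite group G. Then H is strongly embedded if and only if (i) C_G(t) ≤ H for every involution t of H and (ii) H controls fusion of its involutions: involutions of H conjugate in G are conjugate in H. -/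
theorem result {G : Type*} [Group G] [Finite G] (H : Subgroup G) (hH : H ≠ ⊤) (heven : Even (Nat.card H)) : Cfsg.IsStronglyEmbedded H ↔ ((∀ t ∈ H, orderOf t = 2 → Subgroup.centralizer ({t} : Set G) ≤ H) ∧ (∀ t ∈ H, ∀ s ∈ H, orderOf t = 2 → orderOf s = 2 → IsConj t s → ∃ h ∈ H, h * t * h⁻¹ = s)) := by
  constructor
  · rintro ⟨_, _, hse⟩
    refine ⟨?_, ?_⟩
    · intro t htH ht g hg
      by_contra hgH
      apply not_odd_of_invol_mem ht (D := H ⊓ H.map (MulAut.conj g).toMonoidHom) _ (hse g hgH)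
      refine ⟨htH, ?_⟩
      show t ∈ H.map (MulAut.conj g).toMonoidHom
      rw [mem_cj]
      have := Subgroup.mem_centralizer_singleton_iff.1 hg
      have e : g⁻¹ * t * g = t := by rw [mul_assoc, ← this, inv_mul_cancel_left]
      rw [e]; exact htH
    · intro t htH s hsH ht hs hconj
      obtain ⟨g, hg⟩ := isConj_iff.1 hconj
      by_cases hgH : g ∈ H
      · exact ⟨g, hgH, hg⟩
      · exfalso
        apply not_odd_of_invol_mem hs (D := H ⊓ H.map (MulAut.conj g).toMonoidHom) _ (hse g hgH)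
        refine ⟨hsH, ?_⟩
        rw [← hg]
        exact conj_mem_cj htH
  · rintro ⟨hC, hF⟩
    refine ⟨hH, heven, ?_⟩
    intro g hgH
    by_contra hodd
    obtain ⟨s, hsD, hs⟩ := exists_invol_of_not_odd hodd
    obtain ⟨hsH, hsg⟩ := Subgroup.mem_inf.1 hsD
    rw [mem_cj] at hsg
    have ht : orderOf (g⁻¹ * s * g) = 2 := by
      have := orderOf_conj g⁻¹ s
      rw [inv_inv] at this
      rw [this]; exact hs
    obtain ⟨h, hhH, hh⟩ := hF _ hsg s hsH ht hs (isConj_iff.2 ⟨g, by group⟩)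
    apply hgH
    have h1 : h⁻¹ * g ∈ Subgroup.centralizer ({g⁻¹ * s * g} : Set G) := by
      rw [Subgroup.mem_centralizer_singleton_iff]
      have : s = h * (g⁻¹ * s * g) * h⁻¹ := hh.symm
      calc h⁻¹ * g * (g⁻¹ * s * g) = h⁻¹ * s * g := by group
        _ = h⁻¹ * (h * (g⁻¹ * s * g) * h⁻¹) * g := by rw [← this]
        _ = g⁻¹ * s * g * (h⁻¹ * g) := by group
    have h2 := hC _ hsg ht h1
    have : g = h * (h⁻¹ * g) := by group
    rw [this]; exact mul_mem hhH h2

end Cfsg.Agent.S0223
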