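import Cfsg.Statements.S0224
import Cfsg.Agent.Lib.Helper1_Invol2
import Cfsg.Agent.Lib.Helper7_Conj
import Cfsg.Agent.S0223

set_option autoImplicit false
open Cfsg

namespace Cfsg.Agent.S0224

open Cfsg.Agent.Lib.Helper1_Invol Cfsg.Agent.Lib.Helper1_Invol2 Cfsg.Agent.Lib.Helper7_Conj
open Cfsg.Agent.S0223

theorem fixed_iff {G : Type*} [Group G] (H : Subgroup G) (t g : G) :
    t • (QuotientGroup.mk g : G ⧸ H) = QuotientGroup.mk g ↔ g⁻¹ * t * g ∈ H := by
  rw [MulAction.Quotient.smul_mk, eq_comm, QuotientGroup.eq, smul_eq_mul, mul_assoc]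

/-- Let H be a proper subgroup of even order of the finite group G. Then H is strongly embedded if and only if each involution of H fixes exactly one point (namely the coset H) in the action of G on the cosets of H. -/
theorem result {G : Type*} [Group G] [Finite G] (H : Subgroup G) (hH : H ≠ ⊤) (heven : Even (Nat.card H)) : Cfsg.IsStronglyEmbedded H ↔ ∀ t ∈ H, orderOf t = 2 → Nat.card {c : G ⧸ H // t • c = c} = 1 := by
  constructor
  · rintro ⟨_, _, hse⟩ t htH ht
    rw [Nat.card_eq_one_iff_unique]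
    refine ⟨⟨?_⟩, ⟨⟨QuotientGroup.mk 1, by rw [fixed_iff]; simpa using htH⟩⟩⟩
    have key : ∀ c : {c : G ⧸ H // t • c = c}, c.1 = QuotientGroup.mk 1 := by
      rintro ⟨c, hc⟩
      induction c using QuotientGroup.induction_on with
      | H g =>
        rw [fixed_iff] at hc
        show (QuotientGroup.mk g : G ⧸ H) = QuotientGroup.mk 1
        rw [eq_comm, QuotientGroup.eq, inv_one, one_mul]
        by_contra hgH
        apply not_odd_of_invol_mem ht (D := H ⊓ H.map (MulAut.conj g).toMonoidHom) _ (hse g hgH)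
        exact Subgroup.mem_inf.2 ⟨htH, mem_cj.2 hc⟩
    intro a b
    exact Subtype.ext ((key a).trans (key b).symm)
  · intro hfix
    refine ⟨hH, heven, ?_⟩
    intro g hgH
    by_contra hodd
    obtain ⟨s, hsD, hs⟩ := exists_invol_of_not_odd hodd
    obtain ⟨hsH, hsg⟩ := Subgroup.mem_inf.1 hsD
    rw [mem_cj] at hsg
    have h1 := hfix s hsH hs
    rw [Nat.card_eq_one_iff_unique] at h1
    obtain ⟨hss, _⟩ := h1
    have h2 := hss.elim (⟨QuotientGroup.mk 1, by rw [fixed_iff]; simpa using hsH⟩ : {c : G ⧸ H // s • c = c})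
      ⟨QuotientGroup.mk g, by rw [fixed_iff]; exact hsg⟩
    have h3 : (QuotientGroup.mk 1 : G ⧸ H) = QuotientGroup.mk g := congrArg Subtype.val h2
    rw [QuotientGroup.eq, inv_one, one_mul] at h3
    exact hgH h3

end Cfsg.Agent.S0224
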