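import Cfsg.Statements.S0249
import Cfsg.Agent.Lib.Helper1_SL

set_option autoImplicit false
open Cfsg

namespace Cfsg.Agent.S0249

open Matrix Matrix.SpecialLinearGroup MulAction
open scoped LinearAlgebra.Projectivization

theorem iSup_lineStab_eq_top {F : Type*} [Field F] {ι : Type*} [Fintype ι] [DecidableEq ι]
    [Nontrivial ι] :
    (⨆ p : ℙ F (ι → F), lineStab p.submodule) = (⊤ : Subgroup (SpecialLinearGroup ι F)) := by
  rw [eq_top_iff]
  intro A _
  refine Cfsg.Agent.Lib.Helper1_SL.transvection_induction
    (fun A => A ∈ (⨆ p : ℙ F (ι → F), lineStab p.submodule)) ?_ (fun _ _ => mul_mem) A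
  intro i j hij c
  have h1 := SL2Gen.transvection_mem_lineStab (F := F) hij c
  rw [← Projectivization.submodule_mk (K := F) _ (Pi.single_ne_zero_iff.2 one_ne_zero)] at h1
  exact Subgroup.mem_iSup_of_mem _ h1

/-- The Iwasawa structure on `PSL(ι, F)`. -/
noncomputable def iwasawa {F : Type*} [Field F] {ι : Type*} [Fintype ι] [DecidableEq ι]
    [Nontrivial ι] :
    IwasawaStructure (Matrix.ProjectiveSpecialLinearGroup ι F) (ℙ F (ι → F)) where
  T := PSL.iwasawaT
  is_comm p := by
    have hSL : IsMulCommutative (lineStab (F := F) (ι := ι) p.submodule) := by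
      rw [← Projectivization.mk_rep p, Projectivization.submodule_mk]
      exact lineStab_isMulCommutative_of_span p.rep p.rep_nonzero
    exact Subgroup.map_isMulCommutative _ _
  is_conj g p := by
    obtain ⟨g_SL, rfl⟩ := QuotientGroup.mk_surjective g
    rw [Matrix.ProjectiveSpecialLinearGroup.smul_proj_mk]
    change Subgroup.map _ _ = _
    rw [PSL.smul_submodule, Matrix.SpecialLinearGroup.lineStab_smul,
      PSL.iwasawaT_map_conj]
  is_generator := by
    have step1 : iSup (PSL.iwasawaT (F := F) (ι := ι)) =
        Subgroup.map (QuotientGroup.mk' (Subgroup.center (Matrix.SpecialLinearGroup ι F)))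
          (⨆ p : ℙ F (ι → F),
            Matrix.SpecialLinearGroup.lineStab (F := F) (ι := ι) p.submodule) := by
      rw [Subgroup.map_iSup]
    rw [step1, iSup_lineStab_eq_top]
    exact Subgroup.map_top_of_surjective _ (QuotientGroup.mk'_surjective _)

/-- PSL_n(F) is simple for n at least 3, over any field F. -/
theorem result {F : Type*} [Field F] (n : ℕ) (hn : 3 ≤ n) : IsSimpleGroup (Matrix.ProjectiveSpecialLinearGroup (Fin n) F) := by
  have : Nontrivial (Fin n) := Fin.nontrivial_iff_two_le.2 (by omega)
  have hperf : Group.IsPerfect (Matrix.SpecialLinearGroup (Fin n) F) :=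
    ⟨Cfsg.Agent.Lib.Helper1_SL.commutator_eq_top (by simpa using hn)⟩
  have hperf' : Group.IsPerfect (Matrix.ProjectiveSpecialLinearGroup (Fin n) F) := inferInstance
  exact MulAction.IwasawaStructure.isSimpleGroup hperf'.commutator_eq_top iwasawa inferInstance

end Cfsg.Agent.S0249
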