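import Cfsg.Statements.S0647
import Mathlib
import Cfsg.Agent.Lib.Helper2_EA

set_option autoImplicit false
open Cfsg

namespace Cfsg.Agent.S0647

open Cfsg.Agent.Lib.Helper2_Basic Cfsg.Agent.Lib.Helper2_Sylow Cfsg.Agent.Lib.Helper2_EA

/-- For a nonempty family of maximal abelian subgroups of a finite group, the intersection of the family is the centre of the subgroup it generates, which is also the full centralizer of that subgroup. -/
theorem result {S : Type*} [Group S] [Finite S] (𝒜 : Set (Subgroup S)) (hne : 𝒜.Nonempty) (hab : ∀ A ∈ 𝒜, IsMulCommutative A) (hmax : ∀ A ∈ 𝒜, ∀ B : Subgroup S, IsMulCommutative B → A ≤ B → B = A) : sInf 𝒜 = sSup 𝒜 ⊓ Subgroup.centralizer ((sSup 𝒜 : Subgroup S) : Set S) ∧ sInf 𝒜 = Subgroup.centralizer ((sSup 𝒜 : Subgroup S) : Set S) := by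
  obtain ⟨A₀, hA₀⟩ := hne
  have ha : sInf 𝒜 ≤ Subgroup.centralizer ((sSup 𝒜 : Subgroup S) : Set S) := by
    rw [Subgroup.le_centralizer_iff]
    apply sSup_le
    intro A hA
    apply le_centralizer_of_comm
    intro a ha x hx
    exact isMulCommutative_iff_of_setLike.mp (hab A hA) a ha x ((sInf_le hA : sInf 𝒜 ≤ A) hx)
  have hb : Subgroup.centralizer ((sSup 𝒜 : Subgroup S) : Set S) ≤ sInf 𝒜 := by
    apply le_sInf
    intro A hA x hx
    have hxa : ∀ a ∈ A, a * x = x * a :=
      fun a ha => Subgroup.mem_centralizer_iff.mp hx a ((le_sSup hA : A ≤ sSup 𝒜) ha)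
    have hAc := isMulCommutative_iff_of_setLike.mp (hab A hA)
    have hcomm : IsMulCommutative (A ⊔ Subgroup.zpowers x : Subgroup S) := by
      rw [Subgroup.sup_eq_closure]
      apply Subgroup.isMulCommutative_closure
      have hz : ∀ a ∈ A, ∀ b ∈ Subgroup.zpowers x, a * b = b * a := by
        intro a ha b hb
        obtain ⟨i, rfl⟩ := Subgroup.mem_zpowers_iff.mp hb
        exact ((show Commute a x from hxa a ha).zpow_right i).eq
      rintro u (hu | hu) v (hv | hv)
      · exact hAc u hu v hv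
      · exact hz u hu v hv
      · exact (hz v hv u hu).symm
      · obtain ⟨i, rfl⟩ := Subgroup.mem_zpowers_iff.mp hu
        obtain ⟨j, rfl⟩ := Subgroup.mem_zpowers_iff.mp hv
        rw [← zpow_add, ← zpow_add, add_comm]
    have := hmax A hA _ hcomm le_sup_left
    rw [← this]
    exact (le_sup_right : Subgroup.zpowers x ≤ _) (Subgroup.mem_zpowers x)
  have hc : sInf 𝒜 ≤ sSup 𝒜 := (sInf_le hA₀).trans (le_sSup hA₀)
  exact ⟨le_antisymm (le_inf hc ha) (inf_le_right.trans hb), le_antisymm ha hb⟩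

end Cfsg.Agent.S0647
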