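import Cfsg.Statements.S0649
import Mathlib


set_option autoImplicit false
open Cfsg

namespace Cfsg.Agent.S0649

/-- In the Glauberman replacement situation, if B does not normalize A then some element of B normalizes N_S(A) without normalizing A. -/
theorem result {S : Type*} [Group S] [Finite S] {p : ℕ} [Fact p.Prime] (hS : IsPGroup p S) (B : Subgroup S) [B.Normal] (hB2 : p = 2 → IsMulCommutative B) (A : Subgroup S) (hA : IsMulCommutative A) (hBA : ⁅B, B⁆ ≤ A) (hnot : ¬ B ≤ Subgroup.normalizer (A : Set S)) : ∃ b ∈ B, b ∈ Subgroup.normalizer ((Subgroup.normalizer (A : Set S)) : Set S) ∧ b ∉ Subgroup.normalizer (A : Set S) := by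
  open scoped commutatorElement in
  haveI := hS.isNilpotent
  set N := Subgroup.normalizer (A : Set S) with hN
  obtain ⟨k, hk⟩ := (inferInstance : Group.IsNilpotent S).nilpotent'
  have hex : ∃ i, ¬ (B ⊓ Subgroup.upperCentralSeries S i ≤ N) := ⟨k, by rw [hk, inf_top_eq]; exact hnot⟩
  classical
  set i := Nat.find hex with hi
  have h1 : ¬ (B ⊓ Subgroup.upperCentralSeries S i ≤ N) := Nat.find_spec hex
  have hi0 : i ≠ 0 := by
    intro h0
    rw [h0] at h1
    apply h1
    simp
  obtain ⟨j, hj⟩ := Nat.exists_eq_succ_of_ne_zero hi0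
  have h2 : B ⊓ Subgroup.upperCentralSeries S j ≤ N := by
    by_contra hcon
    have := Nat.find_min' hex hcon
    omega
  rw [SetLike.not_le_iff_exists] at h1
  obtain ⟨b, hb, hbN⟩ := h1
  rw [hj] at hb
  have key : ∀ b ∈ B ⊓ Subgroup.upperCentralSeries S (j+1), ∀ n ∈ N, b * n * b⁻¹ ∈ N := by
    intro b hb n hn
    have h3 : ⁅b, n⁆ ∈ B ⊓ Subgroup.upperCentralSeries S j := by
      refine ⟨?_, Subgroup.mem_upperCentralSeries_succ_iff.mp hb.2 n⟩
      rw [commutatorElement_def]
      have : b * n * b⁻¹ * n⁻¹ = b * (n * b⁻¹ * n⁻¹) := by group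
      rw [this]
      exact B.mul_mem hb.1 (Subgroup.Normal.conj_mem inferInstance _ (B.inv_mem hb.1) n)
    have : b * n * b⁻¹ = ⁅b, n⁆ * n := by rw [commutatorElement_def]; group
    rw [this]
    exact N.mul_mem (h2 h3) hn
  refine ⟨b, hb.1, ?_, hbN⟩
  rw [Subgroup.mem_normalizer_iff]
  intro n
  constructor
  · exact key b hb n
  · intro h
    have := key b⁻¹ (Subgroup.inv_mem _ hb) _ h
    simpa [mul_assoc] using this

end Cfsg.Agent.S0649
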