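import Cfsg.Statements.S0650
import Cfsg.Agent.Lib.Helper4_Repl

set_option autoImplicit false
open Cfsg

namespace Cfsg.Agent.S0650

open Cfsg.Agent.Lib.Helper4_Repl
open scoped commutatorElement

/-- The Glauberman replacement Theorem: from an abelian A ⊇ [B, B] not normalized by the normal subgroup B and a suitable b ∈ B one gets the abelian subgroup A* = (A ∩ b⁻¹Ab)[A, b] of the same order, containing [B, B], meeting B strictly more than A does but not containing B, mutually normalizing with A, with strictly larger normalizer containing b, and (p odd) of no larger exponent. -/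
theorem result {S : Type*} [Group S] [Finite S] {p : ℕ} [Fact p.Prime] (hS : IsPGroup p S) (B : Subgroup S) [B.Normal] (hB2 : p = 2 → IsMulCommutative B) (A : Subgroup S) (hA : IsMulCommutative A) (hBA : ⁅B, B⁆ ≤ A) (hnot : ¬ B ≤ Subgroup.normalizer (A : Set S)) (b : S) (hb : b ∈ B) (hbN : b ∈ Subgroup.normalizer ((Subgroup.normalizer (A : Set S)) : Set S)) (hbA : b ∉ Subgroup.normalizer (A : Set S)) : Nat.card ↥((A ⊓ A.map (MulAut.conj (b⁻¹)).toMonoidHom) ⊔ Subgroup.closure {g : S | ∃ a ∈ A, g = a * b⁻¹ * a⁻¹ * b}) = Nat.card A ∧ IsMulCommutative ↥((A ⊓ A.map (MulAut.conj (b⁻¹)).toMonoidHom) ⊔ Subgroup.closure {g : S | ∃ a ∈ A, g = a * b⁻¹ * a⁻¹ * b}) ∧ ⁅B, B⁆ ≤ ((A ⊓ A.map (MulAut.conj (b⁻¹)).toMonoidHom) ⊔ Subgroup.closure {g : S | ∃ a ∈ A, g = a * b⁻¹ * a⁻¹ * b}) ∧ A ⊓ B < ((A ⊓ A.map (MulAut.conj (b⁻¹)).toMonoidHom) ⊔ Subgroup.closure {g : S | ∃ a ∈ A, g = a * b⁻¹ * a⁻¹ * b}) ⊓ B ∧ ((A ⊓ A.map (MulAut.conj (b⁻¹)).toMonoidHom)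 ⊔ Subgroup.closure {g : S | ∃ a ∈ A, g = a * b⁻¹ * a⁻¹ * b}) ⊓ B < B ∧ A ≤ Subgroup.normalizer (((A ⊓ A.map (MulAut.conj (b⁻¹)).toMonoidHom) ⊔ Subgroup.closure {g : S | ∃ a ∈ A, g = a * b⁻¹ * a⁻¹ * b} : Subgroup S) : Set S) ∧ ((A ⊓ A.map (MulAut.conj (b⁻¹)).toMonoidHom) ⊔ Subgroup.closure {g : S | ∃ a ∈ A, g = a * b⁻¹ * a⁻¹ * b}) ≤ Subgroup.normalizer (A : Set S) ∧ b ∈ Subgroup.normalizer (((A ⊓ A.map (MulAut.conj (b⁻¹)).toMonoidHom) ⊔ Subgroup.closure {g : S | ∃ a ∈ A, g = a * b⁻¹ * a⁻¹ * b} : Subgroup S) : Set S) ∧ Subgroup.normalizer (A : Set S) < Subgroup.normalizer (((A ⊓ A.map (MulAut.conj (b⁻¹)).toMonoidHom) ⊔ Subgroup.closure {g : S | ∃ a ∈ A, g = a * b⁻¹ * a⁻¹ * b} : Subgroup S) : Set S) ∧ (p ≠ 2 → Monoid.exponent ↥((A ⊓ A.map (MulAut.conj (b⁻¹)).toMonoidHom) ⊔ Subgroup.closure {g : S | ∃ a ∈ A, g = a * b⁻¹ * a⁻¹ * b}) ∣ Monoid.exponent A) := by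
  change Nat.card ↥(Astar A b) = Nat.card A ∧ IsMulCommutative ↥(Astar A b) ∧ ⁅B, B⁆ ≤ Astar A b ∧
    A ⊓ B < Astar A b ⊓ B ∧ Astar A b ⊓ B < B ∧
    A ≤ Subgroup.normalizer ((Astar A b : Subgroup S) : Set S) ∧
    Astar A b ≤ Subgroup.normalizer (A : Set S) ∧
    b ∈ Subgroup.normalizer ((Astar A b : Subgroup S) : Set S) ∧
    Subgroup.normalizer (A : Set S) < Subgroup.normalizer ((Astar A b : Subgroup S) : Set S) ∧
    (p ≠ 2 → Monoid.exponent ↥(Astar A b) ∣ Monoid.exponent A)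
  have hAc : ∀ x ∈ A, ∀ y ∈ A, x * y = y * x := fun x hx y hy =>
    congrArg Subtype.val (hA.is_comm.comm ⟨x, hx⟩ ⟨y, hy⟩)
  have hBn : ∀ g : S, ∀ x ∈ B, g * x * g⁻¹ ∈ B := fun g x hx => ‹B.Normal›.conj_mem x hx g
  have hd : ReplData A B b := by
    refine ⟨⟨hAc, ?_, ?_⟩, ?_, hBA, hb, hbA⟩
    · intro a ha
      have h := (Subgroup.mem_normalizer_iff.1 (Subgroup.inv_mem _ hbN) a).1 (Subgroup.le_normalizer ha)
      simpa using h
    · intro a ha
      exact (Subgroup.mem_normalizer_iff.1 hbN a).1 (Subgroup.le_normalizer ha)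
    · rw [Subgroup.normalizer_eq_top]; exact le_top
  have hAp : IsPGroup p A := hS.to_subgroup A
  have hc : IsMulCommutative (Astar A b) := by
    by_cases hp : p = 2
    · have hB := hB2 hp
      exact hd.comm_of_comm (fun x hx y hy => congrArg Subtype.val (hB.is_comm.comm ⟨x, hx⟩ ⟨y, hy⟩))
    · exact hd.comm_odd hp hAp
  have hcl := hd.rs.cl2
  have hZA : A ⊓ Ab A b ≤ Astar A b := le_sup_left
  have hbN' : b ∈ Subgroup.normalizer ((Astar A b : Subgroup S) : Set S) := by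
    have h1 : b⁻¹ ∈ Subgroup.normalizer ((Astar A b : Subgroup S) : Set S) := by
      rw [Cfsg.Agent.Lib.Helper3_Local.mem_normalizer_iff_conj_le]
      have hle : Astar A b ≤ (Astar A b).comap (MulAut.conj b⁻¹).toMonoidHom := by
        apply sup_le
        · intro z hz
          show (MulAut.conj b⁻¹) z ∈ Astar A b
          have e : (MulAut.conj b⁻¹) z = (uu b z)⁻¹ * z := by
            simp only [MulAut.conj_apply, uu]; group
          rw [e]
          exact Subgroup.mul_mem _ (Subgroup.inv_mem _ (hd.rs.uu_mem_Astar hz.1)) (hZA hz)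
        · rw [Subgroup.closure_le]
          rintro _ ⟨a, ha, rfl⟩
          show (MulAut.conj b⁻¹) (uu b a) ∈ Astar A b
          have e : (MulAut.conj b⁻¹) (uu b a) = (b⁻¹ * uu b a * b * (uu b a)⁻¹) * uu b a := by
            simp only [MulAut.conj_apply]; group
          rw [e]
          exact Subgroup.mul_mem _ (hZA (hd.h3 a ha)) (hd.rs.uu_mem_Astar ha)
      intro x hx
      exact hle hx
    simpa using Subgroup.inv_mem _ h1
  have hNN : Subgroup.normalizer (A : Set S) ≤ Subgroup.normalizer ((Astar A b : Subgroup S) : Set S) := by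
    intro n hn
    rw [Cfsg.Agent.Lib.Helper3_Local.mem_normalizer_iff_conj_le]
    have hm : b * n * b⁻¹ ∈ Subgroup.normalizer (A : Set S) := (Subgroup.mem_normalizer_iff.1 hbN n).1 hn
    have hle : Astar A b ≤ (Astar A b).comap (MulAut.conj n).toMonoidHom := by
      apply sup_le
      · intro z hz
        show (MulAut.conj n) z ∈ Astar A b
        apply hZA
        rw [MulAut.conj_apply]
        refine ⟨(Subgroup.mem_normalizer_iff.1 hn z).1 hz.1, mem_Ab.2 ?_⟩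
        have e : b * (n * z * n⁻¹) * b⁻¹ = (b * n * b⁻¹) * (b * z * b⁻¹) * (b * n * b⁻¹)⁻¹ := by group
        rw [e]
        exact (Subgroup.mem_normalizer_iff.1 hm _).1 (mem_Ab.1 hz.2)
      · rw [Subgroup.closure_le]
        rintro _ ⟨a, ha, rfl⟩
        show (MulAut.conj n) (uu b a) ∈ Astar A b
        set a₁ := n * a * n⁻¹ with ha₁
        set a₂ := (b * n * b⁻¹) * a * (b * n * b⁻¹)⁻¹ with ha₂
        have h1 : a₁ ∈ A := (Subgroup.mem_normalizer_iff.1 hn a).1 ha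
        have h2 : a₂ ∈ A := (Subgroup.mem_normalizer_iff.1 hm a).1 ha
        have e : (MulAut.conj n) (uu b a) = (a₁ * a₂⁻¹) * uu b a₂ := by
          simp only [MulAut.conj_apply, uu, ha₁, ha₂]; group
        rw [e]
        refine Subgroup.mul_mem _ (hZA (hd.inf_le ⟨A.mul_mem h1 (A.inv_mem h2), ?_⟩))
          (hd.rs.uu_mem_Astar h2)
        set β := b * (n * b⁻¹ * n⁻¹) with hβ
        have hβB : β ∈ B := B.mul_mem hb (hBn n _ (B.inv_mem hb))
        have e2 : a₁ * a₂⁻¹ = (a₁ * β * a₁⁻¹) * β⁻¹ := by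
          simp only [ha₁, ha₂, hβ]; group
        rw [e2]
        exact B.mul_mem (hBn _ _ hβB) (B.inv_mem hβB)
    intro x hx
    exact hle hx
  refine ⟨hd.card_eq hc, hc, hd.commutator_le_Astar, hd.inf_lt, ?_, ?_, hd.rs.Astar_le_normalizer,
    hbN', ?_, ?_⟩
  · refine lt_of_le_of_ne inf_le_right ?_
    intro h
    exact hd.not_le hnot (h ▸ inf_le_left)
  · intro a' ha'
    rw [Cfsg.Agent.Lib.Helper3_Local.mem_normalizer_iff_conj_le]
    intro x hx
    have e : a' * x * a'⁻¹ = ⁅a', x⁆ * x := by simp only [commutatorElement_def]; group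
    rw [e]
    exact Subgroup.mul_mem _ (hZA (hcl.comm _ (Subgroup.mem_sup_left ha') _ (hd.rs.Astar_le hx))) hx
  · refine lt_of_le_of_ne hNN ?_
    intro h
    exact hbA (h ▸ hbN')
  · intro hp
    have hodd : Odd p := (Fact.out : p.Prime).odd_of_ne_two hp
    apply Monoid.exponent_dvd_of_forall_pow_eq_one
    intro g
    apply Subtype.ext
    rw [Subgroup.coe_pow, Subgroup.coe_one]
    apply hd.rs.Astar_pow hc _ _ g g.2
    · obtain ⟨k, hk⟩ := (IsPGroup.iff_card.1 hAp)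
      have h1 : Monoid.exponent A ∣ p ^ k := hk ▸ Group.exponent_dvd_nat_card
      exact Odd.of_dvd_nat (hodd.pow) h1
    · intro a ha
      have := Monoid.pow_exponent_eq_one (⟨a, ha⟩ : A)
      have h2 := congrArg Subtype.val this
      rwa [Subgroup.coe_pow, Subgroup.coe_one] at h2

end Cfsg.Agent.S0650
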