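import Cfsg.Statements.S0654
import Cfsg.Agent.Lib.Helper4_ZJ3

set_option autoImplicit false
open Cfsg

namespace Cfsg.Agent.S0654

open Cfsg.Agent.Lib.Helper4_Repl Cfsg.Agent.Lib.Helper4_ZJ Cfsg.Agent.Lib.Helper4_ZJ2 Cfsg.Agent.Lib.Helper4_ZJ3

theorem omegaOne_map {H H' : Type*} [Group H] [Group H'] (p : ℕ) (f : H →* H')
    (hf : Function.Injective f) (K : Subgroup H) :
    (Cfsg.omegaOne p K).map f = Cfsg.omegaOne p (K.map f) := by
  unfold Cfsg.omegaOne
  rw [MonoidHom.map_closure]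
  congr 1
  ext y
  constructor
  · rintro ⟨x, ⟨hx, hxp⟩, rfl⟩
    exact ⟨⟨x, hx, rfl⟩, by rw [← map_pow, hxp, map_one]⟩
  · rintro ⟨⟨x, hx, rfl⟩, hxp⟩
    refine ⟨x, ⟨hx, hf ?_⟩, rfl⟩
    rw [map_pow, hxp, map_one]

theorem map_inf_centralizer {G : Type*} [Group G] (S : Subgroup G) (J : Subgroup S) :
    (J ⊓ Subgroup.centralizer (J : Set S)).map S.subtype =
      J.map S.subtype ⊓ Subgroup.centralizer ((J.map S.subtype : Subgroup G) : Set G) := by
  ext x
  constructor
  · rintro ⟨y, hy, rfl⟩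
    refine ⟨⟨y, hy.1, rfl⟩, ?_⟩
    show S.subtype y ∈ Subgroup.centralizer ((J.map S.subtype : Subgroup G) : Set G)
    rw [Subgroup.mem_centralizer_iff]
    rintro _ ⟨w, hw, rfl⟩
    exact congrArg Subtype.val ((Subgroup.mem_centralizer_iff.1 hy.2) w hw)
  · rintro ⟨⟨y, hy, rfl⟩, h2⟩
    refine ⟨y, ⟨hy, ?_⟩, rfl⟩
    show y ∈ Subgroup.centralizer (J : Set S)
    rw [Subgroup.mem_centralizer_iff]
    intro w hw
    exact Subtype.ext ((Subgroup.mem_centralizer_iff.1 h2) _ ⟨w, hw, rfl⟩)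

/-- The ZJ-Theorem for the elementary-abelian Thompson subgroup: for an odd prime p, a finite group G with C_G(O_p(G)) ≤ O_p(G) acting p-stably on its normal p-subgroups, and a Sylow p-subgroup S of G, the subgroup generated by the elements of order dividing p in Z(J_e(S)) is characteristic in G. -/
theorem result {G : Type*} [Group G] [Finite G] {p : ℕ} [Fact p.Prime] (hp : p ≠ 2) (hc : Subgroup.centralizer (Cfsg.pCore p G : Set G) ≤ Cfsg.pCore p G) (hst : ∀ (P : Subgroup G) [P.Normal], IsPGroup p P → Cfsg.IsPStableOn p P) (S : Sylow p G) : ((Cfsg.omegaCenterThompson p ↥(S : Subgroup G)).map (S : Subgroup G).subtype).Characteristic := by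
  have e : (Cfsg.omegaCenterThompson p ↥(S : Subgroup G)).map (S : Subgroup G).subtype =
      Cfsg.omegaOne p (Cfsg.centerThompsonOf p (S : Subgroup G)) := by
    unfold Cfsg.omegaCenterThompson Cfsg.centerThompsonOf Cfsg.thompsonSubgroupOf
    rw [omegaOne_map p _ (Subgroup.subtype_injective _), map_inf_centralizer]
  rw [e, omegaOne_centerThompsonOf_eq hp]
  exact WW_characteristic (replClass_E hp) S
    (WW_normal hp (replClass_E hp) S (isStronglyClosed_self _) hst hc)

end Cfsg.Agent.S0654
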