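import Cfsg.Statements.S0655
import Mathlib
import Cfsg.Agent.Lib.Helper2_EA

set_option autoImplicit false
open Cfsg

namespace Cfsg.Agent.S0655

open Cfsg.Agent.Lib.Helper2_Basic Cfsg.Agent.Lib.Helper2_Sylow Cfsg.Agent.Lib.Helper2_EA
theorem mem_of_centralizes {G : Type*} [Group G] [Finite G] {p : ℕ} {A : Subgroup G}
    (hA : A ∈ Cfsg.maxElementaryAbelianSubgroups p G) {x : G} (hxp : x ^ p = 1)
    (hx : ∀ a ∈ A, a * x = x * a) : x ∈ A := by
  have hcomm : ∀ a ∈ A, ∀ b ∈ Subgroup.zpowers x, a * b = b * a := by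
    intro a ha b hb
    obtain ⟨i, rfl⟩ := Subgroup.mem_zpowers_iff.mp hb
    exact ((show Commute a x from hx a ha).zpow_right i).eq
  have hEA := ea_sup_of_comm hA.1 (ea_zpowers hxp) hcomm
  have h2 : A = A ⊔ Subgroup.zpowers x := Subgroup.eq_of_le_of_card_ge le_sup_left (hA.2 _ hEA)
  rw [h2]
  exact (le_sup_right : Subgroup.zpowers x ≤ _) (Subgroup.mem_zpowers x)

/-- In a p-group the intersection of all elementary abelian subgroups of largest order is the subgroup generated by the elements of order dividing p in the centre (equivalently the centralizer) of the elementary-version Thompson subgroup. -/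
theorem result {S : Type*} [Group S] [Finite S] {p : ℕ} [Fact p.Prime] (hS : IsPGroup p S) : sInf (Cfsg.maxElementaryAbelianSubgroups p S) = Cfsg.omegaCenterThompson p S ∧ Cfsg.omegaCenterThompson p S = Cfsg.omegaOne p (Subgroup.centralizer (Cfsg.thompsonSubgroup p S : Set S)) := by
  obtain ⟨A₀, hA₀⟩ := maxEA_nonempty (G := S) p
  have h1 : sInf (Cfsg.maxElementaryAbelianSubgroups p S) ≤ Cfsg.omegaCenterThompson p S := by
    intro x hx
    rw [Subgroup.mem_sInf] at hx
    apply Subgroup.subset_closure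
    refine ⟨⟨le_thompson hA₀ (hx A₀ hA₀), ?_⟩, hA₀.1.2 x (hx A₀ hA₀)⟩
    have : Cfsg.thompsonSubgroup p S ≤ Subgroup.centralizer ({x} : Set S) := by
      apply sSup_le
      intro A hA a ha
      rw [Subgroup.mem_centralizer_singleton_iff]
      exact ea_comm hA.1 a ha x (hx A hA)
    show x ∈ Subgroup.centralizer (Cfsg.thompsonSubgroup p S : Set S)
    rw [Subgroup.mem_centralizer_iff]
    intro y hy
    exact Subgroup.mem_centralizer_singleton_iff.mp (this hy)
  have h2 : Cfsg.omegaCenterThompson p S ≤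
      Cfsg.omegaOne p (Subgroup.centralizer (Cfsg.thompsonSubgroup p S : Set S)) := by
    apply Subgroup.closure_mono
    rintro x ⟨hx, hxp⟩
    exact ⟨hx.2, hxp⟩
  have h3 : Cfsg.omegaOne p (Subgroup.centralizer (Cfsg.thompsonSubgroup p S : Set S)) ≤
      sInf (Cfsg.maxElementaryAbelianSubgroups p S) := by
    unfold Cfsg.omegaOne
    rw [Subgroup.closure_le]
    rintro x ⟨hx, hxp⟩
    rw [SetLike.mem_coe, Subgroup.mem_sInf]
    intro A hA
    exact mem_of_centralizes hA hxp
      (fun a ha => Subgroup.mem_centralizer_iff.mp hx a (le_thompson hA ha))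
  exact ⟨le_antisymm h1 (h2.trans h3), le_antisymm h2 (h3.trans h1)⟩

end Cfsg.Agent.S0655
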