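import Cfsg.Statements.S0994
import Cfsg.Agent.Lib.Helper1_SylNum

set_option autoImplicit false
open Cfsg

namespace Cfsg.Agent.S0994

/-- No finite simple group has order 1188 = 2^2 * 3^3 * 11. -/
theorem result {G : Type*} [Group G] [Finite G] [IsSimpleGroup G] : Nat.card G ≠ 1188 := by
  intro h
  haveI : Fact (Nat.Prime 11) := ⟨by norm_num⟩
  have hsimple : ∀ (H : Subgroup G), H.Normal → H = ⊥ ∨ H = ⊤ := fun H hH => hH.eq_bot_or_eq_top
  obtain ⟨P⟩ : Nonempty (Sylow 11 G) := inferInstance
  have hcP : Nat.card (P : Subgroup G) = 11 := by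
    obtain ⟨k, hk⟩ := P.2.exists_card_eq
    have h1 : 11 ^ k ∣ 1188 := by rw [← hk, ← h]; exact Subgroup.card_subgroup_dvd_card _
    have h2 : 11 ∣ Nat.card (P : Subgroup G) := P.dvd_card_of_dvd_card (by rw [h]; norm_num)
    rcases Nat.lt_or_ge k 2 with hk2 | hk2
    · interval_cases k
      · rw [hk] at h2; norm_num at h2
      · simpa using hk
    · exfalso
      have : 11 ^ 2 ∣ 1188 := (pow_dvd_pow 11 hk2).trans h1
      norm_num at this
  have hiP : (P : Subgroup G).index = 108 := by
    have := Subgroup.card_mul_index (P : Subgroup G)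
    rw [hcP, h] at this
    omega
  have hn : Nat.card (Sylow 11 G) = 1 ∨ Nat.card (Sylow 11 G) = 12 := by
    have h1 : Nat.card (Sylow 11 G) ∣ 108 := hiP ▸ P.card_dvd_index
    have h2 := card_sylow_modEq_one 11 G
    have h3 : Nat.card (Sylow 11 G) ≤ 108 := Nat.le_of_dvd (by norm_num) h1
    unfold Nat.ModEq at h2
    obtain ⟨c, hc⟩ := h1
    have hc108 : c ≤ 108 := by
      rcases Nat.eq_zero_or_pos (Nat.card (Sylow 11 G)) with h0 | h0
      · rw [h0] at hc; omega
      · nlinarith
    generalize Nat.card (Sylow 11 G) = n at *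
    have h4 : n = 1 ∨ n = 12 ∨ n = 23 ∨ n = 34 ∨ n = 45 ∨ n = 56 ∨ n = 67 ∨ n = 78 ∨ n = 89 ∨
        n = 100 := by omega
    rcases h4 with h4 | h4 | h4 | h4 | h4 | h4 | h4 | h4 | h4 | h4
    · left; exact h4
    · right; exact h4
    all_goals (exfalso; subst h4; omega)
  have hn12 : Nat.card (Sylow 11 G) = 12 := by
    rcases hn with hn | hn
    · exfalso
      haveI : Subsingleton (Sylow 11 G) := (Nat.card_eq_one_iff_unique.mp hn).1
      have hPn : (P : Subgroup G).Normal := P.normal_of_subsingleton
      rcases hsimple _ hPn with hb | ht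
      · rw [hb, Subgroup.card_bot] at hcP; omega
      · rw [ht, Subgroup.card_top, h] at hcP; omega
    · exact hn
  have hN : Nat.card (Subgroup.normalizer ((P : Subgroup G) : Set G)) = 99 := by
    have h1 : Nat.card (Sylow 11 G) = (Subgroup.normalizer ((P : Subgroup G) : Set G)).index :=
      Sylow.card_eq_index_normalizer P
    have h2 := Subgroup.card_mul_index (Subgroup.normalizer ((P : Subgroup G) : Set G))
    rw [← h1, hn12, h] at h2
    omega
  have hle : Subgroup.normalizer ((P : Subgroup G) : Set G) ≤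
      Subgroup.centralizer ((P : Subgroup G) : Set G) := by
    intro y hy
    apply Cfsg.Agent.Lib.Helper1_SylNum.NC (by norm_num : Nat.Prime 11) (P : Subgroup G) hcP y hy
    have h1 : orderOf y ∣ 99 := by
      have h0 := orderOf_dvd_natCard
        (⟨y, hy⟩ : Subgroup.normalizer ((P : Subgroup G) : Set G))
      rwa [hN, Subgroup.orderOf_mk] at h0
    exact Nat.Coprime.coprime_dvd_left h1 (by norm_num)
  have hc := MonoidHom.ker_transferSylow_isComplement' P hle
  have hidx : (MonoidHom.transferSylow P hle).ker.index = 11 := by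
    rw [hc.symm.index_eq_card]; exact hcP
  rcases hsimple (MonoidHom.transferSylow P hle).ker inferInstance with hb | ht
  · rw [hb, Subgroup.index_bot, h] at hidx; omega
  · rw [ht, Subgroup.index_top] at hidx; omega

end Cfsg.Agent.S0994
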