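import Cfsg.Statements.S1224
import Cfsg.Agent.Lib.Helper7_StrEmb2

set_option autoImplicit false
open Cfsg

namespace Cfsg.Agent.S1224

open Cfsg.Agent.Lib.Helper7_StrEmb Cfsg.Agent.Lib.Helper7_StrEmb2

/-- size of the `K`-class of `t`. -/
theorem card_class {G : Type*} [Group G] (K : Subgroup G) (t : G) :
    Nat.card {x : G // ∃ k ∈ K, x = k * t * k⁻¹} =
      (Subgroup.centralizer ({t} : Set G)).relIndex K := by
  rw [Subgroup.relIndex, Subgroup.index]
  set C := (Subgroup.centralizer ({t} : Set G)).subgroupOf K with hC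
  let f : K → {x : G // ∃ k ∈ K, x = k * t * k⁻¹} := fun k => ⟨k * t * (k : G)⁻¹, k, k.2, rfl⟩
  have hf : ∀ a b : K, (QuotientGroup.leftRel C) a b → f a = f b := by
    intro a b hab
    rw [QuotientGroup.leftRel_apply] at hab
    have h1 : (a : G)⁻¹ * (b : G) ∈ Subgroup.centralizer ({t} : Set G) := hab
    rw [Subgroup.mem_centralizer_singleton_iff] at h1
    apply Subtype.ext
    show (a : G) * t * (a : G)⁻¹ = (b : G) * t * (b : G)⁻¹
    calc (a : G) * t * (a : G)⁻¹ = a * (t * ((a : G)⁻¹ * b)) * (b : G)⁻¹ := by group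
      _ = a * (((a : G)⁻¹ * b) * t) * (b : G)⁻¹ := by rw [h1]
      _ = (b : G) * t * (b : G)⁻¹ := by group
  symm
  refine Nat.card_congr (Equiv.ofBijective (Quotient.lift f hf) ⟨?_, ?_⟩)
  · intro a b
    induction a using Quotient.inductionOn with | _ a => ?_
    induction b using Quotient.inductionOn with | _ b => ?_
    intro hab
    apply Quotient.sound
    show (QuotientGroup.leftRel C) a b
    rw [QuotientGroup.leftRel_apply]
    have h1 : (a : G) * t * (a : G)⁻¹ = (b : G) * t * (b : G)⁻¹ := congrArg Subtype.val hab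
    show (a : G)⁻¹ * (b : G) ∈ Subgroup.centralizer ({t} : Set G)
    rw [Subgroup.mem_centralizer_singleton_iff]
    calc (a : G)⁻¹ * (b : G) * t = (a : G)⁻¹ * ((b : G) * t * (b : G)⁻¹) * b := by group
      _ = (a : G)⁻¹ * ((a : G) * t * (a : G)⁻¹) * b := by rw [h1]
      _ = t * ((a : G)⁻¹ * b) := by group
  · rintro ⟨x, k, hk, rfl⟩
    exact ⟨Quotient.mk _ ⟨k, hk⟩, rfl⟩

theorem main {G : Type*} [Group G] [Finite G] (H : Subgroup G) (hH : Cfsg.IsStronglyEmbedded H)
    (c : G ⧸ H) : Nat.card {i : G // orderOf i = 2 ∧ (i : G ⧸ H) = c} =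
      Nat.card {t : G // orderOf t = 2 ∧ t ∈ H} := by
  classical
  haveI : Fintype (G ⧸ H) := Fintype.ofFinite _
  obtain ⟨t, htH, hto⟩ := exists_invol_of_not_odd (D := H) (Nat.not_odd_iff_even.mpr hH.2.1)
  have htt := sq_of_order hto
  obtain ⟨u, huo, huH⟩ : ∃ u : G, orderOf u = 2 ∧ u ∉ H := by
    by_contra hcon
    push Not at hcon
    apply hH.1
    rw [eq_top_iff]
    intro g _
    apply se_mem hH hto htH
    apply hcon
    have := order_conj g⁻¹ t
    rw [inv_inv] at this
    rw [this, hto]
  set m := Nat.card {t : G // orderOf t = 2 ∧ t ∈ H} with hm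
  set C := Subgroup.centralizer ({t} : Set G) with hC
  have hCH : C ≤ H := se_centralizer hH t htH hto
  -- the number of involutions of `H`
  have h1 : m = C.relIndex H := by
    rw [hm, ← card_class H t]
    apply Nat.card_congr
    apply Equiv.subtypeEquivRight
    intro x
    constructor
    · rintro ⟨hx, hxH⟩
      obtain ⟨d, hd, hdx⟩ := se_conj hH huo huH hto htH hx hxH
      exact ⟨d, hd.1, hdx.symm⟩
    · rintro ⟨k, hk, rfl⟩
      exact ⟨by rw [order_conj, hto], H.mul_mem (H.mul_mem hk htH) (H.inv_mem hk)⟩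
  -- the number of involutions of `G`
  have h2 : Nat.card {i : G // orderOf i = 2} = C.index := by
    rw [← Subgroup.relIndex_top_right, ← card_class ⊤ t]
    apply Nat.card_congr
    apply Equiv.subtypeEquivRight
    intro x
    constructor
    · intro hx
      obtain ⟨g, hg⟩ := isConj_iff.mp (all_conj (se_centralizer hH) hto htH huo huH t x hto hx)
      exact ⟨g, trivial, hg.symm⟩
    · rintro ⟨k, -, rfl⟩
      rw [order_conj, hto]
  -- fibres
  have h3 : Nat.card {i : G // orderOf i = 2} =
      ∑ c : G ⧸ H, Nat.card {i : G // orderOf i = 2 ∧ (i : G ⧸ H) = c} := by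
    rw [Nat.card_congr (Equiv.sigmaFiberEquiv
      (fun i : {i : G // orderOf i = 2} => ((i : G) : G ⧸ H))).symm, Nat.card_sigma]
    apply Finset.sum_congr rfl
    intro c _
    exact Nat.card_congr (Equiv.subtypeSubtypeEquivSubtypeInter (fun i : G => orderOf i = 2)
      (fun i : G => (i : G ⧸ H) = c))
  -- lower bound
  have h4 : ∀ c : G ⧸ H, m ≤ Nat.card {i : G // orderOf i = 2 ∧ (i : G ⧸ H) = c} := by
    intro c
    obtain ⟨a, rfl⟩ := QuotientGroup.mk_surjective c
    by_cases ha : a ∈ H
    · apply le_of_eq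
      apply Nat.card_congr
      apply Equiv.subtypeEquivRight
      intro x
      rw [QuotientGroup.eq]
      constructor
      · rintro ⟨hx, hxH⟩
        exact ⟨hx, H.mul_mem (H.inv_mem hxH) ha⟩
      · rintro ⟨hx, hxH⟩
        refine ⟨hx, ?_⟩
        have : x = a * (x⁻¹ * a)⁻¹ := by group
        rw [this]
        exact H.mul_mem ha (H.inv_mem hxH)
    · have hex : ∀ s : {t : G // orderOf t = 2 ∧ t ∈ H},
          ∃ w : G, w * w = 1 ∧ w * t * w = a * s.1 * a⁻¹ := by
        intro s
        apply conj_in_out (se_centralizer hH) hto htH (by rw [order_conj]; exact s.2.1)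
        intro hs
        apply ha
        apply se_mem hH (t := a * s.1 * a⁻¹) (by rw [order_conj]; exact s.2.1) hs
        have : a⁻¹ * (a * s.1 * a⁻¹) * a = s.1 := by group
        rw [this]
        exact s.2.2
      choose w hww hw using hex
      have hwa : ∀ s, a⁻¹ * w s ∈ H := by
        intro s
        apply se_mem hH s.2.1 s.2.2
        have hwi : (w s)⁻¹ = w s := inv_eq_of_mul_eq_one_left (hww s)
        have : (a⁻¹ * w s)⁻¹ * s.1 * (a⁻¹ * w s) = t := by
          rw [mul_inv_rev, inv_inv, hwi]
          calc w s * a * s.1 * (a⁻¹ * w s) = w s * (a * s.1 * a⁻¹) * w s := by group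
            _ = w s * (w s * t * w s) * w s := by rw [hw]
            _ = (w s * w s) * t * (w s * w s) := by group
            _ = t := by rw [hww, one_mul, mul_one]
        rw [this]
        exact htH
      have hw1 : ∀ s, w s ≠ 1 := by
        intro s h
        apply ha
        have := hwa s
        rw [h, mul_one] at this
        have h5 := H.inv_mem this
        rwa [inv_inv] at h5
      apply Nat.card_le_card_of_injective
        (fun s => (⟨w s, order_of_sq (hw1 s) (hww s), by
          rw [QuotientGroup.eq]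
          have := H.inv_mem (hwa s)
          rwa [mul_inv_rev, inv_inv] at this⟩ :
            {i : G // orderOf i = 2 ∧ (i : G ⧸ H) = (a : G ⧸ H)}))
      intro s s' hss
      have h5 : w s = w s' := congrArg Subtype.val hss
      apply Subtype.ext
      have h6 : a * s.1 * a⁻¹ = a * s'.1 * a⁻¹ := by rw [← hw, ← hw, h5]
      simpa using h6
  have h5 : ∑ _c : G ⧸ H, m = ∑ c : G ⧸ H, Nat.card {i : G // orderOf i = 2 ∧ (i : G ⧸ H) = c} := by
    rw [← h3, h2, Finset.sum_const, Finset.card_univ, smul_eq_mul, h1,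
      ← Subgroup.relIndex_mul_index hCH, mul_comm, Subgroup.index, Nat.card_eq_fintype_card]
  exact ((Finset.sum_eq_sum_iff_of_le (fun c _ => h4 c)).mp h5 c (Finset.mem_univ c)).symm

/-- Let H be a strongly embedded subgroup of the finite group G and x ≠ y two cosets in G/H. Then the number of involutions i of G with i • x = y equals the number of involutions lying in H. -/
theorem result {G : Type*} [Group G] [Finite G] (H : Subgroup G) (hH : Cfsg.IsStronglyEmbedded H) (x y : G ⧸ H) (hxy : x ≠ y) : Nat.card {i : G // orderOf i = 2 ∧ i • x = y} = Nat.card {t : G // orderOf t = 2 ∧ t ∈ H} := by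
  obtain ⟨g, rfl⟩ := QuotientGroup.mk_surjective x
  obtain ⟨g', rfl⟩ := QuotientGroup.mk_surjective y
  rw [← main H hH ((g⁻¹ * g' : G) : G ⧸ H)]
  refine Nat.card_congr
    { toFun := fun i => ⟨g⁻¹ * i.1 * g, ?_, ?_⟩
      invFun := fun j => ⟨g * j.1 * g⁻¹, ?_, ?_⟩
      left_inv := fun i => Subtype.ext (by simp [mul_assoc])
      right_inv := fun j => Subtype.ext (by simp [mul_assoc]) }
  · have := order_conj g⁻¹ i.1
    rw [inv_inv] at this
    rw [this]
    exact i.2.1
  · have h1 : ((i.1 * g : G) : G ⧸ H) = (g' : G ⧸ H) := i.2.2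
    rw [QuotientGroup.eq] at h1 ⊢
    convert h1 using 1
    group
  · rw [order_conj]
    exact j.2.1
  · have h1 := j.2.2
    show (((g * j.1 * g⁻¹) * g : G) : G ⧸ H) = (g' : G ⧸ H)
    rw [QuotientGroup.eq] at h1 ⊢
    convert h1 using 1
    group

end Cfsg.Agent.S1224
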