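import Cfsg.Statements.S1922
import Cfsg.Agent.S1224
import Cfsg.Agent.Lib.Helper7_Dih
import Cfsg.Agent.Lib.Helper4_Syl
import Cfsg.Agent.Lib.Helper7_Hall

set_option autoImplicit false
open Cfsg

namespace Cfsg.Agent.S1922

open Cfsg.Agent.Lib.Helper4_Syl Cfsg.Agent.Lib.Helper7_Dih
open scoped Pointwise

variable {G : Type*} [Group G]

def Cl (z : G) : Set G := {y | ∃ a, y = a * z * a⁻¹}

theorem Cl_conj (z : G) (g y : G) (hy : y ∈ Cl z) : g * y * g⁻¹ ∈ Cl z := by
  obtain ⟨a, rfl⟩ := hy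
  exact ⟨g * a, by group⟩

theorem Cl_sq {z : G} (hz : z * z = 1) {y : G} (hy : y ∈ Cl z) : y * y = 1 := by
  obtain ⟨a, rfl⟩ := hy
  calc a * z * a⁻¹ * (a * z * a⁻¹) = a * (z * z) * a⁻¹ := by group
    _ = 1 := by rw [hz]; group

section
variable [Finite G] {z : G} {H : Subgroup G} (hz : z * z = 1)
  (h0 : ∀ g : G, g⁻¹ * z * g ∈ H ↔ g ∈ H)
  (h1 : ∀ t ∈ Cl z, t ≠ z → t * z = z * t → ∀ g : G, g⁻¹ * (z * t) * g ∈ H ↔ g ∈ H)

include h0 h1 in
theorem L3 {y t : G} (hy : y ∈ Cl z) (ht : t ∈ Cl z) (hne : t ≠ y) (hc : t * y = y * t) (g : G) :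
    g⁻¹ * (y * t) * g ∈ H ↔ g⁻¹ * y * g ∈ H := by
  obtain ⟨a, rfl⟩ := hy
  have ht0 : a⁻¹ * t * a ∈ Cl z := by
    have := Cl_conj z a⁻¹ t ht
    rwa [inv_inv] at this
  have hne0 : a⁻¹ * t * a ≠ z := by
    intro h
    apply hne
    rw [← h]; group
  have hc0 : a⁻¹ * t * a * z = z * (a⁻¹ * t * a) := by
    calc a⁻¹ * t * a * z = a⁻¹ * (t * (a * z * a⁻¹)) * a := by group
      _ = a⁻¹ * ((a * z * a⁻¹) * t) * a := by rw [hc]
      _ = z * (a⁻¹ * t * a) := by group
  have e1 := h1 _ ht0 hne0 hc0 (a⁻¹ * g)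
  have e2 := h0 (a⁻¹ * g)
  have f1 : (a⁻¹ * g)⁻¹ * (z * (a⁻¹ * t * a)) * (a⁻¹ * g) = g⁻¹ * (a * z * a⁻¹ * t) * g := by group
  have f2 : (a⁻¹ * g)⁻¹ * z * (a⁻¹ * g) = g⁻¹ * (a * z * a⁻¹) * g := by group
  rw [f1] at e1
  rw [f2] at e2
  rw [e1, e2]

include h0 h1 in
theorem L3' {y t : G} (hy : y ∈ Cl z) (ht : t ∈ Cl z) (hne : t ≠ y) (hc : t * y = y * t) :
    y * t ∈ H ↔ y ∈ H := by
  have := L3 h0 h1 hy ht hne hc 1
  simpa using this

include hz h0 h1 in
theorem L4 {d r : G} (hd : d ∈ Cl z) (hdH : d ∈ H) (hr : r ∈ Cl z) (hrH : r ∉ H) :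
    Odd (orderOf (d * r)) := by
  by_contra hodd
  have hdd := Cl_sq hz hd
  have hrr := Cl_sq hz hr
  obtain ⟨c, hc1, hcc, hcd, hcr, hcdD, hcrD⟩ := dih_even (Cl_conj z) hd hr hdd hrr hodd
  have k1 : d * (c * d) = c := by rw [hcd, ← mul_assoc, hdd, one_mul]
  have k2 : c * d * d = d * (c * d) := by rw [k1, mul_assoc, hdd, mul_one]
  have k3 : c * d ≠ d := fun h => hc1 (mul_right_cancel (h.trans (one_mul d).symm))
  have e1 := L3' h0 h1 hd hcdD k3 k2
  rw [k1] at e1
  have j1 : r * (c * r) = c := by rw [hcr, ← mul_assoc, hrr, one_mul]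
  have j2 : c * r * r = r * (c * r) := by rw [j1, mul_assoc, hrr, mul_one]
  have j3 : c * r ≠ r := fun h => hc1 (mul_right_cancel (h.trans (one_mul r).symm))
  have e2 := L3' h0 h1 hr hcrD j3 j2
  rw [j1] at e2
  exact hrH (e2.mp (e1.mpr hdH))

include hz h0 h1 in
theorem odd_index (hH : H ≠ ⊤) : Odd (Subgroup.centralizer ({z} : Set G)).index := by
  classical
  have hzH : z ∈ H := by
    have := (h0 1).mpr H.one_mem
    simpa using this
  have hCH : Subgroup.centralizer ({z} : Set G) ≤ H := by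
    intro c hc
    rw [Subgroup.mem_centralizer_singleton_iff] at hc
    apply (h0 c).mp
    have : c⁻¹ * z * c = z := by rw [mul_assoc, ← hc]; group
    rw [this]; exact hzH
  obtain ⟨r₀, hr₀, hr₀H⟩ : ∃ r₀ ∈ Cl z, r₀ ∉ H := by
    by_contra hcon
    push Not at hcon
    apply hH
    rw [eq_top_iff]
    intro g _
    apply (h0 g).mp
    apply hcon
    exact ⟨g⁻¹, by group⟩
  have hr₀2 := Cl_sq hz hr₀
  have hr₀i : r₀⁻¹ = r₀ := inv_eq_of_mul_eq_one_left hr₀2
  let R := {r : G // r ∈ Cl z ∧ r₀ * r ∈ H}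
  have hswap : ∀ r : R, r.1 * r₀ ∈ H := by
    intro r
    have hrr := Cl_sq hz r.2.1
    have : r.1 * r₀ = (r₀ * r.1)⁻¹ := by
      rw [mul_inv_rev, hr₀i, inv_eq_of_mul_eq_one_left hrr]
    rw [this]; exact H.inv_mem r.2.2
  have hnotH : ∀ r : R, r.1 ∉ H := by
    intro r h
    apply hr₀H
    have : r₀ = (r₀ * r.1) * r.1⁻¹ := by group
    rw [this]; exact H.mul_mem r.2.2 (H.inv_mem h)
  have hRodd : Odd (Nat.card R) := by
    have hmem : ∀ r : R, r₀ * r.1 * r₀⁻¹ ∈ Cl z ∧ r₀ * (r₀ * r.1 * r₀⁻¹) ∈ H := by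
      intro r
      refine ⟨Cl_conj z _ _ r.2.1, ?_⟩
      have : r₀ * (r₀ * r.1 * r₀⁻¹) = r.1 * r₀ := by
        rw [hr₀i, ← mul_assoc, ← mul_assoc, hr₀2, one_mul]
      rw [this]; exact hswap r
    refine odd_of_unique_fixed (fun r : R => (⟨r₀ * r.1 * r₀⁻¹, hmem r⟩ : R)) ?_
      ⟨r₀, hr₀, by rw [hr₀2]; exact H.one_mem⟩ ?_ ?_
    · intro r
      apply Subtype.ext
      show r₀ * (r₀ * r.1 * r₀⁻¹) * r₀⁻¹ = r.1
      rw [hr₀i]
      calc r₀ * (r₀ * r.1 * r₀) * r₀ = (r₀ * r₀) * r.1 * (r₀ * r₀) := by group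
        _ = r.1 := by rw [hr₀2]; group
    · apply Subtype.ext
      show r₀ * r₀ * r₀⁻¹ = r₀
      group
    · intro r hr
      have e : r₀ * r.1 * r₀⁻¹ = r.1 := congrArg Subtype.val hr
      apply Subtype.ext
      show r.1 = r₀
      by_contra hne
      have hc : r.1 * r₀ = r₀ * r.1 := (mul_inv_eq_iff_eq_mul.mp e).symm
      exact hr₀H ((L3' h0 h1 hr₀ r.2.1 hne hc).mp r.2.2)
  set e := r₀ * z * r₀⁻¹ with he
  have heD : e ∈ Cl z := ⟨r₀, rfl⟩
  have heH : e ∉ H := by
    intro h
    apply hr₀H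
    have h2 := (h0 r₀⁻¹).mp (by rw [inv_inv]; exact h)
    rwa [hr₀i] at h2
  let DH := {x : G // ∃ k ∈ H, x = k * z * k⁻¹}
  let ψ : R → DH := fun r => ⟨r.1 * e * r.1⁻¹, r.1 * r₀, hswap r, by rw [he]; group⟩
  have hinj : Function.Injective ψ := by
    intro r r' hrr'
    have heq : r.1 * e * r.1⁻¹ = r'.1 * e * r'.1⁻¹ := congrArg Subtype.val hrr'
    obtain ⟨a, ha, haH'⟩ := r
    obtain ⟨b, hb, hbH'⟩ := r'
    have haH : a ∉ H := hnotH ⟨a, ha, haH'⟩
    simp only at heq
    apply Subtype.ext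
    show a = b
    have haa := Cl_sq hz ha
    have hbb := Cl_sq hz hb
    have hai : a⁻¹ = a := inv_eq_of_mul_eq_one_left haa
    have hbi : b⁻¹ = b := inv_eq_of_mul_eq_one_left hbb
    rw [hai, hbi] at heq
    set d := a * e * a with hd
    have hdD : d ∈ Cl z := by
      have := Cl_conj z a e heD
      rwa [hai] at this
    have hdH : d ∈ H := by
      obtain ⟨k, hk, hk'⟩ := (ψ ⟨a, ha, haH'⟩).2
      have hk2 : a * e * a⁻¹ = k * z * k⁻¹ := hk'
      rw [hai] at hk2
      rw [hd, hk2]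
      exact H.mul_mem (H.mul_mem hk hzH) (H.inv_mem hk)
    have hodd := L4 hz h0 h1 hdD hdH ha haH
    set x := a * b with hx
    have ade : a * d * a = e := by
      rw [hd]
      calc a * (a * e * a) * a = (a * a) * e * (a * a) := by group
        _ = e := by rw [haa]; group
    have bde : b * d * b = e := by
      rw [heq]
      calc b * (b * e * b) * b = (b * b) * e * (b * b) := by group
        _ = e := by rw [hbb]; group
    have hxd : Commute x d := by
      show x * d = d * x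
      have : x * d * x⁻¹ = d := by
        rw [hx, mul_inv_rev, hai, hbi]
        calc a * b * d * (b * a) = a * (b * d * b) * a := by group
          _ = d := by rw [bde]
      rw [← mul_inv_eq_iff_eq_mul]; exact this
    have hxe : Commute x e := by
      show x * e = e * x
      have : x * e * x⁻¹ = e := by
        rw [hx, mul_inv_rev, hai, hbi]
        calc a * b * e * (b * a) = a * (b * e * b) * a := by group
          _ = e := by rw [← heq, ade]
      rw [← mul_inv_eq_iff_eq_mul]; exact this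
    have hda2 : (d * a) ^ 2 = d * e := by
      rw [pow_two, ← ade]; group
    have hx2 : Commute x ((d * a) ^ 2) := by rw [hda2]; exact hxd.mul_right hxe
    obtain ⟨m, hm⟩ := exists_pow_eq_self_of_coprime (x := d * a) (n := 2)
      ((Nat.coprime_two_left).mpr hodd)
    have hxda : Commute x (d * a) := by rw [← hm]; exact hx2.pow_right m
    have hxa : Commute x a := by
      have : Commute x (d⁻¹ * (d * a)) := hxd.inv_right.mul_right hxda
      simpa using this
    have hab : b * a = a * b := by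
      have h3 : a * b * a = a * (a * b) := hxa.eq
      rw [← mul_assoc, haa, one_mul] at h3
      calc b * a = (a * b * a) * a := by rw [h3]
        _ = a * b * (a * a) := by group
        _ = a * b := by rw [haa, mul_one]
    by_contra hne
    apply haH
    apply (L3' h0 h1 ha hb (fun h => hne h.symm) hab).mp
    have : a * b = (r₀ * a)⁻¹ * (r₀ * b) := by rw [mul_inv_rev, hai]; group
    rw [this]
    exact H.mul_mem (H.inv_mem haH') hbH'
  have hsurj : Function.Surjective ψ := by
    rintro ⟨d, k, hk, rfl⟩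
    have hdD : k * z * k⁻¹ ∈ Cl z := ⟨k, rfl⟩
    have hdH : k * z * k⁻¹ ∈ H := H.mul_mem (H.mul_mem hk hzH) (H.inv_mem hk)
    have hodd := L4 hz h0 h1 hdD hdH heD heH
    obtain ⟨w, hwD, hww, hw⟩ := dih_odd (Cl_conj z) hdD (Cl_sq hz hdD) (Cl_sq hz heD) hodd
    have hwi : w⁻¹ = w := inv_eq_of_mul_eq_one_left hww
    have hq : r₀ * w * k ∈ H := by
      apply hCH
      rw [Subgroup.mem_centralizer_singleton_iff]
      have : (r₀ * w * k) * z * (r₀ * w * k)⁻¹ = z := by
        calc (r₀ * w * k) * z * (r₀ * w * k)⁻¹ = r₀ * (w * (k * z * k⁻¹) * w⁻¹) * r₀⁻¹ := by group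
          _ = r₀ * e * r₀⁻¹ := by rw [hwi, hw]
          _ = (r₀ * r₀) * z * (r₀ * r₀)⁻¹ := by rw [he]; group
          _ = z := by rw [hr₀2]; group
      exact mul_inv_eq_iff_eq_mul.mp this
    have hrw : r₀ * w ∈ H := by
      have : r₀ * w = (r₀ * w * k) * k⁻¹ := by group
      rw [this]; exact H.mul_mem hq (H.inv_mem hk)
    refine ⟨⟨w, hwD, hrw⟩, ?_⟩
    apply Subtype.ext
    show w * e * w⁻¹ = k * z * k⁻¹
    rw [← hw, hwi]
    calc w * (w * (k * z * k⁻¹) * w) * w = (w * w) * (k * z * k⁻¹) * (w * w) := by group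
      _ = k * z * k⁻¹ := by rw [hww]; group
  have hcard : Nat.card R = (Subgroup.centralizer ({z} : Set G)).relIndex H := by
    rw [← Cfsg.Agent.S1224.card_class H z]
    exact Nat.card_congr (Equiv.ofBijective ψ ⟨hinj, hsurj⟩)
  have hHodd : Odd H.index := by
    show Odd (Nat.card (G ⧸ H))
    refine odd_of_unique_fixed (fun q : G ⧸ H => z • q) ?_ ((1 : G) : G ⧸ H) ?_ ?_
    · intro q
      show z • z • q = q
      rw [← mul_smul, hz, one_smul]
    · show ((z * 1 : G) : G ⧸ H) = _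
      rw [QuotientGroup.eq]
      simpa using H.inv_mem hzH
    · intro q hq
      induction q using QuotientGroup.induction_on with
      | H g =>
        have h2 : ((z * g : G) : G ⧸ H) = (g : G ⧸ H) := hq
        rw [eq_comm, QuotientGroup.eq, ← mul_assoc] at h2
        have h3 := (h0 g).mp h2
        rw [QuotientGroup.eq]
        simpa using H.inv_mem h3
  rw [← Subgroup.relIndex_mul_index hCH, ← hcard]
  exact hRodd.mul hHodd

end

/-- Let z be an involution of a finite group G and H a proper subgroup such that z lies in gHg⁻¹ exactly when g ∈ H. Then the following are equivalent: (1) for every conjugate t ≠ z of z commuting with z, the product zt lies in gHg⁻¹ exactly when g ∈ H; (2) z lies in the centre of some Sylow 2-subgroup of G, and for every conjugate t ≠ z of z commuting with z, the centralizer of zt is contained in H. -/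
theorem result {G : Type*} [Group G] [Finite G] (z : G) (hz : orderOf z = 2) (H : Subgroup G) (hH : H ≠ ⊤)
    (h0 : ∀ g : G, z ∈ H.map (MulAut.conj g).toMonoidHom ↔ g ∈ H) :
    (∀ t : G, IsConj z t → t ≠ z → t * z = z * t → ∀ g : G, z * t ∈ H.map (MulAut.conj g).toMonoidHom ↔ g ∈ H) ↔
      ((∃ P : Sylow 2 G, z ∈ (Subgroup.center ↥(P : Subgroup G)).map (P : Subgroup G).subtype) ∧
        ∀ t : G, IsConj z t → t ≠ z → t * z = z * t → Subgroup.centralizer ({z * t} : Set G) ≤ H) := by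
  haveI : Fact (Nat.Prime 2) := ⟨Nat.prime_two⟩
  have hz2 : z * z = 1 := by rw [← pow_two, ← hz]; exact pow_orderOf_eq_one z
  have h0' : ∀ g : G, g⁻¹ * z * g ∈ H ↔ g ∈ H := by
    intro g
    have := h0 g
    rw [map_conj_eq, mem_conj_smul] at this
    exact this
  have hzH : z ∈ H := by
    have := (h0' 1).mpr H.one_mem
    simpa using this
  have hCH : Subgroup.centralizer ({z} : Set G) ≤ H := by
    intro c hc
    rw [Subgroup.mem_centralizer_singleton_iff] at hc
    apply (h0' c).mp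
    have : c⁻¹ * z * c = z := by rw [mul_assoc, ← hc]; group
    rw [this]; exact hzH
  constructor
  · intro h1raw
    have h1 : ∀ t ∈ Cl z, t ≠ z → t * z = z * t → ∀ g : G, g⁻¹ * (z * t) * g ∈ H ↔ g ∈ H := by
      rintro t ⟨a, ha⟩ hne hc g
      have := h1raw t (isConj_iff.mpr ⟨a, ha.symm⟩) hne hc g
      rw [map_conj_eq, mem_conj_smul] at this
      exact this
    refine ⟨?_, ?_⟩
    · have hodd := odd_index hz2 h0' h1 hH
      obtain ⟨P, hP⟩ := Cfsg.Agent.Lib.Helper7_Hall.exists_sylow_le_of_not_dvd_index (p := 2)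
        (Subgroup.centralizer ({z} : Set G))
        (by rw [← even_iff_two_dvd, Nat.not_even_iff_odd]; exact hodd)
      have hsup : IsPGroup 2 ((P : Subgroup G) ⊔ Subgroup.zpowers z : Subgroup G) :=
        P.2.to_sup_of_normal_right' (isPGroup_zpowers hz)
          (hP.trans (centralizer_singleton_le_normalizer_zpowers z))
      have h3 := P.3 hsup le_sup_left
      have hzP : z ∈ (P : Subgroup G) := by
        have : z ∈ (P : Subgroup G) ⊔ Subgroup.zpowers z :=
          Subgroup.mem_sup_right (Subgroup.mem_zpowers z)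
        rw [h3] at this
        exact this
      refine ⟨P, ⟨⟨z, hzP⟩, ?_, rfl⟩⟩
      rw [SetLike.mem_coe, Subgroup.mem_center_iff]
      intro g
      apply Subtype.ext
      have := hP g.2
      rw [Subgroup.mem_centralizer_singleton_iff] at this
      exact this
    · intro t ht hne hc c hcc
      obtain ⟨a, ha⟩ := isConj_iff.mp ht
      have htD : t ∈ Cl z := ⟨a, ha.symm⟩
      rw [Subgroup.mem_centralizer_singleton_iff] at hcc
      apply (h1 t htD hne hc c).mp
      have e1 : c⁻¹ * (z * t) * c = z * t := by rw [mul_assoc, ← hcc]; group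
      rw [e1]
      have := (h1 t htD hne hc 1).mpr H.one_mem
      simpa using this
  · rintro ⟨⟨P, hzP⟩, hcent⟩ t ht hne hc g
    rw [map_conj_eq, mem_conj_smul]
    obtain ⟨⟨z', hz'P⟩, hz'c, hz'⟩ := hzP
    have hz'' : z' = z := hz'
    subst hz''
    rw [SetLike.mem_coe, Subgroup.mem_center_iff] at hz'c
    have hPC : ∀ s ∈ (P : Subgroup G), s * z' = z' * s := by
      intro s hs
      have := hz'c ⟨s, hs⟩
      exact congrArg Subtype.val this
    have hPH : (P : Subgroup G) ≤ H := by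
      intro s hs
      apply hCH
      rw [Subgroup.mem_centralizer_singleton_iff]
      exact hPC s hs
    have htH : t ∈ H := by
      apply hCH
      rw [Subgroup.mem_centralizer_singleton_iff]
      exact hc
    have huH : z' * t ∈ H := H.mul_mem hzH htH
    obtain ⟨a, ha⟩ := isConj_iff.mp ht
    have htt : t * t = 1 := Cl_sq hz2 ⟨a, ha.symm⟩
    have huu : (z' * t) * (z' * t) = 1 := by
      calc (z' * t) * (z' * t) = z' * (t * z') * t := by group
        _ = z' * (z' * t) * t := by rw [hc]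
        _ = (z' * z') * (t * t) := by group
        _ = 1 := by rw [hz2, htt, one_mul]
    constructor
    · intro hv
      set v := g⁻¹ * (z' * t) * g with hvdef
      have hvv : v * v = 1 := by
        rw [hvdef]
        calc g⁻¹ * (z' * t) * g * (g⁻¹ * (z' * t) * g) = g⁻¹ * ((z' * t) * (z' * t)) * g := by group
          _ = 1 := by rw [huu]; group
      have hvP : IsPGroup 2 (Subgroup.zpowers v) := by
        intro y
        refine ⟨1, ?_⟩
        obtain ⟨y, hy⟩ := y
        obtain ⟨n, rfl⟩ := Subgroup.mem_zpowers_iff.mp hy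
        apply Subtype.ext
        show (v ^ n) ^ 2 ^ 1 = 1
        rw [pow_one, ← zpow_natCast, ← zpow_mul, mul_comm, zpow_mul]
        have : v ^ ((2 : ℕ) : ℤ) = 1 := by rw [zpow_natCast, pow_two]; exact hvv
        rw [this, one_zpow]
      obtain ⟨S', hS', hvS'⟩ := exists_isSylIn_ge (p := 2) (Q := Subgroup.zpowers v) (M := H)
        (by rw [Subgroup.zpowers_le]; exact hv) hvP
      have hPs : IsSylIn 2 (P : Subgroup G) H := (IsSylIn.of_sylow_top P).mono hPH le_top
      obtain ⟨m, hm, hmS⟩ := hPs.conj hS'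
      have hvm : m⁻¹ * v * m ∈ (P : Subgroup G) := by
        rw [← mem_conj_smul, hmS]
        exact hvS' (Subgroup.mem_zpowers v)
      have hcm := hPC _ hvm
      have hw : (g * m) * z' * (g * m)⁻¹ ∈ H := by
        apply hcent t ht hne hc
        rw [Subgroup.mem_centralizer_singleton_iff]
        have e1 : z' * t = g * v * g⁻¹ := by rw [hvdef]; group
        rw [e1]
        calc (g * m) * z' * (g * m)⁻¹ * (g * v * g⁻¹)
            = g * m * (z' * (m⁻¹ * v * m)) * m⁻¹ * g⁻¹ := by group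
          _ = g * m * ((m⁻¹ * v * m) * z') * m⁻¹ * g⁻¹ := by rw [hcm]
          _ = g * v * g⁻¹ * ((g * m) * z' * (g * m)⁻¹) := by group
      have h5 := (h0' (g * m)⁻¹).mp (by rw [inv_inv]; exact hw)
      have h6 : g * m ∈ H := by
        have := H.inv_mem h5
        rwa [inv_inv] at this
      have : g = (g * m) * m⁻¹ := by group
      rw [this]
      exact H.mul_mem h6 (H.inv_mem hm)
    · intro hg
      exact H.mul_mem (H.mul_mem (H.inv_mem hg) huH) hg

end Cfsg.Agent.S1922
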