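import Cfsg.Statements.S1186
import Cfsg.Agent.S1922

set_option autoImplicit false
open Cfsg

namespace Cfsg.Agent.S1186

open Cfsg.Agent.Lib.Helper7_Dih Cfsg.Agent.S1922

variable {G : Type*} [Group G]

section
variable [Finite G] {z : G} (hz : Cfsg.IsIsolatedInvolution z)

include hz in
theorem z_sq : z * z = 1 := by rw [← pow_two, ← hz.1]; exact pow_orderOf_eq_one z

include hz in
theorem iso_eq {a b : G} (ha : a ∈ Cl z) (hb : b ∈ Cl z) (hc : Commute a b) : b = a := by
  obtain ⟨h, rfl⟩ := ha
  obtain ⟨k, rfl⟩ := hb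
  have e := hc.eq
  have := hz.2 (h⁻¹ * k) (by
    show z * _ = _ * z
    calc z * (h⁻¹ * k * z * (h⁻¹ * k)⁻¹) = h⁻¹ * ((h * z * h⁻¹) * (k * z * k⁻¹)) * h := by group
      _ = h⁻¹ * ((k * z * k⁻¹) * (h * z * h⁻¹)) * h := by rw [e]
      _ = (h⁻¹ * k * z * (h⁻¹ * k)⁻¹) * z := by group)
  calc k * z * k⁻¹ = h * (h⁻¹ * k * z * (h⁻¹ * k)⁻¹) * h⁻¹ := by group
    _ = h * z * h⁻¹ := by rw [this]

include hz in
theorem odd_mul {a b : G} (ha : a ∈ Cl z) (hb : b ∈ Cl z) : Odd (orderOf (a * b)) := by
  by_contra h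
  have haa := Cl_sq (z_sq hz) ha
  obtain ⟨c, hc1, hcc, hca, hcb, hcaD, -⟩ :=
    dih_even (Cl_conj z) ha hb haa (Cl_sq (z_sq hz) hb) h
  have h2 : Commute a (c * a) := by
    show a * (c * a) = c * a * a
    calc a * (c * a) = a * (a * c) := by rw [hca]
      _ = (a * a) * c := by group
      _ = c * (a * a) := by rw [haa]; group
      _ = c * a * a := by group
  have := iso_eq hz ha hcaD h2
  exact hc1 (mul_right_cancel (this.trans (one_mul a).symm))

include hz in
theorem mid_exists {a b : G} (ha : a ∈ Cl z) (hb : b ∈ Cl z) :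
    ∃ w ∈ Cl z, w * w = 1 ∧ w * a * w = b :=
  dih_odd (Cl_conj z) ha (Cl_sq (z_sq hz) ha) (Cl_sq (z_sq hz) hb) (odd_mul hz ha hb)

include hz in
theorem mid_unique {a b w w' : G} (ha : a ∈ Cl z) (hw : w ∈ Cl z) (hw' : w' ∈ Cl z)
    (h : w * a * w = b) (h' : w' * a * w' = b) : w = w' := by
  have hww := Cl_sq (z_sq hz) hw
  have hww' := Cl_sq (z_sq hz) hw'
  have hwi : w⁻¹ = w := inv_eq_of_mul_eq_one_left hww
  have hwi' : w'⁻¹ = w' := inv_eq_of_mul_eq_one_left hww'
  have wbw : w * b * w = a := by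
    rw [← h]
    calc w * (w * a * w) * w = (w * w) * a * (w * w) := by group
      _ = a := by rw [hww]; group
  have wbw' : w' * b * w' = a := by
    rw [← h']
    calc w' * (w' * a * w') * w' = (w' * w') * a * (w' * w') := by group
      _ = a := by rw [hww']; group
  set x := w * w' with hx
  have hxa : Commute x a := by
    show x * a = a * x
    have : x * a * x⁻¹ = a := by
      rw [hx, mul_inv_rev, hwi, hwi']
      calc w * w' * a * (w' * w) = w * (w' * a * w') * w := by group
        _ = a := by rw [h', wbw]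
    rw [← mul_inv_eq_iff_eq_mul]; exact this
  have hxb : Commute x b := by
    show x * b = b * x
    have : x * b * x⁻¹ = b := by
      rw [hx, mul_inv_rev, hwi, hwi']
      calc w * w' * b * (w' * w) = w * (w' * b * w') * w := by group
        _ = b := by rw [wbw', h]
    rw [← mul_inv_eq_iff_eq_mul]; exact this
  have h2 : (a * w) ^ 2 = a * b := by rw [pow_two, ← h]; group
  have hx2 : Commute x ((a * w) ^ 2) := by rw [h2]; exact hxa.mul_right hxb
  obtain ⟨m, hm⟩ := exists_pow_eq_self_of_coprime (x := a * w) (n := 2)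
    ((Nat.coprime_two_left).mpr (odd_mul hz ha hw))
  have hxaw : Commute x (a * w) := by rw [← hm]; exact hx2.pow_right m
  have hxw : Commute x w := by
    have : Commute x (a⁻¹ * (a * w)) := hxa.inv_right.mul_right hxaw
    simpa using this
  have hc : Commute w w' := by
    show w * w' = w' * w
    have h3 : w * w' * w = w * (w * w') := hxw.eq
    rw [← mul_assoc, hww, one_mul] at h3
    calc w * w' = w * w' * (w * w) := by rw [hww, mul_one]
      _ = (w * w' * w) * w := by group
      _ = w' * w := by rw [h3]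
  exact (iso_eq hz hw hw' hc).symm

/-- the set of odd-order inverted elements commuting with `v` against the class. -/
noncomputable def equivK (v : G) (hv : Commute z v) :
    {k : G // Odd (orderOf k) ∧ z * k * z⁻¹ = k⁻¹ ∧ Commute k v} ≃
      {a : G // a ∈ Cl z ∧ Commute a v} where
  toFun k := ⟨k.1 * z, by
    obtain ⟨k, hk1, hk2, hk3⟩ := k
    refine ⟨?_, hk3.mul_left hv⟩
    obtain ⟨m, hm⟩ := exists_pow_eq_self_of_coprime (x := k) (n := 2)
      ((Nat.coprime_two_left).mpr hk1)
    refine ⟨k ^ m, ?_⟩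
    have h1 : z * k ^ m * z⁻¹ = (k ^ m)⁻¹ := conj_pow_inv hk2 m
    have h2 : k ^ m * k ^ m = k := by rw [← pow_two, ← pow_mul, mul_comm, pow_mul]; exact hm
    have h3 : z * (k ^ m)⁻¹ = k ^ m * z := by
      have h4 : z * k ^ m = (k ^ m)⁻¹ * z := mul_inv_eq_iff_eq_mul.mp h1
      calc z * (k ^ m)⁻¹ = k ^ m * ((k ^ m)⁻¹ * z) * (k ^ m)⁻¹ := by group
        _ = k ^ m * (z * k ^ m) * (k ^ m)⁻¹ := by rw [h4]
        _ = k ^ m * z := by group
    show k * z = k ^ m * z * (k ^ m)⁻¹
    rw [mul_assoc, h3, ← mul_assoc, h2]⟩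
  invFun a := ⟨a.1 * z, by
    obtain ⟨a, ha1, ha2⟩ := a
    have hzz := z_sq hz
    have hzi : z⁻¹ = z := inv_eq_of_mul_eq_one_left hzz
    have hai : a⁻¹ = a := inv_eq_of_mul_eq_one_left (Cl_sq hzz ha1)
    refine ⟨odd_mul hz ha1 ⟨1, by simp⟩, ?_, ha2.mul_left hv⟩
    show z * (a * z) * z⁻¹ = (a * z)⁻¹
    rw [mul_inv_rev, hzi, hai, mul_assoc, mul_assoc, hzz, mul_one]⟩
  left_inv k := by
    apply Subtype.ext
    show k.1 * z * z = k.1
    rw [mul_assoc, z_sq hz, mul_one]
  right_inv a := by
    apply Subtype.ext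
    show a.1 * z * z = a.1
    rw [mul_assoc, z_sq hz, mul_one]

include hz in
theorem card_class_eq (s : G) (hss : s * s = 1) (hsz : Commute s z) :
    Nat.card {a : G // a ∈ Cl z} =
      Nat.card {a : G // a ∈ Cl z ∧ Commute a (s * z)} *
        Nat.card {a : G // a ∈ Cl z ∧ Commute a s} := by
  classical
  have hzz := z_sq hz
  have hzCl : z ∈ Cl z := ⟨1, by simp⟩
  have hsi : s⁻¹ = s := inv_eq_of_mul_eq_one_left hss
  rw [← Nat.card_prod]
  symm
  -- the midpoints between z and w
  have hu : ∀ w : {a : G // a ∈ Cl z ∧ Commute a s}, ∃ u ∈ Cl z, u * u = 1 ∧ u * z * u = w.1 :=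
    fun w => mid_exists hz hzCl w.2.1
  choose u huD huu huz using hu
  have hui : ∀ w, (u w)⁻¹ = u w := fun w => inv_eq_of_mul_eq_one_left (huu w)
  have hus : ∀ w, Commute (u w) s := by
    intro w
    have h1 : s * u w * s⁻¹ ∈ Cl z := Cl_conj z s _ (huD w)
    have h2 : (s * u w * s⁻¹) * z * (s * u w * s⁻¹) = w.1 := by
      have e1 : s⁻¹ * z * s = z := by rw [mul_assoc, ← hsz.eq]; group
      have e2 : s * w.1 * s⁻¹ = w.1 := by rw [← w.2.2.eq]; group
      calc (s * u w * s⁻¹) * z * (s * u w * s⁻¹) = s * (u w * (s⁻¹ * z * s) * u w) * s⁻¹ := by group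
        _ = w.1 := by rw [e1, huz, e2]
    have h3 := mid_unique hz hzCl h1 (huD w) h2 (huz w)
    show u w * s = s * u w
    exact (mul_inv_eq_iff_eq_mul.mp h3).symm
  have huw : ∀ w, u w * w.1 * u w = z := by
    intro w
    rw [← huz w]
    calc u w * (u w * z * u w) * u w = (u w * u w) * z * (u w * u w) := by group
      _ = z := by rw [huu]; group
  -- from commuting with s * w to the midpoint property
  have key1 : ∀ (p w : G), w * w = 1 → Commute w s → Commute p (s * w) → w * p * w = s * p * s⁻¹ := by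
    intro p w hww hws hp
    have e := hp.eq
    rw [hsi]
    calc w * p * w = s * (s * w * p) * w := by
          rw [show s * (s * w * p) * w = (s * s) * w * p * w by group, hss]; group
      _ = s * (p * (s * w)) * w := by rw [e]
      _ = s * p * s * (w * w) := by group
      _ = s * p * s := by rw [hww, mul_one]
  have key2 : ∀ (p w : G), w * w = 1 → Commute w s → w * p * w = s * p * s⁻¹ → Commute p (s * w) := by
    intro p w hww hws hp
    rw [hsi] at hp
    show p * (s * w) = s * w * p
    calc p * (s * w) = s * (s * p * s) * w := by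
          rw [show s * (s * p * s) * w = (s * s) * p * s * w by group, hss]; group
      _ = s * (w * p * w) * w := by rw [hp]
      _ = s * w * p * (w * w) := by group
      _ = s * w * p := by rw [hww, mul_one]
  let F : {a : G // a ∈ Cl z ∧ Commute a (s * z)} × {a : G // a ∈ Cl z ∧ Commute a s} →
      {a : G // a ∈ Cl z} := fun x => ⟨u x.2 * x.1.1 * u x.2, by
        have := Cl_conj z (u x.2) x.1.1 x.1.2.1
        rwa [hui] at this⟩
  have hF : ∀ x, x.2.1 * (F x).1 * x.2.1 = s * (F x).1 * s⁻¹ := by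
    rintro ⟨q, w⟩
    apply key1 _ _ (Cl_sq hzz w.2.1) w.2.2
    show Commute (u w * q.1 * u w) (s * w.1)
    have h1 := q.2.2.conj (u w)
    rw [hui] at h1
    have h2 : u w * (s * z) * u w = s * w.1 := by
      rw [← huz w]
      calc u w * (s * z) * u w = (u w * s) * z * u w := by group
        _ = (s * u w) * z * u w := by rw [(hus w).eq]
        _ = s * (u w * z * u w) := by group
    rwa [h2] at h1
  refine Nat.card_congr (Equiv.ofBijective F ⟨?_, ?_⟩)
  · rintro ⟨q, w⟩ ⟨q', w'⟩ h
    have h1 := hF (q, w)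
    have h2 := hF (q', w')
    rw [← h] at h2
    have hw : w.1 = w'.1 := mid_unique hz (F (q, w)).2 w.2.1 w'.2.1 h1 h2
    have hw' : w = w' := Subtype.ext hw
    subst hw'
    have h3 : u w * q.1 * u w = u w * q'.1 * u w := congrArg Subtype.val h
    have h4 : q.1 = q'.1 := mul_left_cancel (mul_right_cancel h3)
    rw [Subtype.ext h4]
  · rintro ⟨p, hp⟩
    obtain ⟨w, hwD, hww, hw⟩ := mid_exists hz hp (Cl_conj z s p hp)
    have hws : Commute w s := by
      have h1 : s * w * s⁻¹ ∈ Cl z := Cl_conj z s _ hwD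
      have h2 : (s * w * s⁻¹) * p * (s * w * s⁻¹) = s * p * s⁻¹ := by
        have e1 : w * (s * p * s⁻¹) * w = p := by
          rw [← hw]
          calc w * (w * p * w) * w = (w * w) * p * (w * w) := by group
            _ = p := by rw [hww]; group
        calc (s * w * s⁻¹) * p * (s * w * s⁻¹) = s * (w * (s⁻¹ * p * s) * w) * s⁻¹ := by group
          _ = s * (w * (s * p * s⁻¹) * w) * s⁻¹ := by rw [hsi]
          _ = s * p * s⁻¹ := by rw [e1]
      have h3 := mid_unique hz hp h1 hwD h2 hw
      show w * s = s * w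
      exact (mul_inv_eq_iff_eq_mul.mp h3).symm
    let W : {a : G // a ∈ Cl z ∧ Commute a s} := ⟨w, hwD, hws⟩
    have hpc : Commute p (s * w) := key2 p w hww hws hw
    have hq1 : u W * p * u W ∈ Cl z := by
      have := Cl_conj z (u W) p hp
      rwa [hui] at this
    have hq2 : Commute (u W * p * u W) (s * z) := by
      have h1 := hpc.conj (u W)
      rw [hui] at h1
      have h2 : u W * (s * w) * u W = s * z := by
        have hW : u W * w * u W = z := huw W
        rw [← hW]
        calc u W * (s * w) * u W = (u W * s) * w * u W := by group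
          _ = (s * u W) * w * u W := by rw [(hus W).eq]
          _ = s * (u W * w * u W) := by group
      rwa [h2] at h1
    refine ⟨(⟨u W * p * u W, hq1, hq2⟩, W), ?_⟩
    apply Subtype.ext
    show u W * (u W * p * u W) * u W = p
    calc u W * (u W * p * u W) * u W = (u W * u W) * p * (u W * u W) := by group
      _ = p := by rw [huu]; group

end

/-- Let z be an isolated involution of the finite group G, C = C_G(z), K the set of elements of odd order inverted by z, and s an involution of C. Then |G| = |C| · |C_K(sz)| · |C_K(s)|. -/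
theorem result {G : Type*} [Group G] [Finite G] (z : G) (hz : Cfsg.IsIsolatedInvolution z) (s : G) (hs : orderOf s = 2) (hsz : Commute s z) : Nat.card G = Nat.card (Subgroup.centralizer ({z} : Set G)) * Nat.card {k : G // Odd (orderOf k) ∧ z * k * z⁻¹ = k⁻¹ ∧ Commute k (s * z)} * Nat.card {k : G // Odd (orderOf k) ∧ z * k * z⁻¹ = k⁻¹ ∧ Commute k s} := by
  have hss : s * s = 1 := by rw [← pow_two, ← hs]; exact pow_orderOf_eq_one s
  rw [Nat.card_congr (equivK hz (s * z) (hsz.symm.mul_right (Commute.refl z))),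
    Nat.card_congr (equivK hz s hsz.symm), mul_assoc, ← card_class_eq hz s hss hsz]
  have h1 := Cfsg.Agent.S1224.card_class (⊤ : Subgroup G) z
  rw [Subgroup.relIndex_top_right] at h1
  have h2 : Nat.card {a : G // a ∈ Cl z} = Nat.card {x : G // ∃ k ∈ (⊤ : Subgroup G), x = k * z * k⁻¹} := by
    apply Nat.card_congr
    apply Equiv.subtypeEquivRight
    intro x
    constructor
    · rintro ⟨a, ha⟩
      exact ⟨a, Subgroup.mem_top a, ha⟩
    · rintro ⟨a, -, ha⟩
      exact ⟨a, ha⟩
  rw [h2, h1, Subgroup.card_mul_index]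

end Cfsg.Agent.S1186
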