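import Cfsg.Statements.S1249
import Mathlib
import Cfsg.Agent.Lib.Helper2_Sylow

set_option autoImplicit false
open Cfsg

namespace Cfsg.Agent.S1249

open Cfsg.Agent.Lib.Helper2_Basic Cfsg.Agent.Lib.Helper2_Sylow

/-- Let P and Q be Sylow p-subgroups of the finite group G both containing the subgroup A. If A is strongly closed in P, then A is strongly closed in Q. -/
theorem result {G : Type*} [Group G] [Finite G] {p : ℕ} [Fact p.Prime] (P Q : Sylow p G) (A : Subgroup G) (hAQ : A ≤ Q) (hA : Cfsg.IsStronglyClosed A (P : Subgroup G)) : Cfsg.IsStronglyClosed A (Q : Subgroup G) := by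
  obtain ⟨y, hy⟩ := sylow_conj P Q
  have h1 : A.map (MulAut.conj y⁻¹).toMonoidHom ≤ A := by
    rintro _ ⟨a, ha, rfl⟩
    have haQ := hAQ ha
    rw [hy, mem_cj] at haQ
    have := hA.2 a ha y⁻¹ (by simpa using haQ)
    simpa using this
  have h2 : A.map (MulAut.conj y⁻¹).toMonoidHom = A :=
    Subgroup.eq_of_le_of_card_ge h1 (by rw [card_cj])
  have h4 : A.map (MulAut.conj y).toMonoidHom = A := by rw [cj_eq_iff]; exact h2.symm
  refine ⟨hAQ, ?_⟩
  intro x hx g hg
  rw [hy, mem_cj] at hg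
  have h3 := hA.2 x hx (y⁻¹ * g) (by simpa [mul_assoc] using hg)
  rw [← h4, mem_cj]
  simpa [mul_assoc] using h3

end Cfsg.Agent.S1249
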