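import Cfsg.Statements.S1250
import Mathlib
import Cfsg.Agent.Lib.Helper2_Sylow

set_option autoImplicit false
open Cfsg

namespace Cfsg.Agent.S1250

open Cfsg.Agent.Lib.Helper2_Basic Cfsg.Agent.Lib.Helper2_Sylow

/-- Let S be a Sylow p-subgroup of the finite group G, A ≤ S strongly closed in S, and N a normal subgroup. Then the image of A in G ⧸ N is strongly closed in the image of S (which is a Sylow p-subgroup of G ⧸ N). -/
theorem result {G : Type*} [Group G] [Finite G] {p : ℕ} [Fact p.Prime] (S : Sylow p G) (A : Subgroup G) (hA : Cfsg.IsStronglyClosed A (S : Subgroup G)) (N : Subgroup G) [N.Normal] : Cfsg.IsStronglyClosed (A.map (QuotientGroup.mk' N)) ((S : Subgroup G).map (QuotientGroup.mk' N)) := by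
  refine ⟨Subgroup.map_mono hA.1, ?_⟩
  rintro _ ⟨x, hx, rfl⟩ gq hg
  obtain ⟨g, rfl⟩ := QuotientGroup.mk_surjective gq
  obtain ⟨s, hs, hsg⟩ := hg
  have hsg' : (QuotientGroup.mk s : G ⧸ N) = QuotientGroup.mk (g * x * g⁻¹) := by
    simpa using hsg
  have hu : g * x * g⁻¹ ∈ (S : Subgroup G) ⊔ N := by
    have h1 : s⁻¹ * (g * x * g⁻¹) ∈ N := QuotientGroup.eq.mp hsg'
    have h2 : g * x * g⁻¹ = s * (s⁻¹ * (g * x * g⁻¹)) := by simp
    rw [h2]
    exact Subgroup.mul_mem_sup hs h1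
  have hup : IsPGroup p (Subgroup.zpowers (g * x * g⁻¹)) := by
    have h1 : Subgroup.zpowers (g * x * g⁻¹) =
        (Subgroup.zpowers x).map (MulAut.conj g).toMonoidHom := by
      rw [MonoidHom.map_zpowers]; simp
    rw [h1]
    exact isPGroup_cj (S.2.to_le (Subgroup.zpowers_le.mpr (hA.1 hx))) g
  obtain ⟨h, hh, hB⟩ := exists_conj_le_sylow_of_le S (H := (S : Subgroup G) ⊔ N) le_sup_left
    (Subgroup.zpowers_le.mpr hu) hup
  have h1 : h⁻¹ * (g * x * g⁻¹) * h ∈ (S : Subgroup G) :=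
    mem_cj.mp (hB (Subgroup.mem_zpowers _))
  have h2 : h⁻¹ * (g * x * g⁻¹) * h ∈ A := by
    have := hA.2 x hx (h⁻¹ * g) (by simpa [mul_assoc] using h1)
    simpa [mul_assoc] using this
  obtain ⟨s', hs', n, hn, rfl⟩ := Subgroup.mem_sup_of_normal_right.mp hh
  set a := (s' * n)⁻¹ * (g * x * g⁻¹) * (s' * n) with ha
  have h3 : s' * a * s'⁻¹ ∈ A :=
    hA.2 a h2 s' ((S : Subgroup G).mul_mem ((S : Subgroup G).mul_mem hs' h1) ((S : Subgroup G).inv_mem hs'))
  refine ⟨s' * a * s'⁻¹, h3, ?_⟩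
  have hn1 : (QuotientGroup.mk n : G ⧸ N) = 1 := (QuotientGroup.eq_one_iff n).mpr hn
  show (QuotientGroup.mk (s' * a * s'⁻¹) : G ⧸ N) = _
  simp only [ha, QuotientGroup.mk_mul, QuotientGroup.mk_inv, hn1, QuotientGroup.mk'_apply]
  simp [mul_assoc]

end Cfsg.Agent.S1250
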