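import Mathlib
import Cfsg.Agent.Lib.helper6_MinNormal
import Cfsg.Agent.Lib.helper6_Sylow
import Cfsg.Statements.S3634

set_option autoImplicit false
open Cfsg

namespace Cfsg.Agent.S3634


theorem fpf_core {G V : Type*} [Group G] [CommGroup V] (φ : G →* MulAut V) (Q : Subgroup G)
    [Finite Q] (x : G) (r : ℕ) (hr : 0 < r) (hxr : x ^ r = 1) (hxQ : ∀ u ∈ Q, x * u * x⁻¹ ∈ Q)
    (hQ0 : ∀ v : V, (∀ u ∈ Q, φ u v = v) → v = 1)
    (hx0 : ∀ v : V, φ x v = v → v = 1)
    (hc : ∀ i, 0 < i → i < r → ∀ u ∈ Q, x ^ i * u = u * x ^ i → u = 1) (v : V) :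
    v ^ (Nat.card Q) = 1 := by
  classical
  have : Fintype Q := Fintype.ofFinite Q
  have NQ : ∀ v : V, ∏ u : Q, φ (u : G) v = 1 := by
    intro v
    apply hQ0
    intro u hu
    rw [map_prod]
    refine Fintype.prod_equiv (Equiv.mulLeft (⟨u, hu⟩ : Q)) _ _ ?_
    intro w
    simp [map_mul]
  have Nx : ∀ v : V, ∏ i ∈ Finset.range r, φ (x ^ i) v = 1 := by
    intro v
    apply hx0
    rw [map_prod]
    have h1 : ∀ i, φ x (φ (x ^ i) v) = φ (x ^ (i + 1)) v := by
      intro i
      rw [pow_succ', map_mul]; rfl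
    simp_rw [h1]
    have h2 := Finset.prod_range_succ' (fun i => φ (x ^ i) v) r
    have h3 := Finset.prod_range_succ (fun i => φ (x ^ i) v) r
    rw [h3] at h2
    simp only [hxr, pow_zero] at h2
    exact (mul_right_cancel h2).symm
  have Nx' : ∀ v : V, ∏ i ∈ Finset.Ico 1 r, φ (x ^ i) v = v⁻¹ := by
    intro v
    have h := Nx v
    rw [Finset.range_eq_Ico, Finset.prod_eq_prod_Ico_succ_bot hr] at h
    simp only [pow_zero, map_one, MulAut.one_apply, zero_add] at h
    exact (inv_eq_of_mul_eq_one_right h).symm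
  have hxiQ : ∀ (i : ℕ), ∀ u ∈ Q, x ^ i * u * (x ^ i)⁻¹ ∈ Q := by
    intro i
    induction i with
    | zero => intro u hu; simpa using hu
    | succ n ih =>
      intro u hu
      have := hxQ _ (ih u hu)
      have e : x ^ (n + 1) * u * (x ^ (n + 1))⁻¹ = x * (x ^ n * u * (x ^ n)⁻¹) * x⁻¹ := by
        rw [pow_succ']; group
      rw [e]; exact this
  have key : ∀ i ∈ Finset.Ico 1 r, ∏ u : Q, φ ((u : G) * x ^ i) v
      = ∏ w : Q, φ ((w : G)⁻¹ * x ^ i * w) v := by
    intro i hi
    rw [Finset.mem_Ico] at hi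
    let e : Q → Q := fun w => ⟨(w : G)⁻¹ * (x ^ i * w * (x ^ i)⁻¹), Q.mul_mem (Q.inv_mem w.2) (hxiQ i _ w.2)⟩
    have he : Function.Injective e := by
      intro w₁ w₂ h
      have h' : (w₁ : G)⁻¹ * (x ^ i * w₁ * (x ^ i)⁻¹) = (w₂ : G)⁻¹ * (x ^ i * w₂ * (x ^ i)⁻¹) :=
        congrArg Subtype.val h
      have h2 : x ^ i * ((w₁ : G) * (w₂ : G)⁻¹) = ((w₁ : G) * (w₂ : G)⁻¹) * x ^ i := by
        have h3 : (w₁ : G)⁻¹ * x ^ i * w₁ = (w₂ : G)⁻¹ * x ^ i * w₂ := by
          have := congrArg (· * x ^ i) h'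
          simpa [mul_assoc] using this
        have h4 : x ^ i * w₁ = w₁ * ((w₂ : G)⁻¹ * x ^ i * w₂) := by
          rw [← h3]; group
        calc x ^ i * ((w₁ : G) * (w₂ : G)⁻¹) = (x ^ i * w₁) * (w₂ : G)⁻¹ := by group
          _ = _ := by rw [h4]; group
      have h5 := hc i hi.1 hi.2 _ (Q.mul_mem w₁.2 (Q.inv_mem w₂.2)) h2
      exact Subtype.ext (mul_inv_eq_one.1 h5)
    have hb : Function.Bijective e := Finite.injective_iff_bijective.1 he
    rw [← hb.prod_comp (fun u : Q => φ ((u : G) * x ^ i) v)]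
    refine Finset.prod_congr rfl ?_
    intro w _
    congr 2
    simp only [e]
    group
  have S1 : ∏ i ∈ Finset.Ico 1 r, ∏ u : Q, φ ((u : G) * x ^ i) v = 1 := by
    apply Finset.prod_eq_one
    intro i _
    have := NQ (φ (x ^ i) v)
    simpa [map_mul] using this
  rw [Finset.prod_congr rfl key, Finset.prod_comm] at S1
  have S2 : ∀ w : Q, ∏ i ∈ Finset.Ico 1 r, φ ((w : G)⁻¹ * x ^ i * w) v = v⁻¹ := by
    intro w
    have h := Nx' (φ (w : G) v)
    have h2 := congrArg (φ (w : G)⁻¹) h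
    rw [map_prod] at h2
    have h3 : φ (w : G)⁻¹ (φ (w : G) v)⁻¹ = v⁻¹ := by
      rw [map_inv (φ (w : G)⁻¹), ← MulAut.mul_apply, ← map_mul]; simp
    rw [h3] at h2
    rw [← h2]
    refine Finset.prod_congr rfl ?_
    intro i _
    simp [map_mul]
  simp only [S2] at S1
  rw [Finset.prod_const, Finset.card_univ, ← Nat.card_eq_fintype_card, inv_pow, inv_eq_one] at S1
  exact S1

theorem exists_order_mul {G : Type*} [Group G] [Finite G] {a b : G} (hab : Commute a b) {p q : ℕ}
    (hp : p.Prime) (hq : q.Prime) (hpq : p ≠ q) (ha : p ∣ orderOf a) (hb : q ∣ orderOf b) :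
    ∃ x : G, orderOf x = p * q := by
  refine ⟨a ^ (orderOf a / p) * b ^ (orderOf b / q), ?_⟩
  have h1 : orderOf (a ^ (orderOf a / p)) = p :=
    orderOf_pow_orderOf_div (orderOf_pos a).ne' ha
  have h2 : orderOf (b ^ (orderOf b / q)) = q :=
    orderOf_pow_orderOf_div (orderOf_pos b).ne' hb
  have h3 := (hab.pow_pow (orderOf a / p) (orderOf b / q)).orderOf_mul_eq_mul_orderOf_of_coprime
    (by rw [h1, h2]; exact (Nat.coprime_primes hp hq).2 hpq)
  rw [h3, h1, h2]

theorem dvd_orderOf_of_pgroup {G : Type*} [Group G] {p : ℕ} (hp : p.Prime) {H : Subgroup G}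
    (hH : IsPGroup p H) {g : G} (hg : g ∈ H) (h1 : g ≠ 1) : p ∣ orderOf g := by
  obtain ⟨k, hk⟩ := hH ⟨g, hg⟩
  have hk' : g ^ (p ^ k) = 1 := by
    have := congrArg Subtype.val hk
    simpa using this
  obtain ⟨j, _, hj⟩ := (Nat.dvd_prime_pow hp).1 (orderOf_dvd_of_pow_eq_one hk')
  rcases Nat.eq_zero_or_pos j with rfl | hj0
  · rw [pow_zero, orderOf_eq_one_iff] at hj
    exact absurd hj h1
  · rw [hj]; exact dvd_pow_self p hj0.ne'

theorem normal_case {G : Type*} [Group G] [Finite G] (P M : Subgroup G) [P.Normal] [M.Normal]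
    (p q r : ℕ) (hp : p.Prime) (hq : q.Prime) (hr : r.Prime) (hpq : p ≠ q) (hpr : p ≠ r)
    (hqr : q ≠ r) (hP : IsPGroup p P) (hP1 : P ≠ ⊥) (hqM : q ∣ Nat.card M) (hrM : r ∣ M.index) :
    (∃ x : G, orderOf x = p * q) ∨ (∃ x : G, orderOf x = p * r) ∨ (∃ x : G, orderOf x = q * r) := by
  classical
  by_contra hcon
  push Not at hcon
  obtain ⟨h1, h2, h3⟩ := hcon
  have : Fact p.Prime := ⟨hp⟩
  have : Fact q.Prime := ⟨hq⟩
  have : Fact r.Prime := ⟨hr⟩
  have hsol : Group.IsSolvable P := by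
    have := hP.isNilpotent
    infer_instance
  obtain ⟨V, hVn, hV1, hVP, hVc⟩ := Cfsg.Agent.Lib.helper6_MinNormal.exists_normal_abelian P hP1 hsol
  have hVp : IsPGroup p V := hP.to_le hVP
  let Q : Sylow q M := default
  let Q' : Subgroup G := (Q : Subgroup M).map M.subtype
  have hQ'p : IsPGroup q Q' := Q.2.map _
  have hQ1 : Q' ≠ ⊥ := by
    intro h
    have := (Subgroup.map_eq_bot_iff_of_injective _ M.subtype_injective).1 h
    exact Q.ne_bot_of_dvd_card hqM this
  have hfr : Subgroup.normalizer (Q' : Set G) ⊔ M = ⊤ := Sylow.normalizer_sup_eq_top Q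
  have hrN : r ∣ Nat.card (Subgroup.normalizer (Q' : Set G)) := by
    have e1 : M.relIndex (Subgroup.normalizer (Q' : Set G)) = M.index := by
      rw [← Subgroup.relIndex_sup_right, hfr, Subgroup.relIndex_top_right]
    exact (e1 ▸ hrM).trans (Subgroup.relIndex_dvd_card _ _)
  obtain ⟨x', hx'⟩ := exists_prime_orderOf_dvd_card' r hrN
  set x : G := (x' : G) with hxdef
  have hx : orderOf x = r := by rw [hxdef, Subgroup.orderOf_coe]; exact hx'
  have hxN : x ∈ Subgroup.normalizer (Q' : Set G) := x'.2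
  let : CommGroup V := { (inferInstance : Group V) with
    mul_comm := fun a b => Subtype.ext (hVc a a.2 b b.2) }
  have hfix : ∀ (g : G) (v : V), (MulAut.conjNormal g : MulAut V) v = v → Commute g (v : G) := by
    intro g v h
    have h' := congrArg Subtype.val h
    rw [MulAut.conjNormal_apply] at h'
    exact mul_inv_eq_iff_eq_mul.1 h'
  obtain ⟨u₀', hu₀'⟩ := Subgroup.ne_bot_iff_exists_ne_one.1 hQ1
  obtain ⟨u₀, hu₀, hu₀1⟩ : ∃ u : G, u ∈ Q' ∧ u ≠ 1 :=
    ⟨(u₀' : G), u₀'.2, fun h => hu₀' (Subtype.ext h)⟩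
  have main := fpf_core (MulAut.conjNormal : G →* MulAut V) Q' x r hr.pos
    (by rw [← hx]; exact pow_orderOf_eq_one x)
    (fun u hu => (Subgroup.mem_normalizer_iff.1 hxN u).1 hu)
    (by
      intro v hv
      by_contra hv1
      have hc := hfix u₀ v (hv u₀ hu₀)
      have hv1' : (v : G) ≠ 1 := fun h => hv1 (Subtype.ext h)
      obtain ⟨y, hy⟩ := exists_order_mul hc.symm hp hq hpq
        (dvd_orderOf_of_pgroup hp hVp v.2 hv1') (dvd_orderOf_of_pgroup hq hQ'p hu₀ hu₀1)
      exact h1 y hy)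
    (by
      intro v hv
      by_contra hv1
      have hc := hfix x v hv
      have hv1' : (v : G) ≠ 1 := fun h => hv1 (Subtype.ext h)
      obtain ⟨y, hy⟩ := exists_order_mul hc.symm hp hr hpr
        (dvd_orderOf_of_pgroup hp hVp v.2 hv1') (by rw [hx])
      exact h2 y hy)
    (by
      intro i hi0 hir u hu hc
      by_contra hu1
      have hxi : orderOf (x ^ i) = r := by
        rcases (Nat.dvd_prime hr).1 (hx ▸ orderOf_pow_dvd (x := x) i) with h | h
        · rw [orderOf_eq_one_iff] at h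
          have := orderOf_dvd_of_pow_eq_one h
          rw [hx] at this
          exact absurd (Nat.le_of_dvd hi0 this) (by omega)
        · exact h
      have hc' : Commute u (x ^ i) := hc.symm
      obtain ⟨y, hy⟩ := exists_order_mul hc' hq hr hqr
        (dvd_orderOf_of_pgroup hq hQ'p hu hu1) (by rw [hxi])
      exact h3 y hy)
  obtain ⟨v, hv⟩ := Subgroup.ne_bot_iff_exists_ne_one.1 hV1
  have hv1' : (v : G) ≠ 1 := fun h => hv (Subtype.ext h)
  have h4 := main v
  have h5 : orderOf (v : G) ∣ Nat.card Q' := by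
    apply orderOf_dvd_of_pow_eq_one
    have := congrArg Subtype.val h4
    simpa using this
  obtain ⟨n, hn⟩ := IsPGroup.iff_card.1 hQ'p
  rw [hn] at h5
  have h6 := (dvd_orderOf_of_pgroup hp hVp v.2 hv1').trans h5
  exact hpq ((Nat.prime_dvd_prime_iff_eq hp hq).1 (hp.dvd_of_dvd_pow h6))


/-- Let G be a finite group with normal subgroups K ≤ M, and let p, q, r be distinct primes with p dividing the order of K, q dividing the order of M/K and r dividing the order of G/M. Then p, q, r are not pairwise non-adjacent in the prime graph of G: G has an element of order pq, pr or qr. -/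
theorem result {G : Type*} [Group G] [Finite G] (K M : Subgroup G) [K.Normal] [M.Normal] (hKM : K ≤ M)
    (p q r : ℕ) (hp : p.Prime) (hq : q.Prime) (hr : r.Prime) (hpq : p ≠ q) (hpr : p ≠ r) (hqr : q ≠ r)
    (hpK : p ∣ Nat.card ↥K) (hqM : q ∣ Nat.card ↥M / Nat.card ↥K) (hrG : r ∣ Nat.card G / Nat.card ↥M) :
    (∃ x : G, orderOf x = p * q) ∨ (∃ x : G, orderOf x = p * r) ∨ (∃ x : G, orderOf x = q * r) := by
  classical
  have : Fact p.Prime := ⟨hp⟩
  let P : Sylow p K := default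
  let P' : Subgroup G := (P : Subgroup K).map K.subtype
  have hP'p : IsPGroup p P' := P.2.map _
  have hP1 : P' ≠ ⊥ := by
    intro h
    have := (Subgroup.map_eq_bot_iff_of_injective _ K.subtype_injective).1 h
    exact P.ne_bot_of_dvd_card hpK this
  set N : Subgroup G := Subgroup.normalizer (P' : Set G) with hN
  have hfr : N ⊔ K = ⊤ := Sylow.normalizer_sup_eq_top P
  have hfrM : N ⊔ M = ⊤ := top_le_iff.1 (hfr ▸ sup_le_sup_left hKM N)
  have hP'N : P' ≤ N := Subgroup.le_normalizer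
  have eK : K.relIndex N = K.index := by
    rw [← Subgroup.relIndex_sup_right, hfr, Subgroup.relIndex_top_right]
  have eM : M.relIndex N = M.index := by
    rw [← Subgroup.relIndex_sup_right, hfrM, Subgroup.relIndex_top_right]
  have e1 : K.relIndex M * M.index = K.index := Subgroup.relIndex_mul_index hKM
  have e2 : K.relIndex (M ⊓ N) * M.relIndex N = K.relIndex N := by
    rw [Subgroup.relIndex_inf_mul_relIndex, inf_of_le_left hKM]
  have e3 : K.relIndex (M ⊓ N) = K.relIndex M := by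
    rw [eM, eK, ← e1] at e2
    exact Nat.eq_of_mul_eq_mul_right (Nat.pos_of_ne_zero M.index_ne_zero_of_finite) e2
  have hq' : q ∣ K.relIndex M := by
    have := Cfsg.Agent.Lib.helper6_Sylow.card_mul_relIndex hKM
    rw [← this, Nat.mul_div_cancel_left _ Nat.card_pos] at hqM
    exact hqM
  have hr' : r ∣ M.index := by
    rw [← M.card_mul_index, Nat.mul_div_cancel_left _ Nat.card_pos] at hrG
    exact hrG
  have : (P'.subgroupOf N).Normal := Subgroup.normal_in_normalizer
  have hcard : Nat.card (M.subgroupOf N) = Nat.card (M ⊓ N : Subgroup G) := by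
    rw [← Subgroup.inf_subgroupOf_right]
    exact Nat.card_congr (Subgroup.subgroupOfEquivOfLe inf_le_right).toEquiv
  have key := normal_case (G := N) (P'.subgroupOf N) (M.subgroupOf N) p q r hp hq hr hpq hpr hqr
    hP'p.comap_subtype
    (by
      intro h
      rw [Subgroup.subgroupOf_eq_bot] at h
      exact hP1 (disjoint_self.1 (h.mono_right hP'N)))
    (by
      rw [hcard]
      exact (e3 ▸ hq').trans (Subgroup.relIndex_dvd_card _ _))
    (by
      change r ∣ M.relIndex N
      rw [eM]; exact hr')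
  rcases key with ⟨x, hx⟩ | ⟨x, hx⟩ | ⟨x, hx⟩
  · exact Or.inl ⟨x, by rw [Subgroup.orderOf_coe]; exact hx⟩
  · exact Or.inr (Or.inl ⟨x, by rw [Subgroup.orderOf_coe]; exact hx⟩)
  · exact Or.inr (Or.inr ⟨x, by rw [Subgroup.orderOf_coe]; exact hx⟩)

end Cfsg.Agent.S3634
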