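import Mathlib
import Cfsg.Agent.Lib.helper6_MinNormal
import Cfsg.Agent.Lib.helper6_Sylow
import Cfsg.Agent.S3634
import Cfsg.Statements.S3633

set_option autoImplicit false
open Cfsg

namespace Cfsg.Agent.S3633

theorem exists_step {G : Type*} [Group G] [Finite G] (L M : Subgroup G) [L.Normal] [M.Normal]
    (hL : Group.IsSolvable L) (hML : M ≤ L) (hne : M ≠ L) :
    ∃ (t k : ℕ) (M' : Subgroup G), t.Prime ∧ 0 < k ∧ M'.Normal ∧ M ≤ M' ∧ M' ≤ L ∧
      Nat.card M' = Nat.card M * t ^ k := by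
  classical
  let f := QuotientGroup.mk' M
  have hf : Function.Surjective f := QuotientGroup.mk'_surjective M
  have hn : (L.map f).Normal := Subgroup.Normal.map inferInstance f hf
  have h1 : L.map f ≠ ⊥ := by
    intro h
    rw [Subgroup.map_eq_bot_iff, QuotientGroup.ker_mk'] at h
    exact hne (le_antisymm hML h)
  have hs : Group.IsSolvable (L.map f) :=
    Group.isSolvable_of_surjective (f := f.subgroupMap L) (f.subgroupMap_surjective L)
  obtain ⟨t, A, ht, hAn, hA1, hAL, _, hAt⟩ :=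
    Cfsg.Agent.Lib.helper6_MinNormal.exists_normal_elemAbelian (L.map f) h1 hs
  have := Fact.mk ht
  have hAp : IsPGroup t A := by
    intro a
    refine ⟨1, ?_⟩
    rw [pow_one]
    exact Subtype.ext (hAt a a.2)
  obtain ⟨k, hk⟩ := IsPGroup.iff_card.1 hAp
  have hk0 : 0 < k := by
    rcases Nat.eq_zero_or_pos k with rfl | h
    · rw [pow_zero] at hk
      exact absurd (Subgroup.card_eq_one.1 hk) hA1
    · exact h
  refine ⟨t, k, A.comap f, ht, hk0, hAn.comap f, ?_, ?_, ?_⟩
  · intro x hx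
    rw [Subgroup.mem_comap]
    have : f x = 1 := (QuotientGroup.eq_one_iff x).2 hx
    rw [this]; exact A.one_mem
  · have := Subgroup.comap_mono (f := f) hAL
    rw [Subgroup.comap_map_eq, QuotientGroup.ker_mk', sup_of_le_left hML] at this
    exact this
  · have e1 : (A.comap f).index = A.index := Subgroup.index_comap_of_surjective A hf
    have e2 := (A.comap f).card_mul_index
    have e3 := A.card_mul_index
    have e4 := M.card_mul_index
    rw [Subgroup.index] at e4
    rw [e1, ← e4, ← e3, hk, ← mul_assoc] at e2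
    exact Nat.eq_of_mul_eq_mul_right (Nat.pos_of_ne_zero A.index_ne_zero_of_finite) e2

theorem exists_section {G : Type*} [Group G] [Finite G] (L : Subgroup G) [L.Normal]
    (hL : Group.IsSolvable L) (π : Finset ℕ) (hπ : π.Nonempty) (hπp : ∀ s ∈ π, s.Prime)
    (hdiv : ∀ s ∈ π, s ∣ Nat.card L) :
    ∃ t ∈ π, ∃ M : Subgroup G, M.Normal ∧ M ≤ L ∧ t ∣ Nat.card L / Nat.card M ∧
      ∀ s ∈ π, s ≠ t → s ∣ Nat.card M := by
  classical
  let S : Set (Subgroup G) := {M | M.Normal ∧ M ≤ L ∧ ∃ t ∈ π, ¬ t ∣ Nat.card M}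
  have hSfin : S.Finite := Set.toFinite S
  have hSne : S.Nonempty := by
    obtain ⟨t, ht⟩ := hπ
    refine ⟨⊥, inferInstance, bot_le, t, ht, ?_⟩
    rw [Subgroup.card_bot]
    exact (hπp t ht).one_lt.ne' ∘ Nat.dvd_one.1
  obtain ⟨M, hM⟩ := hSfin.exists_maximal hSne
  obtain ⟨⟨hMn, hML, t₀, ht₀, ht₀M⟩, hmax⟩ := hM
  have hne : M ≠ L := by
    rintro rfl
    exact ht₀M (hdiv t₀ ht₀)
  obtain ⟨t, k, M', ht, hk, hM'n, hMM', hM'L, hcard⟩ := exists_step L M hL hML hne
  have hall : ∀ s ∈ π, s ∣ Nat.card M' := by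
    intro s hs
    by_contra hsn
    have h1 : M' ≤ M := hmax ⟨hM'n, hM'L, s, hs, hsn⟩ hMM'
    have h2 : M' = M := le_antisymm h1 hMM'
    rw [h2] at hcard
    have h3 : t ^ k = 1 := by
      have hpos : 0 < Nat.card M := Nat.card_pos
      exact Nat.eq_of_mul_eq_mul_left hpos (by rw [← hcard, mul_one])
    have := Nat.one_lt_pow hk.ne' ht.one_lt
    omega
  have hcase : ∀ s ∈ π, s ∣ Nat.card M ∨ s = t := by
    intro s hs
    have h := hall s hs
    rw [hcard] at h
    rcases ((hπp s hs).dvd_mul).1 h with h | h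
    · exact Or.inl h
    · exact Or.inr ((Nat.prime_dvd_prime_iff_eq (hπp s hs) ht).1 ((hπp s hs).dvd_of_dvd_pow h))
  have htt : t₀ = t := (hcase t₀ ht₀).resolve_left ht₀M
  refine ⟨t, htt ▸ ht₀, M, hMn, hML, ?_, fun s hs hst => (hcase s hs).resolve_right hst⟩
  have e1 := Cfsg.Agent.Lib.helper6_Sylow.card_mul_relIndex hM'L
  rw [← e1, hcard, mul_assoc, Nat.mul_div_cancel_left _ Nat.card_pos]
  exact (dvd_pow_self t hk.ne').mul_right _

theorem not_solvable_of_coclique {G : Type*} [Group G] [Finite G] (p q r : ℕ) (hp : p.Prime)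
    (hq : q.Prime) (hr : r.Prime) (hpq : p ≠ q) (hpr : p ≠ r) (hqr : q ≠ r)
    (hpG : p ∣ Nat.card G) (hqG : q ∣ Nat.card G) (hrG : r ∣ Nat.card G)
    (h1 : ¬ ∃ x : G, orderOf x = p * q) (h2 : ¬ ∃ x : G, orderOf x = p * r)
    (h3 : ¬ ∃ x : G, orderOf x = q * r) : ¬ Group.IsSolvable G := by
  classical
  intro hs
  have hadj : ∀ a ∈ ({p, q, r} : Finset ℕ), ∀ b ∈ ({p, q, r} : Finset ℕ), a ≠ b →
      ¬ ∃ x : G, orderOf x = a * b := by
    intro a ha b hb hab
    simp only [Finset.mem_insert, Finset.mem_singleton] at ha hb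
    rcases ha with rfl | rfl | rfl <;> rcases hb with rfl | rfl | rfl <;>
      first
      | exact absurd rfl hab
      | assumption
      | (rw [mul_comm]; assumption)
  have hprime : ∀ a ∈ ({p, q, r} : Finset ℕ), a.Prime := by
    intro a ha
    simp only [Finset.mem_insert, Finset.mem_singleton] at ha
    rcases ha with rfl | rfl | rfl <;> assumption
  have hsT : Group.IsSolvable (⊤ : Subgroup G) :=
    Group.isSolvable_of_isSolvable_injective (f := (⊤ : Subgroup G).subtype)
      (Subgroup.subtype_injective _)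
  obtain ⟨c, hc, M, hMn, _, hcM, hrest⟩ := exists_section (⊤ : Subgroup G) hsT {p, q, r}
    ⟨p, by simp⟩ hprime (by
      intro a ha
      rw [Subgroup.card_top]
      simp only [Finset.mem_insert, Finset.mem_singleton] at ha
      rcases ha with rfl | rfl | rfl <;> assumption)
  rw [Subgroup.card_top] at hcM
  have hsM : Group.IsSolvable M :=
    Group.isSolvable_of_isSolvable_injective (f := M.subtype) (Subgroup.subtype_injective _)
  have hne : (({p, q, r} : Finset ℕ).erase c).Nonempty := by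
    by_cases hcp : c = p
    · exact ⟨q, Finset.mem_erase.2 ⟨by rw [hcp]; exact hpq.symm, by simp⟩⟩
    · exact ⟨p, Finset.mem_erase.2 ⟨fun h => hcp h.symm, by simp⟩⟩
  obtain ⟨b, hb, K, hKn, hKM, hbK, hrest2⟩ := exists_section M hsM (({p, q, r} : Finset ℕ).erase c)
    hne (fun s hs => hprime s (Finset.mem_of_mem_erase hs))
    (fun s hs => hrest s (Finset.mem_of_mem_erase hs) (Finset.ne_of_mem_erase hs))
  have hbc : b ≠ c := Finset.ne_of_mem_erase hb
  have hb' := Finset.mem_of_mem_erase hb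
  obtain ⟨a, ha, hab, hac⟩ : ∃ a ∈ ({p, q, r} : Finset ℕ), a ≠ b ∧ a ≠ c := by
    simp only [Finset.mem_insert, Finset.mem_singleton] at hb' hc
    by_cases h1 : p ≠ b ∧ p ≠ c
    · exact ⟨p, by simp, h1.1, h1.2⟩
    by_cases h2 : q ≠ b ∧ q ≠ c
    · exact ⟨q, by simp, h2.1, h2.2⟩
    · refine ⟨r, by simp, ?_, ?_⟩
      · rintro rfl
        rcases hc with rfl | rfl | rfl <;> simp_all
      · rintro rfl
        rcases hb' with rfl | rfl | rfl <;> simp_all
  have haK : a ∣ Nat.card K := hrest2 a (Finset.mem_erase.2 ⟨hac, ha⟩) hab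
  rcases Cfsg.Agent.S3634.result K M hKM a b c (hprime a ha) (hprime b hb') (hprime c hc) hab hac hbc
    haK hbK hcM with h | h | h
  · exact hadj a ha b hb' hab h
  · exact hadj a ha c hc hac h
  · exact hadj b hb' c hc hbc h


/-- Let G be a finite group and ρ a set of at least three prime divisors of the order of G that are pairwise non-adjacent in the prime graph (no element of order rs for distinct r, s ∈ ρ). Then at most one prime of ρ divides the order of any given solvable normal subgroup of G; in particular G is not solvable. -/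
theorem result {G : Type*} [Group G] [Finite G] (ρ : Finset ℕ) (hρ : 3 ≤ ρ.card) (hc : ((∀ r ∈ ρ, r.Prime ∧ r ∣ Nat.card G) ∧ (∀ r ∈ ρ, ∀ s ∈ ρ, r ≠ s → ¬ ∃ x : G, orderOf x = r * s)))
    (K : Subgroup G) [K.Normal] (hK : Group.IsSolvable ↥K) :
    (∀ r ∈ ρ, ∀ s ∈ ρ, r ∣ Nat.card ↥K → s ∣ Nat.card ↥K → r = s) ∧ ¬ Group.IsSolvable G := by
  classical
  obtain ⟨hc1, hc2⟩ := hc
  obtain ⟨T, hTρ, hT3⟩ := Finset.exists_subset_card_eq hρ
  obtain ⟨p, q, r, hpq, hpr, hqr, rfl⟩ := Finset.card_eq_three.1 hT3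
  have hpρ : p ∈ ρ := hTρ (by simp)
  have hqρ : q ∈ ρ := hTρ (by simp)
  have hrρ : r ∈ ρ := hTρ (by simp)
  refine ⟨?_, not_solvable_of_coclique p q r (hc1 p hpρ).1 (hc1 q hqρ).1 (hc1 r hrρ).1 hpq hpr hqr
    (hc1 p hpρ).2 (hc1 q hqρ).2 (hc1 r hrρ).2 (hc2 p hpρ q hqρ hpq) (hc2 p hpρ r hrρ hpr)
    (hc2 q hqρ r hrρ hqr)⟩
  intro a ha b hb haK hbK
  by_contra hab
  obtain ⟨c, hcρ, hca, hcb⟩ : ∃ c ∈ ρ, c ≠ a ∧ c ≠ b := by
    by_cases h1 : p ≠ a ∧ p ≠ b
    · exact ⟨p, hpρ, h1.1, h1.2⟩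
    by_cases h2 : q ≠ a ∧ q ≠ b
    · exact ⟨q, hqρ, h2.1, h2.2⟩
    · refine ⟨r, hrρ, ?_, ?_⟩
      · rintro rfl
        push Not at h1 h2
        by_cases hpa : p = b
        · by_cases hqa : q = b
          · exact hpq (hpa.trans hqa.symm)
          · exact hqa (h2 hqr)
        · exact hpa (h1 hpr)
      · rintro rfl
        push Not at h1 h2
        by_cases hpa : p = a
        · by_cases hqa : q = a
          · exact hpq (hpa.trans hqa.symm)
          · exact hqr (h2 hqa)
        · exact hpr (h1 hpa)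
  have hsub : ∀ s t : ℕ, (¬ ∃ x : G, orderOf x = s * t) → ¬ ∃ x : K, orderOf x = s * t := by
    rintro s t h ⟨x, hx⟩
    exact h ⟨x, by rw [Subgroup.orderOf_coe]; exact hx⟩
  by_cases hcK : c ∣ Nat.card K
  · exact not_solvable_of_coclique (G := K) a b c (hc1 a ha).1 (hc1 b hb).1 (hc1 c hcρ).1 hab
      hca.symm hcb.symm haK hbK hcK (hsub _ _ (hc2 a ha b hb hab))
      (hsub _ _ (hc2 a ha c hcρ hca.symm)) (hsub _ _ (hc2 b hb c hcρ hcb.symm)) hK
  · have hcG : c ∣ Nat.card G / Nat.card K := by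
      have h := (hc1 c hcρ).2
      rw [← K.card_mul_index] at h ⊢
      rw [Nat.mul_div_cancel_left _ Nat.card_pos]
      exact (((hc1 c hcρ).1.dvd_mul).1 h).resolve_left hcK
    obtain ⟨t, ht, K₀, hK₀n, hK₀K, htK, hrest⟩ := exists_section K hK {a, b} ⟨a, by simp⟩
      (by
        intro s hs
        simp only [Finset.mem_insert, Finset.mem_singleton] at hs
        rcases hs with rfl | rfl
        · exact (hc1 _ ha).1
        · exact (hc1 _ hb).1)
      (by
        intro s hs
        simp only [Finset.mem_insert, Finset.mem_singleton] at hs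
        rcases hs with rfl | rfl <;> assumption)
    simp only [Finset.mem_insert, Finset.mem_singleton] at ht
    rcases ht with rfl | rfl
    · have hbK₀ : b ∣ Nat.card K₀ := hrest b (by simp) (Ne.symm hab)
      rcases Cfsg.Agent.S3634.result K₀ K hK₀K b t c (hc1 b hb).1 (hc1 t ha).1 (hc1 c hcρ).1
        (Ne.symm hab) hcb.symm hca.symm hbK₀ htK hcG with h | h | h
      · exact hc2 b hb t ha (Ne.symm hab) h
      · exact hc2 b hb c hcρ hcb.symm h
      · exact hc2 t ha c hcρ hca.symm h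
    · have haK₀ : a ∣ Nat.card K₀ := hrest a (by simp) hab
      rcases Cfsg.Agent.S3634.result K₀ K hK₀K a t c (hc1 a ha).1 (hc1 t hb).1 (hc1 c hcρ).1
        hab hca.symm hcb.symm haK₀ htK hcG with h | h | h
      · exact hc2 a ha t hb hab h
      · exact hc2 a ha c hcρ hca.symm h
      · exact hc2 t hb c hcρ hcb.symm h

end Cfsg.Agent.S3633
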