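import Mathlib
import Cfsg.Agent.S3633
import Cfsg.Statements.S1475

set_option autoImplicit false
open Cfsg

namespace Cfsg.Agent.S1475

/-- Let G be a finite solvable group such that the order of every element is a prime power (1 included). Then at most two distinct primes divide the order of G. -/
theorem result {G : Type*} [Group G] [Finite G] [Group.IsSolvable G] (h : ∀ g : G, IsPrimePow (orderOf g) ∨ g = 1) :
    (Nat.card G).primeFactors.card ≤ 2 := by
  classical
  by_contra hcon
  push Not at hcon
  obtain ⟨p, hp, q, hq, r, hr, hpq, hpr, hqr⟩ := Finset.two_lt_card.1 hcon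
  have hp' := Nat.prime_of_mem_primeFactors hp
  have hq' := Nat.prime_of_mem_primeFactors hq
  have hr' := Nat.prime_of_mem_primeFactors hr
  have key : ∀ a b : ℕ, a.Prime → b.Prime → a ≠ b → ¬ ∃ x : G, orderOf x = a * b := by
    rintro a b ha hb hab ⟨x, hx⟩
    rcases h x with h1 | h1
    · rw [hx, isPrimePow_nat_iff] at h1
      obtain ⟨s, k, hs, hk, hsk⟩ := h1
      have h2 : a ∣ s ^ k := hsk ▸ Dvd.intro _ rfl
      have h3 : b ∣ s ^ k := hsk ▸ Dvd.intro_left _ rfl
      have h4 := (Nat.prime_dvd_prime_iff_eq ha hs).1 (ha.dvd_of_dvd_pow h2)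
      have h5 := (Nat.prime_dvd_prime_iff_eq hb hs).1 (hb.dvd_of_dvd_pow h3)
      exact hab (h4.trans h5.symm)
    · rw [h1, orderOf_one] at hx
      have := Nat.eq_one_of_mul_eq_one_right hx.symm
      exact ha.one_lt.ne' this
  exact S3633.not_solvable_of_coclique p q r hp' hq' hr' hpq hpr hqr
    (Nat.dvd_of_mem_primeFactors hp) (Nat.dvd_of_mem_primeFactors hq)
    (Nat.dvd_of_mem_primeFactors hr) (key p q hp' hq' hpq) (key p r hp' hr' hpr)
    (key q r hq' hr' hqr) inferInstance

end Cfsg.Agent.S1475
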