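import Cfsg.Statements.S2060
import Cfsg.Agent.Lib.Helper3_Out11

set_option autoImplicit false
open Cfsg

namespace Cfsg.Agent.S2060

/-- The outer automorphism group of the Mathieu group M₁₁ (the stabiliser of a dodecad and one of its points in the automorphism group of the length-24 binary code) is trivial: every automorphism is inner. -/
theorem result : Nat.card (Cfsg.Out ↥Cfsg.Spor.M11) = 1 := by
  have hd : Cfsg.Spor.squareDodecad ∈ Cfsg.dodecads := by
    refine ⟨⟨Cfsg.qrWord 0, Submodule.subset_span (Or.inl ⟨0, rfl⟩), rfl⟩, ?_⟩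
    decide +kernel
  have h0 : (some 0 : Cfsg.GolayPt) ∈ Cfsg.Spor.squareDodecad := by decide +kernel
  exact Cfsg.Agent.Lib.Helper3_Out11.out_flag hd h0

end Cfsg.Agent.S2060
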