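import Cfsg.Statements.S2062
import Cfsg.Agent.Lib.Helper3_Out22

set_option autoImplicit false
open Cfsg

namespace Cfsg.Agent.S2062

/-- The outer automorphism group of the Mathieu group M₂₂ (the permutations in the automorphism group of the length-24 binary code that fix each of two given points) has order 2. -/
theorem result : Nat.card (Cfsg.Out ↥Cfsg.Spor.M22) = 2 := by
  have e : Cfsg.Spor.M22 = Cfsg.Agent.Lib.Helper3_Out22.G22 := by
    ext g
    rw [Cfsg.Agent.Lib.Helper3_Out22.mem_G22]
    constructor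
    · rintro ⟨⟨h1, h2⟩, h3⟩
      exact ⟨h1, h3, h2⟩
    · rintro ⟨h1, h2, h3⟩
      exact ⟨⟨h1, h3⟩, h2⟩
  rw [e]
  exact Cfsg.Agent.Lib.Helper3_Out22.out22

end Cfsg.Agent.S2062
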