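import Cfsg.Statements.S2063
import Cfsg.Agent.Lib.Helper3_FpA

set_option autoImplicit false
open Cfsg

namespace Cfsg.Agent.S2063

/-- The outer automorphism group of the Mathieu group M₂₃ (the stabiliser of a point in the automorphism group of the length-24 binary code) is trivial: every automorphism is inner. -/
theorem result : Nat.card (Cfsg.Out ↥Cfsg.Spor.M23) = 1 := by
  have e : Cfsg.Spor.M23 = Cfsg.Agent.Lib.Helper3_PermChain.fixL Cfsg.M24
      [Cfsg.Agent.Lib.Helper3_M24a.pt 23] := by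
    ext g
    constructor
    · rintro ⟨h1, h2⟩
      exact ⟨h1, fun a ha => by rw [List.mem_singleton] at ha; rw [ha]; exact h2⟩
    · rintro ⟨h1, h2⟩
      exact ⟨h1, h2 _ (List.mem_singleton.mpr rfl)⟩
  rw [e]
  apply Cfsg.Agent.Lib.Helper3_Out.card_out_eq_one
  intro φ
  obtain ⟨π, h1, h2⟩ := Cfsg.Agent.Lib.Helper3_Out2.frame [Cfsg.Agent.Lib.Helper3_M24a.pt 23]
    (by simp) (by simp) Cfsg.Agent.Lib.Helper3_FpA.fixed_point_M23 φ
  refine ⟨π, ⟨?_, h1⟩, h2⟩
  apply Cfsg.Agent.Lib.Helper3_Nrm.mem_M24_of_normalizes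
  intro g hg
  rw [← h2 ⟨g, hg⟩]
  exact (φ ⟨g, hg⟩).2.1

end Cfsg.Agent.S2063
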