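import Cfsg.Statements.S2064
import Cfsg.Agent.Lib.Helper3_FpB

set_option autoImplicit false
open Cfsg

namespace Cfsg.Agent.S2064

/-- The outer automorphism group of the Mathieu group M₂₄ (the automorphism group of the length-24 binary code) is trivial: every automorphism is inner. -/
theorem result : Nat.card (Cfsg.Out ↥Cfsg.M24) = 1 := by
  have e : Cfsg.M24 = Cfsg.Agent.Lib.Helper3_PermChain.fixL Cfsg.M24 [] :=
    (Cfsg.Agent.Lib.Helper3_PermChain.fixL_nil _).symm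
  have key : Nat.card (Cfsg.Out ↥(Cfsg.Agent.Lib.Helper3_PermChain.fixL Cfsg.M24 [])) = 1 := by
    apply Cfsg.Agent.Lib.Helper3_Out.card_out_eq_one
    intro φ
    obtain ⟨π, h1, h2⟩ := Cfsg.Agent.Lib.Helper3_Out2.frame []
      (by simp) (by simp) Cfsg.Agent.Lib.Helper3_FpB.fixed_point_M24 φ
    refine ⟨π, ⟨?_, h1⟩, h2⟩
    apply Cfsg.Agent.Lib.Helper3_Nrm.mem_M24_of_normalizes
    intro g hg
    rw [← h2 ⟨g, ⟨hg.1, by simp⟩⟩]
    exact (φ ⟨g, ⟨hg.1, by simp⟩⟩).2.1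
  rw [← e] at key
  exact key

end Cfsg.Agent.S2064
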