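import Cfsg.Statements.S2475
import Cfsg.Agent.Lib.Helper5_PSLSpec

set_option autoImplicit false

open Cfsg

namespace Cfsg.Agent.S2475

open Cfsg.Agent.Lib.Helper5_PSLSpec Polynomial

theorem exists_orderOf_of_dvd {L : Type*} [Group L] [Finite L] (g : L) (b : ℕ) (hb : b ∣ orderOf g) :
    ∃ h : L, orderOf h = b :=
  ⟨g ^ (orderOf g / b), orderOf_pow_orderOf_div (orderOf_pos g).ne' hb⟩

theorem sm_two (q : ℕ) (hq : 1 ≤ q) : sm q 2 = (q + 1) / Nat.gcd 2 (q - 1) := by
  have h1 : gs q 2 = q + 1 := by simp [gs, Finset.sum_range_succ]; ring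
  unfold sm
  rw [h1]
  congr 1
  have : q + 1 = 2 + (q - 1) := by omega
  rw [this, Nat.gcd_add_self_left]

theorem dvd_of_dvd_two_mul (n k : ℕ) (hn : 0 < n) (h : n ∣ 2 * k) : n / Nat.gcd 2 n ∣ k := by
  have hd : 0 < Nat.gcd 2 n := Nat.gcd_pos_of_pos_left _ (by norm_num)
  have hc : Nat.Coprime (2 / Nat.gcd 2 n) (n / Nat.gcd 2 n) := Nat.coprime_div_gcd_div_gcd hd
  obtain ⟨e, he⟩ := Nat.gcd_dvd_left 2 n
  obtain ⟨M, hM⟩ := Nat.gcd_dvd_right 2 n
  have h2 : 2 / Nat.gcd 2 n = e := Nat.div_eq_of_eq_mul_right hd he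
  have h3 : n / Nat.gcd 2 n = M := Nat.div_eq_of_eq_mul_right hd hM
  rw [h2, h3] at hc
  rw [h3]
  have h4 : Nat.gcd 2 n * M ∣ Nat.gcd 2 n * (e * k) := by
    rw [← hM, ← mul_assoc, ← he]; exact h
  have h5 := Nat.dvd_of_mul_dvd_mul_left hd h4
  exact hc.symm.dvd_of_dvd_mul_left h5

theorem dvd_two_mul_div (n : ℕ) : n ∣ 2 * (n / Nat.gcd 2 n) := by
  obtain ⟨e, he⟩ := Nat.gcd_dvd_left 2 n
  have hd : 0 < Nat.gcd 2 n := Nat.gcd_pos_of_pos_left _ (by norm_num)
  obtain ⟨M, hM⟩ := Nat.gcd_dvd_right 2 n
  have h3 : n / Nat.gcd 2 n = M := Nat.div_eq_of_eq_mul_right hd hM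
  rw [h3]
  refine ⟨e, ?_⟩
  calc 2 * M = (Nat.gcd 2 n * e) * M := by rw [← he]
    _ = (Nat.gcd 2 n * M) * e := by ring
    _ = n * e := by rw [← hM]

variable {F : Type*} [Field F]

theorem cayley (A : Matrix (Fin 2) (Fin 2) F) (hdet : A.det = 1) :
    A * A - A.trace • A + 1 = 0 := by
  rw [Matrix.det_fin_two] at hdet
  ext i j
  fin_cases i <;> fin_cases j <;>
    simp [Matrix.mul_apply, Fin.sum_univ_two, Matrix.trace_fin_two] <;>
    first | linear_combination -hdet | ring

theorem pow_split (A : Matrix (Fin 2) (Fin 2) F) (a b : F) (hab : a ≠ b)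
    (h : (A - a • 1) * (A - b • 1) = 0) (m : ℕ) (hm : a ^ m = b ^ m) :
    A ^ m = (a ^ m) • (1 : Matrix (Fin 2) (Fin 2) F) := by
  have hab' : a - b ≠ 0 := sub_ne_zero.2 hab
  have h' : (A - b • 1) * (A - a • 1) = 0 := by
    have hc : Commute (A - a • 1) (A - b • 1) :=
      Commute.sub_left ((Commute.refl A).sub_right ((Commute.one_right A).smul_right b))
        ((Commute.one_left _).smul_left a)
    rw [← hc.eq, h]
  have h1 : ∀ k : ℕ, A ^ k * (A - b • 1) = a ^ k • (A - b • 1) := by
    intro k
    induction k with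
    | zero => simp
    | succ k ih =>
      have : A * (A - b • 1) = a • (A - b • 1) := by
        have := h
        rw [sub_mul, sub_eq_zero, smul_mul_assoc, one_mul] at this
        exact this
      rw [pow_succ, mul_assoc, this, mul_smul_comm, ih, smul_smul, pow_succ, mul_comm]
  have h2 : ∀ k : ℕ, A ^ k * (A - a • 1) = b ^ k • (A - a • 1) := by
    intro k
    induction k with
    | zero => simp
    | succ k ih =>
      have : A * (A - a • 1) = b • (A - a • 1) := by
        have := h'
        rw [sub_mul, sub_eq_zero, smul_mul_assoc, one_mul] at this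
        exact this
      rw [pow_succ, mul_assoc, this, mul_smul_comm, ih, smul_smul, pow_succ, mul_comm]
  have h3 : (a - b) • (1 : Matrix (Fin 2) (Fin 2) F) = (A - b • 1) - (A - a • 1) := by
    rw [sub_smul]; abel
  have h4 : (a - b) • A ^ m = (a - b) • ((a ^ m) • (1 : Matrix (Fin 2) (Fin 2) F)) := by
    calc (a - b) • A ^ m = A ^ m * ((a - b) • (1 : Matrix (Fin 2) (Fin 2) F)) := by
          rw [mul_smul_comm, mul_one]
      _ = a ^ m • (A - b • 1) - b ^ m • (A - a • 1) := by rw [h3, mul_sub, h1, h2]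
      _ = a ^ m • ((A - b • 1) - (A - a • 1)) := by rw [← hm, ← smul_sub]
      _ = _ := by rw [← h3, smul_comm]
  exact smul_right_injective _ hab' h4

theorem result {F : Type*} [Field F] [Fintype F] (p : ℕ) [Fact p.Prime] [CharP F p] (h4 : 4 ≤ Fintype.card F) :
    Set.range (orderOf : Matrix.ProjectiveSpecialLinearGroup (Fin 2) F → ℕ) =
      {m : ℕ | m ∣ p ∨ m ∣ (Fintype.card F - 1) / Nat.gcd 2 (Fintype.card F - 1) ∨ m ∣ (Fintype.card F + 1) / Nat.gcd 2 (Fintype.card F - 1)} := by
  classical
  haveI : Finite (Matrix.ProjectiveSpecialLinearGroup (Fin 2) F) := by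
    unfold Matrix.ProjectiveSpecialLinearGroup
    infer_instance
  have hp : p.Prime := Fact.out
  set q := Fintype.card F with hq
  have hsm := sm_two q (by omega)
  have hpq : p ∣ q := by
    obtain ⟨n, hn1, hn⟩ := FiniteField.card F p
    rw [hq, hn]; exact dvd_pow_self _ n.ne_zero
  have hpc : Nat.Coprime p (q - 1) := by
    rw [Nat.Prime.coprime_iff_not_dvd hp]
    intro h
    have h1 : p ∣ 1 := by
      have := Nat.dvd_sub hpq h
      rwa [Nat.sub_sub_self (by omega)] at this
    exact hp.one_lt.ne' (Nat.dvd_one.1 h1)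
  apply Set.eq_of_subset_of_subset
  · rintro _ ⟨x, rfl⟩
    obtain ⟨g, rfl⟩ := QuotientGroup.mk'_surjective _ x
    show orderOf (mkP F 2 g) ∣ p ∨ _ ∨ _
    set A : Matrix (Fin 2) (Fin 2) F := g.val with hA
    have hdet : A.det = 1 := g.2
    have hCH := cayley A hdet
    set f : F[X] := X ^ 2 - C A.trace * X + 1 with hf
    have hfA : aeval A f = 0 := by
      rw [hf]
      simp only [map_add, map_sub, map_mul, map_pow, aeval_X, aeval_C, map_one]
      rw [Algebra.algebraMap_eq_smul_one, smul_mul_assoc, one_mul, pow_two]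
      exact hCH
    have hfdeg : f.natDegree = 2 := by
      rw [hf]; compute_degree!
    by_cases hirr : Irreducible f
    · right; right
      obtain ⟨c, hc⟩ := pow_gs_eq_one A hdet f hirr hfA
      rw [← hsm]
      exact orderOf_dvd_of_pow_eq_one ((mkP_pow_eq_one_iff g _).2 ⟨c, hc⟩)
    · have hroot : ∃ a, f.IsRoot a := by
        by_contra hno
        apply hirr
        rw [Polynomial.irreducible_iff_roots_eq_zero_of_degree_le_three (by omega) (by omega)]
        rw [Multiset.eq_zero_iff_forall_notMem]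
        intro a ha
        exact hno ⟨a, (Polynomial.mem_roots'.1 ha).2⟩
      obtain ⟨a, ha⟩ := hroot
      have ha' : a ^ 2 - A.trace * a + 1 = 0 := by
        have := ha
        rw [Polynomial.IsRoot.def, hf] at this
        simpa using this
      have ha0 : a ≠ 0 := by
        rintro rfl
        simp at ha'
      have htr : A.trace = a + a⁻¹ := by
        field_simp
        linear_combination -ha'
      have hfac : (A - a • 1) * (A - a⁻¹ • 1) = 0 := by
        have : (A - a • 1) * (A - a⁻¹ • 1) = A * A - A.trace • A + 1 := by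
          simp only [sub_mul, mul_sub, smul_mul_assoc, mul_smul_comm, one_mul, mul_one, smul_sub, smul_smul]
          rw [inv_mul_cancel₀ ha0, htr, add_smul, one_smul]
          abel
        rw [this, hCH]
      by_cases haa : a = a⁻¹
      · left
        rw [← haa] at hfac
        apply orderOf_dvd_of_pow_eq_one
        rw [mkP_pow_eq_one_iff]
        refine ⟨a ^ p, ?_⟩
        have hcomm : Commute (A - a • 1) (a • (1 : Matrix (Fin 2) (Fin 2) F)) := by
          apply Commute.smul_right
          exact Commute.one_right _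
        have h1 : A = (A - a • 1) + a • 1 := by abel
        have h2 : (A - a • 1) ^ p = 0 := by
          have : (A - a • 1) ^ 2 = 0 := by rw [pow_two, hfac]
          exact pow_eq_zero_of_le hp.two_le this
        haveI : CharP (Matrix (Fin 2) (Fin 2) F) p := inferInstance
        show A ^ p = _
        conv_lhs => rw [h1]
        rw [add_pow_char_of_commute _ hcomm, h2, zero_add, _root_.smul_pow, one_pow]
      · right; left
        apply orderOf_dvd_of_pow_eq_one
        rw [mkP_pow_eq_one_iff]
        set m := (q - 1) / Nat.gcd 2 (q - 1) with hm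
        have h2m : a ^ (2 * m) = 1 := by
          obtain ⟨e, he⟩ := dvd_two_mul_div (q - 1)
          rw [← hm] at he
          rw [he, pow_mul, FiniteField.pow_card_sub_one_eq_one a ha0, one_pow]
        have ham : a ^ m = a⁻¹ ^ m := by
          rw [inv_pow]
          apply eq_inv_of_mul_eq_one_left
          rw [← pow_add, ← two_mul, h2m]
        exact ⟨a ^ m, pow_split A a a⁻¹ haa hfac m ham⟩
  · intro m hm
    have key : ∀ M : ℕ, (∃ x : Matrix.ProjectiveSpecialLinearGroup (Fin 2) F, M ∣ orderOf x) → m ∣ M →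
        m ∈ Set.range (orderOf : Matrix.ProjectiveSpecialLinearGroup (Fin 2) F → ℕ) := by
      rintro M ⟨x, hx⟩ hmM
      exact exists_orderOf_of_dvd x m (hmM.trans hx)
    rcases hm with hm | hm | hm
    · refine key p ?_ hm
      let u : Matrix.SpecialLinearGroup (Fin 2) F := ⟨!![1, 1; 0, 1], by rw [Matrix.det_fin_two_of]; ring⟩
      refine ⟨mkP F 2 u, ?_⟩
      have hu : orderOf u = p := by
        rw [← orderOf_coe]
        have h1 : (u : Matrix (Fin 2) (Fin 2) F) = 1 + !![0, 1; 0, 0] := by
          ext i j; fin_cases i <;> fin_cases j <;> simp [u]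
        rw [h1, orderOf_one_add p _ 2 (by
          ext i j; fin_cases i <;> fin_cases j <;> simp [pow_two, Matrix.mul_apply, Fin.sum_univ_two]) (by
          intro h
          have := congrFun (congrFun h 0) 1
          simp at this)]
        have : Nat.clog p 2 = 1 := by
          apply le_antisymm
          · exact Nat.clog_le_of_le_pow (by simpa using hp.two_le)
          · exact Nat.clog_pos hp.one_lt (le_refl 2)
        rw [this, pow_one]
      rw [orderOf_mkP (by norm_num) u (by
        rw [hu]; exact Nat.Coprime.coprime_dvd_right (Nat.gcd_dvd_right _ _) hpc), hu]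
    · refine key _ ?_ hm
      obtain ⟨a, ha⟩ := IsCyclic.exists_generator (α := Fˣ)
      have hoa : orderOf a = q - 1 := by
        rw [orderOf_eq_card_of_forall_mem_zpowers ha, Nat.card_eq_fintype_card, Fintype.card_units]
      let t : Matrix.SpecialLinearGroup (Fin 2) F := ⟨!![(a : F), 0; 0, ((a⁻¹ : Fˣ) : F)], by
        rw [Matrix.det_fin_two_of]; simp⟩
      refine ⟨mkP F 2 t, ?_⟩
      apply dvd_of_dvd_two_mul _ _ (by omega)
      obtain ⟨c, hc⟩ := (mkP_pow_eq_one_iff t _).1 (pow_orderOf_eq_one (mkP F 2 t))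
      set k := orderOf (mkP F 2 t)
      have ht : ∀ k : ℕ, (t : Matrix (Fin 2) (Fin 2) F) ^ k = !![(a : F) ^ k, 0; 0, ((a⁻¹ : Fˣ) : F) ^ k] := by
        intro k
        induction k with
        | zero => ext i j; fin_cases i <;> fin_cases j <;> simp
        | succ k ih =>
          rw [pow_succ, ih]
          ext i j; fin_cases i <;> fin_cases j <;> simp [t, Matrix.mul_apply, Fin.sum_univ_two, pow_succ]
      rw [ht] at hc
      have h00 := congrFun (congrFun hc 0) 0
      have h11 := congrFun (congrFun hc 1) 1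
      simp at h00 h11
      rw [← hoa]
      apply orderOf_dvd_of_pow_eq_one
      apply Units.ext
      push_cast
      have ha0 : (a : F) ≠ 0 := a.ne_zero
      have : (a : F) ^ k = ((a : F) ^ k)⁻¹ := h00.trans h11.symm
      rw [two_mul, pow_add]
      nth_rewrite 2 [this]
      exact mul_inv_cancel₀ (pow_ne_zero _ ha0)
    · refine key _ ?_ hm
      obtain ⟨A, hdet, hA⟩ := exists_singer (F := F) 2 (by norm_num)
      refine ⟨mkP F 2 ⟨A, hdet⟩, ?_⟩
      rw [← hsm]
      obtain ⟨c, hc⟩ := (mkP_pow_eq_one_iff (⟨A, hdet⟩ : Matrix.SpecialLinearGroup (Fin 2) F) _).1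
        (pow_orderOf_eq_one (mkP F 2 ⟨A, hdet⟩))
      exact hA _ c hc

end Cfsg.Agent.S2475
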