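import Cfsg.Statements.S2456
import Cfsg.Agent.Lib.Helper5_PSL2Prod
import Cfsg.Agent.S2475

set_option autoImplicit false

open Cfsg

namespace Cfsg.Agent.S2456

open Cfsg.Agent.Lib.Helper5_PSLSpec Cfsg.Agent.Lib.Helper5_PSL2Prod

theorem result {F : Type*} [Field F] [Fintype F] [CharP F 2] (h4 : 4 ≤ Fintype.card F)
    (x : Matrix.ProjectiveSpecialLinearGroup (Fin 2) F) (hx2 : 2 < orderOf x) (hxq : ¬ orderOf x ∣ Fintype.card F + 1) : ∀ g : Matrix.ProjectiveSpecialLinearGroup (Fin 2) F, g ≠ 1 → ∃ u v : Matrix.ProjectiveSpecialLinearGroup (Fin 2) F, g = (u * x * u⁻¹) * (v * x * v⁻¹) := by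
  intro g hg
  obtain ⟨X, rfl⟩ := QuotientGroup.mk'_surjective _ x
  obtain ⟨G, rfl⟩ := QuotientGroup.mk'_surjective _ g
  change 2 < orderOf (mkP F 2 X) at hx2
  change ¬ orderOf (mkP F 2 X) ∣ _ at hxq
  change mkP F 2 G ≠ 1 at hg
  haveI : Fact (Nat.Prime 2) := ⟨Nat.prime_two⟩
  rcases root_or_irr (X : Matrix (Fin 2) (Fin 2) F) X.2 with ⟨c, hc⟩ | ⟨a, ha0, htr⟩
  · exfalso
    apply hxq
    have h1 : orderOf (mkP F 2 X) ∣ sm (Fintype.card F) 2 :=
      orderOf_dvd_of_pow_eq_one ((mkP_pow_eq_one_iff X _).2 ⟨c, hc⟩)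
    rw [Cfsg.Agent.S2475.sm_two _ (by omega)] at h1
    have hd : Nat.gcd 2 (Fintype.card F - 1) ∣ Fintype.card F + 1 := by
      have h3 : Fintype.card F + 1 = 2 + (Fintype.card F - 1) := by omega
      rw [h3]
      exact Nat.dvd_add (Nat.gcd_dvd_left _ _) (Nat.gcd_dvd_right _ _)
    exact h1.trans (Nat.div_dvd_of_dvd hd)
  · have haa : a ≠ a⁻¹ := by
      intro haa
      have ha2 : a ^ 2 = 1 := by
        rw [pow_two]
        nth_rewrite 2 [haa]
        exact mul_inv_cancel₀ ha0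
      have h1 := pow_char_scalar 2 (X : Matrix (Fin 2) (Fin 2) F) X.2 a ha2 (by rw [htr, ← haa]; ring)
      have h2 : orderOf (mkP F 2 X) ∣ 2 := orderOf_dvd_of_pow_eq_one ((mkP_pow_eq_one_iff X _).2 ⟨_, h1⟩)
      have := Nat.le_of_dvd (by norm_num) h2
      omega
    have hτ : (X : Matrix (Fin 2) (Fin 2) F).trace ^ 2 ≠ 4 := by
      rw [htr]
      intro h
      have h1 : (a - a⁻¹) ^ 2 = 0 := by
        have : a * a⁻¹ = 1 := mul_inv_cancel₀ ha0
        linear_combination h - 4 * this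
      exact haa (sub_eq_zero.1 (pow_eq_zero_iff (by norm_num) |>.1 h1))
    obtain ⟨u, v, huv⟩ := exists_prod X G (ns_of_mkP_ne_one G hg) hτ
      (fun lam _ => by rw [htr]; exact norm_split a ha0 haa lam) a 0 (by
        rw [htr]
        have : a * a⁻¹ = 1 := mul_inv_cancel₀ ha0
        linear_combination -this)
    refine ⟨mkP F 2 u, mkP F 2 v, ?_⟩
    show mkP F 2 G = _
    rw [huv]
    simp only [map_mul, map_inv]

end Cfsg.Agent.S2456
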