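import Cfsg.Statements.S2471
import Cfsg.Agent.S2475

set_option autoImplicit false

open Cfsg

namespace Cfsg.Agent.S2471

theorem result {F : Type*} [Field F] [Fintype F] (p : ℕ) [Fact p.Prime] [CharP F p] (hp : p ≠ 2) (h5 : 5 ≤ Fintype.card F) (g : Matrix.ProjectiveSpecialLinearGroup (Fin 2) F) :
    orderOf g ≠ 2 * p := by
  intro h
  have hpp : p.Prime := Fact.out
  have hmem : orderOf g ∈ Set.range (orderOf : Matrix.ProjectiveSpecialLinearGroup (Fin 2) F → ℕ) := ⟨g, rfl⟩
  rw [Cfsg.Agent.S2475.result p (by omega), h] at hmem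
  have hpq : p ∣ Fintype.card F := by
    obtain ⟨n, hn1, hn⟩ := FiniteField.card F p
    rw [hn]; exact dvd_pow_self _ n.ne_zero
  have hp1 : ¬ p ∣ 1 := fun h1 => hpp.one_lt.ne' (Nat.dvd_one.1 h1)
  rcases hmem with h1 | h1 | h1
  · have := Nat.le_of_dvd hpp.pos h1
    have := hpp.pos
    omega
  · have h2 : p ∣ Fintype.card F - 1 :=
      ((dvd_mul_left p 2).trans h1).trans (Nat.div_dvd_of_dvd (Nat.gcd_dvd_right _ _))
    apply hp1
    have := Nat.dvd_sub hpq h2
    rwa [Nat.sub_sub_self (by omega)] at this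
  · have hd : Nat.gcd 2 (Fintype.card F - 1) ∣ Fintype.card F + 1 := by
      have h3 : Fintype.card F + 1 = 2 + (Fintype.card F - 1) := by omega
      rw [h3]
      exact Nat.dvd_add (Nat.gcd_dvd_left _ _) (Nat.gcd_dvd_right _ _)
    have h2 : p ∣ Fintype.card F + 1 :=
      ((dvd_mul_left p 2).trans h1).trans (Nat.div_dvd_of_dvd hd)
    apply hp1
    exact (Nat.dvd_add_right hpq).1 h2

end Cfsg.Agent.S2471
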