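import Cfsg.Statements.S2477
import Cfsg.Agent.Lib.Helper5_AltSpec

set_option autoImplicit false
open Cfsg

namespace Cfsg.Agent.S2477

open Cfsg.Agent.Lib.Helper5_AltSpec

/-- all lists of length at most `f` with entries at least 2 and sum at most `s`. -/
def comps : ℕ → ℕ → List (List ℕ)
  | 0, _ => [[]]
  | f + 1, s => [] :: ((List.range (s + 1)).filter (fun a => 2 ≤ a)).flatMap (fun a => (comps f (s - a)).map (fun l => a :: l))

theorem mem_comps (f : ℕ) : ∀ (s : ℕ) (l : List ℕ), (∀ a ∈ l, 2 ≤ a) → l.sum ≤ s → l.length ≤ f → l ∈ comps f s := by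
  induction f with
  | zero =>
    intro s l _ _ hlen
    have : l = [] := List.length_eq_zero_iff.1 (Nat.le_zero.1 hlen)
    subst this
    simp [comps]
  | succ f ih =>
    intro s l h2 hsum hlen
    cases l with
    | nil => simp [comps]
    | cons a l =>
      simp only [comps, List.mem_cons, List.mem_flatMap, List.mem_filter, List.mem_range, List.mem_map]
      right
      rw [List.sum_cons] at hsum
      refine ⟨a, ⟨by omega, by simpa using h2 a (by simp)⟩, l, ?_, rfl⟩
      apply ih
      · intro b hb; exact h2 b (by simp [hb])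
      · omega
      · simpa using hlen

def lcmL (l : List ℕ) : ℕ := l.foldr Nat.lcm 1

theorem lcm_coe (l : List ℕ) : (↑l : Multiset ℕ).lcm = lcmL l := by
  induction l with
  | nil => simp [lcmL]
  | cons a l ih =>
    rw [← Multiset.cons_coe, Multiset.lcm_cons, ih]
    rfl

theorem check : ∀ l ∈ comps 5 10, (l.sum + l.length) % 2 = 0 →
    lcmL l ∈ [1, 2, 3, 4, 5, 6, 7, 8, 9, 10, 12, 15, 21] := by
  decide

theorem result : Set.range (orderOf : alternatingGroup (Fin 10) → ℕ) = {1, 2, 3, 4, 5, 6, 7, 8, 9, 10, 12, 15, 21} := by
  ext k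
  rw [mem_spectrum_alt_iff]
  constructor
  · rintro ⟨m, h2, hsum, hlcm, heven⟩
    have hm : (↑m.toList : Multiset ℕ) = m := Multiset.coe_toList m
    have h2' : ∀ a ∈ m.toList, 2 ≤ a := fun a ha => h2 a (Multiset.mem_toList.1 ha)
    have hsum' : m.toList.sum = m.sum := by rw [← Multiset.sum_coe, hm]
    have hlen' : m.toList.length = Multiset.card m := Multiset.length_toList m
    have hlen : m.toList.length ≤ 5 := by
      have h3 : m.toList.length * 2 ≤ m.toList.sum := by
        have := List.card_nsmul_le_sum m.toList 2 h2'
        simpa using this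
      omega
    have h4 := check m.toList (mem_comps 5 10 _ h2' (by omega) hlen) (by rw [hsum', hlen']; exact Nat.even_iff.1 heven)
    rw [← lcm_coe, hm, hlcm] at h4
    simpa using h4
  · intro hk
    simp only [Set.mem_insert_iff, Set.mem_singleton_iff] at hk
    rcases hk with rfl | rfl | rfl | rfl | rfl | rfl | rfl | rfl | rfl | rfl | rfl | rfl | rfl
    · exact ⟨0, by decide, by decide, by decide, by decide⟩
    · exact ⟨{2, 2}, by decide, by decide, by decide, by decide⟩
    · exact ⟨{3}, by decide, by decide, by decide, by decide⟩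
    · exact ⟨{4, 2}, by decide, by decide, by decide, by decide⟩
    · exact ⟨{5}, by decide, by decide, by decide, by decide⟩
    · exact ⟨{3, 2, 2}, by decide, by decide, by decide, by decide⟩
    · exact ⟨{7}, by decide, by decide, by decide, by decide⟩
    · exact ⟨{8, 2}, by decide, by decide, by decide, by decide⟩
    · exact ⟨{9}, by decide, by decide, by decide, by decide⟩
    · exact ⟨{5, 2, 2}, by decide, by decide, by decide, by decide⟩
    · exact ⟨{4, 3, 2}, by decide, by decide, by decide, by decide⟩
    · exact ⟨{5, 3}, by decide, by decide, by decide, by decide⟩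
    · exact ⟨{7, 3}, by decide, by decide, by decide, by decide⟩

end Cfsg.Agent.S2477
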