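import Cfsg.Statements.S2507
import Cfsg.Agent.Lib.Helper5_SL2Cent

set_option autoImplicit false

open Cfsg

namespace Cfsg.Agent.S2507

open Cfsg.Agent.Lib.Helper5_PSLSpec Cfsg.Agent.Lib.Helper5_PSL2Prod Cfsg.Agent.Lib.Helper5_SL2Cent
  Cfsg.Agent.Lib.Helper5_Card

variable {F : Type*} [Field F]

theorem neg_eq_self [CharP F 2] (A : Matrix (Fin 2) (Fin 2) F) : -A = A := by
  ext i j
  simp [CharTwo.neg_eq]

theorem mkP_injective [CharP F 2] : Function.Injective (mkP F 2) := by
  intro g h hgh
  rcases (mkP_eq_iff g h).1 hgh with h1 | h1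
  · exact (Subtype.ext h1).symm
  · rw [neg_eq_self] at h1
    exact (Subtype.ext h1).symm

theorem comap_centralizer [CharP F 2] (g : Matrix.SpecialLinearGroup (Fin 2) F) :
    (Subgroup.centralizer ({mkP F 2 g} : Set (Matrix.ProjectiveSpecialLinearGroup (Fin 2) F))).comap (mkP F 2) =
      Subgroup.centralizer ({g} : Set (Matrix.SpecialLinearGroup (Fin 2) F)) := by
  ext h
  rw [Subgroup.mem_comap, Subgroup.mem_centralizer_singleton_iff, Subgroup.mem_centralizer_singleton_iff,
    ← map_mul, ← map_mul]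
  exact ⟨fun hh => mkP_injective hh, fun hh => by rw [hh]⟩

theorem index_mul [Fintype F] [CharP F 2] (g : Matrix.SpecialLinearGroup (Fin 2) F)
    (hg : NS (g : Matrix (Fin 2) (Fin 2) F)) :
    (Subgroup.centralizer ({mkP F 2 g} : Set (Matrix.ProjectiveSpecialLinearGroup (Fin 2) F))).index *
      Nat.card {z : F × F // nf (g : Matrix (Fin 2) (Fin 2) F).trace z = 1} =
      Fintype.card F * (Fintype.card F ^ 2 - 1) := by
  rw [index_comap, comap_centralizer, ← card_centralizer g hg, Subgroup.index_mul_card, card_SL2]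

theorem card_sq_one [CharP F 2] : Nat.card {s : F // s ^ 2 = 1} = 1 := by
  rw [Nat.card_eq_one_iff_unique]
  refine ⟨⟨?_⟩, ⟨⟨1, by simp⟩⟩⟩
  have key : ∀ s : F, s ^ 2 = 1 → s = 1 := by
    intro s hs
    have h1 : (s - 1) ^ 2 = 0 := by
      have h2 : (2 : F) = 0 := CharTwo.two_eq_zero
      linear_combination hs - s * h2 + h2
    exact sub_eq_zero.1 (pow_eq_zero_iff (by norm_num) |>.1 h1)
  rintro ⟨s, hs⟩ ⟨t, ht⟩
  apply Subtype.ext
  exact (key s hs).trans (key t ht).symm

theorem norm_surj [Fintype F] [CharP F 2] (τ lam : F) : ∃ z : F × F, nf τ z = lam := by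
  obtain ⟨μ, hμ⟩ := FiniteField.isSquare_of_char_two (ringChar.eq F 2) lam
  exact ⟨(μ, 0), by simp [nf, hμ, pow_two]⟩

/-- the three possible indices -/
theorem index_cases [Fintype F] [CharP F 2] (g : Matrix.SpecialLinearGroup (Fin 2) F)
    (hg : NS (g : Matrix (Fin 2) (Fin 2) F)) :
    ((∀ z : F × F, nf (g : Matrix (Fin 2) (Fin 2) F).trace z = 0 → z = 0) →
      (Subgroup.centralizer ({mkP F 2 g} : Set (Matrix.ProjectiveSpecialLinearGroup (Fin 2) F))).index =
        Fintype.card F * (Fintype.card F - 1)) ∧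
    (∀ a : F, a ≠ 0 → (g : Matrix (Fin 2) (Fin 2) F).trace = a + a⁻¹ → a = a⁻¹ →
      (Subgroup.centralizer ({mkP F 2 g} : Set (Matrix.ProjectiveSpecialLinearGroup (Fin 2) F))).index =
        Fintype.card F ^ 2 - 1) ∧
    (∀ a : F, a ≠ 0 → (g : Matrix (Fin 2) (Fin 2) F).trace = a + a⁻¹ → a ≠ a⁻¹ →
      (Subgroup.centralizer ({mkP F 2 g} : Set (Matrix.ProjectiveSpecialLinearGroup (Fin 2) F))).index =
        Fintype.card F * (Fintype.card F + 1)) := by
  have hq2 : 2 ≤ Fintype.card F := Fintype.one_lt_card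
  have hmul := index_mul g hg
  have hsq : Fintype.card F ^ 2 - 1 = (Fintype.card F + 1) * (Fintype.card F - 1) := by
    have := Nat.sq_sub_sq (Fintype.card F) 1
    simpa using this
  refine ⟨fun han => ?_, fun a ha0 htr haa => ?_, fun a ha0 htr haa => ?_⟩
  · rw [card_nf_aniso _ han (fun lam _ => norm_surj _ lam), hsq] at hmul
    apply Nat.eq_of_mul_eq_mul_right (show 0 < Fintype.card F + 1 by omega)
    rw [hmul]; ring
  · have ha2 : a ^ 2 = 1 := by
      rw [pow_two]
      nth_rewrite 2 [haa]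
      exact mul_inv_cancel₀ ha0
    have htr' : (g : Matrix (Fin 2) (Fin 2) F).trace = 2 * a := by rw [htr, ← haa]; ring
    rw [htr', card_nf_double a ha2, card_sq_one, one_mul] at hmul
    apply Nat.eq_of_mul_eq_mul_right (show 0 < Fintype.card F by omega)
    rw [hmul]; ring
  · rw [htr, card_nf_split a ha0 haa, hsq] at hmul
    apply Nat.eq_of_mul_eq_mul_right (show 0 < Fintype.card F - 1 by omega)
    rw [hmul]; ring

theorem result {F : Type*} [Field F] [Fintype F]
    (h2 : 2 ∣ Fintype.card F) (h4 : 4 ≤ Fintype.card F) :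
    Set.range (fun g : (Matrix.ProjectiveSpecialLinearGroup (Fin 2) F) => (Subgroup.centralizer ({g} : Set (Matrix.ProjectiveSpecialLinearGroup (Fin 2) F))).index) =
      {1, Fintype.card F * (Fintype.card F - 1), Fintype.card F ^ 2 - 1, Fintype.card F * (Fintype.card F + 1)} := by
  classical
  have hchar : ringChar F = 2 := FiniteField.even_card_iff_char_two.2 (Nat.mod_eq_zero_of_dvd h2)
  haveI : CharP F 2 := by rw [← hchar]; exact ringChar.charP F
  have h20 : (2 : F) = 0 := CharTwo.two_eq_zero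
  apply Set.eq_of_subset_of_subset
  · rintro _ ⟨x, rfl⟩
    obtain ⟨g, rfl⟩ := QuotientGroup.mk'_surjective _ x
    show (Subgroup.centralizer ({mkP F 2 g} : Set (Matrix.ProjectiveSpecialLinearGroup (Fin 2) F))).index ∈ _
    by_cases hg : NS (g : Matrix (Fin 2) (Fin 2) F)
    · obtain ⟨c1, c2, c3⟩ := index_cases g hg
      rcases aniso_or_root (g : Matrix (Fin 2) (Fin 2) F).trace with han | ⟨a, ha0, htr⟩
      · rw [c1 han]; simp
      · by_cases haa : a = a⁻¹
        · rw [c2 a ha0 htr haa]; simp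
        · rw [c3 a ha0 htr haa]; simp
    · have h1 : mkP F 2 g = 1 := by
        by_contra hne
        exact hg (ns_of_mkP_ne_one g hne)
      rw [h1]
      have : Subgroup.centralizer ({1} : Set (Matrix.ProjectiveSpecialLinearGroup (Fin 2) F)) = ⊤ := by
        rw [eq_top_iff]
        intro y _
        rw [Subgroup.mem_centralizer_singleton_iff]
        simp
      rw [this, Subgroup.index_top]
      simp
  · intro m hm
    simp only [Set.mem_insert_iff, Set.mem_singleton_iff] at hm
    have hcomp : ∀ τ : F, ∃ g : Matrix.SpecialLinearGroup (Fin 2) F, NS (g : Matrix (Fin 2) (Fin 2) F) ∧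
        (g : Matrix (Fin 2) (Fin 2) F).trace = τ := by
      intro τ
      exact ⟨Cfsg.Agent.Lib.Helper5_GL2.compSL τ, Cfsg.Agent.Lib.Helper5_GL2.comp_not_scalar τ 1, by simp⟩
    rcases hm with rfl | rfl | rfl | rfl
    · refine ⟨1, ?_⟩
      have : Subgroup.centralizer ({1} : Set (Matrix.ProjectiveSpecialLinearGroup (Fin 2) F)) = ⊤ := by
        rw [eq_top_iff]
        intro y _
        rw [Subgroup.mem_centralizer_singleton_iff]
        simp
      simp only [this, Subgroup.index_top]
    · obtain ⟨τ, hτ⟩ := exists_not_root (F := F)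
      obtain ⟨g, hg, htr⟩ := hcomp τ
      refine ⟨mkP F 2 g, ?_⟩
      apply (index_cases g hg).1
      rcases aniso_or_root (g : Matrix (Fin 2) (Fin 2) F).trace with han | h
      · exact han
      · rw [htr] at h; exact absurd h hτ
    · obtain ⟨g, hg, htr⟩ := hcomp 0
      refine ⟨mkP F 2 g, ?_⟩
      apply (index_cases g hg).2.1 1 one_ne_zero _ (by simp)
      rw [htr]
      simp
      linear_combination -h20
    · obtain ⟨a, ha⟩ := IsCyclic.exists_generator (α := Fˣ)
      have hoa : orderOf a = Fintype.card F - 1 := by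
        rw [orderOf_eq_card_of_forall_mem_zpowers ha, Nat.card_eq_fintype_card, Fintype.card_units]
      obtain ⟨g, hg, htr⟩ := hcomp ((a : F) + (a : F)⁻¹)
      refine ⟨mkP F 2 g, ?_⟩
      apply (index_cases g hg).2.2 (a : F) a.ne_zero htr
      intro haa
      have h1 : a ^ 2 = 1 := by
        apply Units.ext
        push_cast
        rw [pow_two]
        nth_rewrite 2 [haa]
        exact mul_inv_cancel₀ a.ne_zero
      have h3 := orderOf_le_of_pow_eq_one (by norm_num) h1
      omega

end Cfsg.Agent.S2507
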