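import Cfsg.Statements.S2503
import Cfsg.Agent.Lib.Helper5_SL2Tori
import Cfsg.Agent.S2507

set_option autoImplicit false

open Cfsg

namespace Cfsg.Agent.S2503

open Matrix Cfsg.Agent.Lib.Helper5_PSLSpec Cfsg.Agent.Lib.Helper5_PSL2Prod Cfsg.Agent.Lib.Helper5_SL2Cent
  Cfsg.Agent.Lib.Helper5_Card Cfsg.Agent.Lib.Helper5_SL2Tori Cfsg.Agent.Lib.Helper5_GL2

variable {F : Type*} [Field F]

theorem normalize [Fintype F] [CharP F 2] (τ : F) (han : ∀ z : F × F, nf τ z = 0 → z = 0) (z : F × F) (hz : z ≠ 0) :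
    ∃ μ : F, μ ≠ 0 ∧ nf τ (μ⁻¹ • z) = 1 := by
  obtain ⟨μ, hμ⟩ := FiniteField.isSquare_of_char_two (ringChar.eq F 2) (nf τ z)
  have hne : nf τ z ≠ 0 := fun h => hz (han z h)
  have hμ0 : μ ≠ 0 := by
    rintro rfl
    apply hne
    rw [hμ, mul_zero]
  refine ⟨μ, hμ0, ?_⟩
  rw [nf_smul, hμ]
  field_simp

theorem factor [Fintype F] [CharP F 2] (τ : F) (han : ∀ z : F × F, nf τ z = 0 → z = 0)
    (g : Matrix.SpecialLinearGroup (Fin 2) F) :
    ∃ a ∈ Subgroup.centralizer ({compSL τ} : Set (Matrix.SpecialLinearGroup (Fin 2) F)),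
    ∃ b ∈ (uHom : Multiplicative F →* Matrix.SpecialLinearGroup (Fin 2) F).range,
    ∃ c ∈ Subgroup.centralizer ({compSL τ} : Set (Matrix.SpecialLinearGroup (Fin 2) F)), g = a * b * c := by
  have h20 : (2 : F) = 0 := CharTwo.two_eq_zero
  have htr0 : ((compSL τ : Matrix.SpecialLinearGroup (Fin 2) F) : Matrix (Fin 2) (Fin 2) F).trace = τ := by simp
  set t1 := (g : Matrix (Fin 2) (Fin 2) F).trace with ht1
  set t2 := ((g : Matrix (Fin 2) (Fin 2) F) * (compSL τ : Matrix.SpecialLinearGroup (Fin 2) F)).trace with ht2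
  obtain ⟨z1, hz1, hz1'⟩ : ∃ z : F × F, z ≠ 0 ∧ z.1 * t1 + z.2 * t2 = 0 := by
    by_cases h : t1 = 0 ∧ t2 = 0
    · exact ⟨(1, 0), by simp, by simp [h.1]⟩
    · refine ⟨(t2, -t1), ?_, by simp; ring⟩
      intro h0
      apply h
      have e1 := congrArg Prod.fst h0
      have e2 := congrArg Prod.snd h0
      simp at e1 e2
      exact ⟨e2, e1⟩
  obtain ⟨μ1, hμ1, hn1⟩ := normalize τ han z1 hz1
  set c' := lin (compSL τ) (μ1⁻¹ • z1) (by rw [htr0]; exact hn1) with hc'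
  have hc'mem : c' ∈ Subgroup.centralizer ({compSL τ} : Set (Matrix.SpecialLinearGroup (Fin 2) F)) := lin_mem _ _ _
  set h := g * c' with hh
  have htrh : (h : Matrix (Fin 2) (Fin 2) F).trace = 2 := by
    rw [hh, Matrix.SpecialLinearGroup.coe_mul, hc', lin_val, mul_add, mul_smul_comm, mul_smul_comm, mul_one,
      Matrix.trace_add, Matrix.trace_smul, Matrix.trace_smul, ← ht1, ← ht2, h20]
    simp only [Prod.smul_fst, Prod.smul_snd, smul_eq_mul]
    linear_combination μ1⁻¹ * hz1'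
  obtain ⟨v, hv0, hv⟩ := exists_fixed h htrh
  have hz2 : ((v 0, v 1) : F × F) ≠ 0 := by
    intro h0
    apply hv0
    ext i
    fin_cases i
    · exact congrArg Prod.fst h0
    · exact congrArg Prod.snd h0
  obtain ⟨μ2, hμ2, hn2⟩ := normalize τ han _ hz2
  set a' := lin (compSL τ) (μ2⁻¹ • ((v 0, v 1) : F × F)) (by rw [htr0]; exact hn2) with ha'
  have ha'mem : a' ∈ Subgroup.centralizer ({compSL τ} : Set (Matrix.SpecialLinearGroup (Fin 2) F)) := lin_mem _ _ _
  have ha'e : (a' : Matrix (Fin 2) (Fin 2) F) *ᵥ ![1, 0] = μ2⁻¹ • v := by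
    rw [ha', lin_mulVec]
    ext i
    fin_cases i <;> simp
  have hk : ((a'⁻¹ * h * a' : Matrix.SpecialLinearGroup (Fin 2) F) : Matrix (Fin 2) (Fin 2) F) *ᵥ ![1, 0] = ![1, 0] := by
    rw [Matrix.SpecialLinearGroup.coe_mul, Matrix.SpecialLinearGroup.coe_mul, ← Matrix.mulVec_mulVec,
      ← Matrix.mulVec_mulVec, ha'e, Matrix.mulVec_smul, hv, ← ha'e, Matrix.mulVec_mulVec,
      ← Matrix.SpecialLinearGroup.coe_mul, inv_mul_cancel, Matrix.SpecialLinearGroup.coe_one, Matrix.one_mulVec]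
  refine ⟨a', ha'mem, a'⁻¹ * h * a', mem_range_uHom _ hk, a'⁻¹ * c'⁻¹,
    Subgroup.mul_mem _ (Subgroup.inv_mem _ ha'mem) (Subgroup.inv_mem _ hc'mem), ?_⟩
  rw [hh]
  group

theorem result {F : Type*} [Field F] [Fintype F]
    (h2 : 2 ∣ Fintype.card F) (h4 : 4 ≤ Fintype.card F) :
    ∃ A B : Subgroup (Matrix.ProjectiveSpecialLinearGroup (Fin 2) F),
      IsCyclic A ∧ Nat.card A = Fintype.card F + 1 ∧ IsMulCommutative B ∧ (∀ b ∈ B, b * b = 1) ∧
        Nat.card B = Fintype.card F ∧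
        ∀ g : Matrix.ProjectiveSpecialLinearGroup (Fin 2) F, ∃ a ∈ A, ∃ b ∈ B, ∃ c ∈ A, g = a * b * c := by
  classical
  have hchar : ringChar F = 2 := FiniteField.even_card_iff_char_two.2 (Nat.mod_eq_zero_of_dvd h2)
  haveI : CharP F 2 := by rw [← hchar]; exact ringChar.charP F
  have h20 : (2 : F) = 0 := CharTwo.two_eq_zero
  obtain ⟨τ, hτ⟩ := exists_not_root (F := F)
  have han : ∀ z : F × F, nf τ z = 0 → z = 0 := (aniso_or_root τ).resolve_right hτ
  have htr0 : ((compSL τ : Matrix.SpecialLinearGroup (Fin 2) F) : Matrix (Fin 2) (Fin 2) F).trace = τ := by simp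
  have hinj := Cfsg.Agent.S2507.mkP_injective (F := F)
  set A0 := Subgroup.centralizer ({compSL τ} : Set (Matrix.SpecialLinearGroup (Fin 2) F)) with hA0
  set B0 := (uHom : Multiplicative F →* Matrix.SpecialLinearGroup (Fin 2) F).range with hB0
  refine ⟨A0.map (mkP F 2), B0.map (mkP F 2), ?_, ?_, ?_, ?_, ?_, ?_⟩
  · haveI : IsCyclic A0 := isCyclic_centralizer_aniso τ han
    exact isCyclic_of_surjective ((mkP F 2).subgroupMap A0) ((mkP F 2).subgroupMap_surjective A0)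
  · rw [Subgroup.card_map_of_injective hinj, hA0, card_centralizer (compSL τ) (comp_not_scalar τ 1), htr0,
      card_nf_aniso τ han (fun lam _ => Cfsg.Agent.S2507.norm_surj τ lam)]
  · haveI : IsMulCommutative B0 := inferInstance
    exact Subgroup.map_isMulCommutative _ _
  · rintro _ ⟨_, ⟨t, rfl⟩, rfl⟩
    rw [← map_mul, ← map_mul]
    have : t * t = 1 := by
      apply Multiplicative.toAdd.injective
      rw [toAdd_mul, toAdd_one, ← two_mul, h20, zero_mul]
    rw [this, map_one, map_one]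
  · rw [Subgroup.card_map_of_injective hinj, hB0, Nat.card_congr (MonoidHom.ofInjective uHom_injective).symm.toEquiv,
      Nat.card_eq_fintype_card]
    exact Fintype.card_congr Multiplicative.toAdd
  · intro x
    obtain ⟨g, rfl⟩ := QuotientGroup.mk'_surjective _ x
    obtain ⟨a, ha, b, hb, c, hc, habc⟩ := factor τ han g
    refine ⟨mkP F 2 a, Subgroup.mem_map_of_mem _ ha, mkP F 2 b, Subgroup.mem_map_of_mem _ hb, mkP F 2 c,
      Subgroup.mem_map_of_mem _ hc, ?_⟩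
    show mkP F 2 g = _
    rw [habc, map_mul, map_mul]

end Cfsg.Agent.S2503
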