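import Cfsg.Statements.S2802
import Cfsg.Agent.Lib.Helper4_PRed2

set_option autoImplicit false
open Cfsg

namespace Cfsg.Agent.S2802

open Cfsg.Agent.Lib.Helper4_PRed Cfsg.Agent.Lib.Helper4_PRed2 Cfsg.Agent.Lib.Helper4_Syl
  Cfsg.Agent.Lib.Helper4_Cop Cfsg.Agent.Lib.Helper4_Core

theorem pCoreOf_top {G : Type*} [Group G] (p : ℕ) : pCoreOf p (⊤ : Subgroup G) = pCore p G := by
  apply le_antisymm
  · apply le_pCore _ (pCoreOf_isPGroup p ⊤)
    rw [← Subgroup.normalizer_eq_top_iff, eq_top_iff]
    exact le_normalizer_pCoreOf p ⊤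
  · apply le_pCoreOf le_top (pCore_isPGroup p G)
    have hn : (pCore p G).Normal := Subgroup.sSup_normal _ (fun _ h => h.1)
    rw [Subgroup.normalizer_eq_top_iff.2 hn]

theorem char_top {G : Type*} [Group G] {p : ℕ}
    (hchar : Subgroup.centralizer (Cfsg.pCore p G : Set G) ≤ Cfsg.pCore p G) :
    (⊤ : Subgroup G) ⊓ Subgroup.centralizer ((pCoreOf p (⊤ : Subgroup G) : Subgroup G) : Set G) ≤
      pCoreOf p (⊤ : Subgroup G) := by
  rw [pCoreOf_top]
  exact inf_le_right.trans hchar

/-- Let L be a finite group and p a prime with C_L(O_p(L)) ≤ O_p(L), T a Sylow p-subgroup of L and R a subgroup with T ≤ R. If X is a p-reduced normal subgroup of R (normal in R, elementary abelian, O_p(R/C_R(X)) = 1), then the normal closure of X in L is a p-reduced normal subgroup of L. -/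
theorem result {L : Type*} [Group L] [Finite L] {p : ℕ} [Fact p.Prime] (hchar : Subgroup.centralizer (Cfsg.pCore p L : Set L) ≤ Cfsg.pCore p L) (T : Sylow p L) (R : Subgroup L) (hTR : (T : Subgroup L) ≤ R) (X : Subgroup ↥R) (hX : Cfsg.IsPReducedNormal p X) : Cfsg.IsPReducedNormal p (Subgroup.normalClosure ((X.map R.subtype : Subgroup L) : Set L)) := by
  rw [prn_iff_top]
  apply prn_closure (char_top hchar) (IsSylIn.of_sylow_top T) hTR le_top ((prn_iff_sub X).1 hX)
    Subgroup.subset_normalClosure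
  · rw [Subgroup.normalizer_eq_top_iff.2 Subgroup.normalClosure_normal]
  · intro W hXW hW
    have : W.Normal := Subgroup.normalizer_eq_top_iff.1 (top_le_iff.1 hW)
    exact Subgroup.normalClosure_le_normal hXW

end Cfsg.Agent.S2802
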