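import Cfsg.Statements.S2809
import Cfsg.Agent.Lib.Helper4_Chain

set_option autoImplicit false
open Cfsg

namespace Cfsg.Agent.S2809

open scoped commutatorElement
open Cfsg.Agent.Lib.Helper4_Cop Cfsg.Agent.Lib.Helper4_Chain

theorem comm_mem_of_normalizer {H : Type*} [Group H] {R : Subgroup H} {x y : H} (hx : x ∈ R)
    (hy : y ∈ Subgroup.normalizer (R : Set H)) : ⁅y, x⁆ ∈ R := by
  rw [commutatorElement_def]
  have := (Subgroup.mem_normalizer_iff.1 hy x).1 hx
  exact R.mul_mem this (R.inv_mem hx)

theorem iter_le {H : Type*} [Group H] (R L : Subgroup H)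
    (hL : L ≤ Subgroup.normalizer (R : Set H)) : ∀ j, Cfsg.iterCommutator R L j ≤ R := by
  intro j
  induction j with
  | zero => exact le_rfl
  | succ j ih =>
    show ⁅Cfsg.iterCommutator R L j, L⁆ ≤ R
    rw [Subgroup.commutator_le]
    intro a ha b hb
    have := comm_mem_of_normalizer (ih ha) (hL hb)
    rw [← commutatorElement_inv]
    exact R.inv_mem this

/-- Let H be a finite group, p a prime, R a p-subgroup of H with C_H(R) ≤ R, and L a subgroup of N_H(R) acting nilpotently on R (some iterated commutator [R, L, …, L] is trivial). Then L is a p-group. -/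
theorem result {H : Type*} [Group H] [Finite H] {p : ℕ} [Fact p.Prime] (R : Subgroup H) (hR : IsPGroup p ↥R) (hC : Subgroup.centralizer (R : Set H) ≤ R) (L : Subgroup H) (hL : L ≤ Subgroup.normalizer (R : Set H)) (hnil : ∃ n : ℕ, Cfsg.iterCommutator R L n = ⊥) : IsPGroup p ↥L := by
  obtain ⟨n, hn⟩ := hnil
  apply isPGroup_of_pprime_trivial
  intro y hy hcop
  have key := centralizes_of_chain hR hcop (fun i => Cfsg.iterCommutator R L (n - i)) n
    (by simpa using hn) (fun i _ => iter_le R L hL _) (by
      intro i hi x hx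
      have e : n - i = (n - (i + 1)) + 1 := by omega
      show ⁅y, x⁆ ∈ Cfsg.iterCommutator R L (n - i)
      rw [e]
      show ⁅y, x⁆ ∈ ⁅Cfsg.iterCommutator R L (n - (i + 1)), L⁆
      rw [← commutatorElement_inv]
      exact Subgroup.inv_mem _ (Subgroup.commutator_mem_commutator hx hy)) n le_rfl
  have hyC : y ∈ Subgroup.centralizer (R : Set H) := by
    apply mem_centralizer_of_comm
    intro x hx
    apply key
    simpa [Cfsg.iterCommutator] using hx
  exact eq_one_of_isPGroup_of_coprime hR (hC hyC) hcop

end Cfsg.Agent.S2809
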