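import Cfsg.Statements.S2810
import Cfsg.Agent.Lib.Helper4_Chain

set_option autoImplicit false
open Cfsg

namespace Cfsg.Agent.S2810

open scoped commutatorElement
open Cfsg.Agent.Lib.Helper4_Cop Cfsg.Agent.Lib.Helper4_Chain Cfsg.Agent.Lib.Helper4_Core

/-- The stabilizer of a normal chain. -/
def stab {H : Type*} [Group H] (n : ℕ) (A : Fin (n + 1) → Subgroup H)
    (hnorm : ∀ i, (A i).Normal) : Subgroup H where
  carrier := {h | ∀ i : Fin n, ∀ a ∈ A i.succ, ⁅h, a⁆ ∈ A i.castSucc}
  one_mem' := by
    intro i a _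
    simp
  mul_mem' := by
    intro h k hh hk i a ha
    have e : ⁅h * k, a⁆ = h * ⁅k, a⁆ * h⁻¹ * ⁅h, a⁆ := by
      simp only [commutatorElement_def]; group
    rw [e]
    exact (A i.castSucc).mul_mem ((hnorm _).conj_mem _ (hk i a ha) h) (hh i a ha)
  inv_mem' := by
    intro h hh i a ha
    have e : ⁅h⁻¹, a⁆ = h⁻¹ * (⁅h, a⁆)⁻¹ * h⁻¹⁻¹ := by
      simp only [commutatorElement_def]; group
    rw [e]
    exact (hnorm _).conj_mem _ ((A i.castSucc).inv_mem (hh i a ha)) _

theorem stab_normal {H : Type*} [Group H] (n : ℕ) (A : Fin (n + 1) → Subgroup H)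
    (hnorm : ∀ i, (A i).Normal) : (stab n A hnorm).Normal := by
  constructor
  intro h hh g i a ha
  have e : ⁅g * h * g⁻¹, a⁆ = g * ⁅h, g⁻¹ * a * g⁻¹⁻¹⁆ * g⁻¹ := by
    simp only [commutatorElement_def]; group
  rw [e]
  exact (hnorm _).conj_mem _ (hh i _ ((hnorm _).conj_mem _ ha _)) _

/-- Let H be a finite group of characteristic p and L a subgroup of H centralizing every factor of some H-invariant chain 1 = A₀ ≤ A₁ ≤ … ≤ Aₙ = O_p(H) of normal subgroups (that is, [A_{i+1}, L] ≤ Aᵢ for each i). Then L ≤ O_p(H). -/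
theorem result {H : Type*} [Group H] [Finite H] {p : ℕ} [Fact p.Prime] (hchar : Subgroup.centralizer (Cfsg.pCore p H : Set H) ≤ Cfsg.pCore p H) (L : Subgroup H) (n : ℕ) (A : Fin (n + 1) → Subgroup H) (h0 : A 0 = ⊥) (hn : A (Fin.last n) = Cfsg.pCore p H) (hmono : Monotone A) (hnorm : ∀ i, (A i).Normal) (hcent : ∀ i : Fin n, ⁅A i.succ, L⁆ ≤ A i.castSucc) : L ≤ Cfsg.pCore p H := by
  have hR : IsPGroup p (Cfsg.pCore p H) := pCore_isPGroup p H
  have hLS : L ≤ stab n A hnorm := by
    intro l hl i a ha
    rw [← commutatorElement_inv]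
    exact Subgroup.inv_mem _ (hcent i (Subgroup.commutator_mem_commutator ha hl))
  have hSp : IsPGroup p (stab n A hnorm) := by
    apply isPGroup_of_pprime_trivial
    intro y hy hcop
    have key := centralizes_of_chain hR hcop
      (fun i => if h : i < n + 1 then A ⟨i, h⟩ else ⊥) n
      (by simpa using h0)
      (by
        intro i hi
        have : i < n + 1 := by omega
        simp only [this, dif_pos]
        rw [← hn]
        exact hmono (Fin.le_last _))
      (by
        intro i hi x hx
        have h1 : i < n + 1 := by omega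
        have h2 : i + 1 < n + 1 := by omega
        simp only [h1, h2, dif_pos] at hx ⊢
        exact hy ⟨i, hi⟩ x hx) n le_rfl
    have hyC : y ∈ Subgroup.centralizer (Cfsg.pCore p H : Set H) := by
      apply mem_centralizer_of_comm
      intro x hx
      apply key
      have : n < n + 1 := by omega
      simp only [this, dif_pos]
      rw [← hn] at hx
      exact hx
    exact eq_one_of_isPGroup_of_coprime hR (hchar hyC) hcop
  exact hLS.trans (le_pCore (stab_normal n A hnorm) hSp)

end Cfsg.Agent.S2810
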