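import Cfsg.Statements.S2813
import Cfsg.Agent.Lib.Helper4_Chain
import Cfsg.Agent.Lib.Helper1_Comm

set_option autoImplicit false
open Cfsg

namespace Cfsg.Agent.S2813

open scoped commutatorElement
open Cfsg.Agent.Lib.Helper4_Cop Cfsg.Agent.Lib.Helper4_Chain Cfsg.Agent.Lib.Helper4_Core

/-- An abelian subgroup generated by `p`-elements is a `p`-group. -/
theorem isPGroup_closure_of_comm {H : Type*} [Group H] {p : ℕ} (S : Set H)
    (hc : ∀ a ∈ Subgroup.closure S, ∀ b ∈ Subgroup.closure S, a * b = b * a)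
    (hS : ∀ s ∈ S, ∃ k : ℕ, s ^ p ^ k = 1) : IsPGroup p (Subgroup.closure S) := by
  have key : ∀ x ∈ Subgroup.closure S, ∃ k : ℕ, x ^ p ^ k = 1 := by
    intro x hx
    induction hx using Subgroup.closure_induction with
    | mem x hx => exact hS x hx
    | one => exact ⟨0, by simp⟩
    | mul x y hx hy ihx ihy =>
      obtain ⟨a, ha⟩ := ihx
      obtain ⟨b, hb⟩ := ihy
      refine ⟨a + b, ?_⟩
      have hcomm : Commute x y := hc x hx y hy
      rw [hcomm.mul_pow, pow_add, pow_mul, ha, one_pow, one_mul, mul_comm, pow_mul, hb, one_pow]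
    | inv x hx ih =>
      obtain ⟨a, ha⟩ := ih
      exact ⟨a, by rw [inv_pow, ha, inv_one]⟩
  rintro ⟨x, hx⟩
  obtain ⟨k, hk⟩ := key x hx
  exact ⟨k, Subtype.ext hk⟩

/-- Let K be a subgroup of the finite group H with O_p(K) = 1 and Y a p-subgroup of N_H(K) with [K, Y, Y] = 1. Then [K, Y] = 1. -/
theorem result {H : Type*} [Group H] [Finite H] {p : ℕ} [Fact p.Prime] (K : Subgroup H) (hO : Cfsg.pCore p ↥K = ⊥) (Y : Subgroup H) (hY : IsPGroup p ↥Y) (hYK : Y ≤ Subgroup.normalizer (K : Set H)) (hq : ⁅⁅K, Y⁆, Y⁆ = ⊥) : ⁅K, Y⁆ = ⊥ := by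
  have hNK : ⁅K, Y⁆ ≤ K := Cfsg.Agent.Lib.Helper1_Comm.commutator_le_left hYK
  have hKN : K ≤ Subgroup.normalizer ((⁅K, Y⁆ : Subgroup H) : Set H) :=
    Cfsg.Agent.Lib.Helper1_Comm.le_normalizer_commutator_left K Y
  have hcen : ∀ n ∈ ⁅K, Y⁆, ∀ y ∈ Y, y * n = n * y := by
    intro n hn y hy
    have := Subgroup.commutator_eq_bot_iff_le_centralizer.1 hq hn
    exact Subgroup.mem_centralizer_iff.1 this y hy
  -- generators centralize N
  have hgen : ∀ k ∈ K, ∀ y ∈ Y, ∀ n ∈ ⁅K, Y⁆, n * ⁅k, y⁆ = ⁅k, y⁆ * n := by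
    intro k hk y hy n hn
    have h1 : k⁻¹ * n * k⁻¹⁻¹ ∈ ⁅K, Y⁆ :=
      (Subgroup.mem_normalizer_iff.1 (hKN (K.inv_mem hk)) n).1 hn
    have h2 := hcen _ h1 y hy
    have h3 := hcen n hn y⁻¹ (Y.inv_mem hy)
    have h4 : (k * y * k⁻¹) * n = n * (k * y * k⁻¹) := by
      calc (k * y * k⁻¹) * n = k * (y * (k⁻¹ * n * k⁻¹⁻¹)) * k⁻¹ := by group
        _ = k * ((k⁻¹ * n * k⁻¹⁻¹) * y) * k⁻¹ := by rw [h2]
        _ = n * (k * y * k⁻¹) := by group
    rw [commutatorElement_def]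
    calc n * (k * y * k⁻¹ * y⁻¹) = (n * (k * y * k⁻¹)) * y⁻¹ := by group
      _ = (k * y * k⁻¹) * n * y⁻¹ := by rw [h4]
      _ = (k * y * k⁻¹) * (n * y⁻¹) := by group
      _ = (k * y * k⁻¹) * (y⁻¹ * n) := by rw [h3]
      _ = k * y * k⁻¹ * y⁻¹ * n := by group
  have hab : ⁅K, Y⁆ ≤ Subgroup.centralizer ((⁅K, Y⁆ : Subgroup H) : Set H) := by
    rw [Subgroup.commutator_le]
    intro k hk y hy
    rw [Subgroup.mem_centralizer_iff]
    intro n hn
    exact hgen k hk y hy n hn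
  have hp : IsPGroup p (⁅K, Y⁆ : Subgroup H) := by
    rw [Subgroup.commutator_def]
    apply isPGroup_closure_of_comm
    · rw [← Subgroup.commutator_def]
      intro a ha b hb
      exact (Subgroup.mem_centralizer_iff.1 (hab hb) a ha)
    · rintro _ ⟨k, hk, y, hy, rfl⟩
      obtain ⟨a, ha⟩ := pow_eq_one_of_isPGroup hY hy
      refine ⟨a, ?_⟩
      have hcy : Commute ⁅k, y⁆ y :=
        (hcen _ (Subgroup.commutator_mem_commutator hk hy) y hy).symm
      have e1 : k * y * k⁻¹ = ⁅k, y⁆ * y := by rw [commutatorElement_def]; group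
      have e2 : (k * y * k⁻¹) ^ p ^ a = 1 := by rw [conj_pow, ha]; group
      rw [e1, hcy.mul_pow, ha, mul_one] at e2
      exact e2
  have h1 := le_pCoreOf hNK hp hKN
  have h2 : pCoreOf p K = ⊥ := by
    show Subgroup.map K.subtype (Cfsg.pCore p K) = ⊥
    rw [hO, Subgroup.map_bot]
  rw [h2] at h1
  exact le_bot_iff.1 h1

end Cfsg.Agent.S2813
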