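import Cfsg.Statements.S2814
import Cfsg.Agent.Lib.Helper4_Subn
import Cfsg.Agent.Lib.Helper7_Subnormal
import Cfsg.Agent.Lib.Helper1_Comm

set_option autoImplicit false
open Cfsg

namespace Cfsg.Agent.S2814

open scoped Pointwise commutatorElement
open Cfsg.Agent.Lib.Helper4_Syl Cfsg.Agent.Lib.Helper4_Control Cfsg.Agent.Lib.Helper4_Cop
  Cfsg.Agent.Lib.Helper4_WC Cfsg.Agent.Lib.Helper4_WC2 Cfsg.Agent.Lib.Helper4_PIrr
  Cfsg.Agent.Lib.Helper4_PIrr2 Cfsg.Agent.Lib.Helper4_Core Cfsg.Agent.Lib.Helper4_Subn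
  Cfsg.Agent.Lib.Helper9_PResidual

theorem le_normalizer_map_subtype {G : Type*} [Group G] (K : Subgroup G) (M : Subgroup K)
    (hM : M.Normal) : K ≤ Subgroup.normalizer ((M.map K.subtype : Subgroup G) : Set G) := by
  apply le_normalizer_of_conj_mem
  rintro k hk _ ⟨m, hm, rfl⟩
  exact ⟨⟨k, hk⟩ * m * ⟨k, hk⟩⁻¹, hM.conj_mem m hm _, rfl⟩

/-- Let A be a subgroup of the finite group H and K the subnormal closure of A (intersection of the subnormal subgroups containing A). Then K is the normal closure of A inside K and N_H(A) ≤ N_H(K); K = A·O^p(K), O^p(K) being generated by the elements of K of order prime to p; and if A is a p-group, O^p(K) = [O^p(K), A]. -/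
theorem result {H : Type*} [Group H] [Finite H] {p : ℕ} [Fact p.Prime] (A : Subgroup H) (K : Subgroup H) (hK : K = Cfsg.subnormalClosure A) : (Subgroup.normalClosure ((A.subgroupOf K : Subgroup ↥K) : Set ↥K)).map K.subtype = K ∧ Subgroup.normalizer (A : Set H) ≤ Subgroup.normalizer (K : Set H) ∧ A ⊔ (Cfsg.pResidual p ↥K).map K.subtype = K ∧ (IsPGroup p ↥A → ⁅(Cfsg.pResidual p ↥K).map K.subtype, A⁆ = (Cfsg.pResidual p ↥K).map K.subtype) := by
  have hKs : K.IsSubnormal := by rw [hK]; exact subnormalClosure_isSubnormal A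
  have hAK : A ≤ K := by rw [hK]; exact le_subnormalClosure A
  have hmin : ∀ X : Subgroup H, A ≤ X → X.IsSubnormal → K ≤ X := by
    intro X hAX hX
    rw [hK]; exact subnormalClosure_le hAX hX
  have hAm : (A.subgroupOf K).map K.subtype = A := Subgroup.map_subgroupOf_eq_of_le hAK
  have h3 : A ⊔ (Cfsg.pResidual p ↥K).map K.subtype = K := by
    apply le_antisymm (sup_le hAK (Subgroup.map_subtype_le _))
    apply hmin _ le_sup_left
    have hn : (Cfsg.pResidual p ↥K).Normal := pResidual_normal p K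
    have hp : IsPGroup p (↥K ⧸ Cfsg.pResidual p ↥K) := isPGroup_quotient_pResidual p K
    have : Group.IsNilpotent (↥K ⧸ Cfsg.pResidual p ↥K) := hp.isNilpotent
    have h1 := Cfsg.Agent.Lib.Helper7_Subnormal.isSubnormal_of_isNilpotent
      ((A.subgroupOf K ⊔ Cfsg.pResidual p ↥K).map (QuotientGroup.mk' (Cfsg.pResidual p ↥K)))
    have h2 := h1.comap (QuotientGroup.mk' (Cfsg.pResidual p ↥K))
    rw [Subgroup.comap_map_eq_self (by rw [QuotientGroup.ker_mk']; exact le_sup_right)] at h2
    have h4 := h2.trans' hKs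
    rwa [Subgroup.map_sup, hAm] at h4
  refine ⟨?_, ?_, h3, ?_⟩
  · apply le_antisymm (Subgroup.map_subtype_le _)
    apply hmin
    · conv_lhs => rw [← hAm]
      exact Subgroup.map_mono Subgroup.subset_normalClosure
    · exact (Subgroup.normalClosure_normal.isSubnormal).trans' hKs
  · intro g hg
    rw [mem_normalizer_iff_lc] at hg ⊢
    have h1 : K ≤ lc g K := by
      apply hmin
      · calc A = lc g A := hg.symm
          _ ≤ lc g K := lc_mono g hAK
      · exact hKs.smul _
    exact (Subgroup.eq_of_le_of_card_ge h1 (by rw [card_lc])).symm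
  · intro hAp
    set R := (Cfsg.pResidual p ↥K).map K.subtype with hR
    have hKR : K ≤ Subgroup.normalizer (R : Set H) :=
      le_normalizer_map_subtype K _ (pResidual_normal p K)
    have hAR : A ≤ Subgroup.normalizer (R : Set H) := hAK.trans hKR
    have hR₀R : ⁅R, A⁆ ≤ R := Cfsg.Agent.Lib.Helper1_Comm.commutator_le_left hAR
    apply le_antisymm hR₀R
    have hAR₀ : A ≤ Subgroup.normalizer ((⁅R, A⁆ : Subgroup H) : Set H) :=
      le_normalizer_commutator' hAR Subgroup.le_normalizer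
    have hKX : K ≤ Subgroup.normalizer ((⁅R, A⁆ ⊔ A : Subgroup H) : Set H) := by
      rw [← h3]
      exact sup_le (le_normalizer_sup' hAR₀ Subgroup.le_normalizer) (le_normalizer_commutator_sup R A)
    have hXK : ⁅R, A⁆ ⊔ A ≤ K := sup_le (hR₀R.trans (Subgroup.map_subtype_le _)) hAK
    have hX : (⁅R, A⁆ ⊔ A : Subgroup H).IsSubnormal :=
      Subgroup.IsSubnormal.step _ K hXK hKs (Subgroup.normal_subgroupOf_of_le_normalizer hKX)
    have h5 : K ≤ ⁅R, A⁆ ⊔ A := hmin _ le_sup_right hX
    conv_lhs => rw [hR, pResidualOf_eq]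
    rw [Subgroup.closure_le]
    rintro g ⟨hg, hc⟩
    exact mem_of_coprime_of_mem_sup hAp hAR₀ (h5 hg) hc

end Cfsg.Agent.S2814
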