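import Cfsg.Statements.S2818
import Cfsg.Agent.S0013

set_option autoImplicit false
open Cfsg

namespace Cfsg.Agent.S2818

open scoped commutatorElement

theorem omega_mem {G : Type*} [Group G] {p : ℕ} (P : Subgroup G) {z : G}
    (hz : z ∈ Cfsg.omegaOne p (P ⊓ Subgroup.centralizer (P : Set G))) :
    (z ∈ P ∧ ∀ x ∈ P, x * z = z * x) ∧ z ^ p = 1 := by
  unfold Cfsg.omegaOne at hz
  induction hz using Subgroup.closure_induction with
  | mem x hx =>
    exact ⟨⟨hx.1.1, fun y hy => Subgroup.mem_centralizer_iff.1 hx.1.2 y hy⟩, hx.2⟩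
  | one => exact ⟨⟨P.one_mem, fun x _ => by simp⟩, by simp⟩
  | mul x y _ _ ihx ihy =>
    refine ⟨⟨P.mul_mem ihx.1.1 ihy.1.1, fun w hw => ?_⟩, ?_⟩
    · rw [← mul_assoc, ihx.1.2 w hw, mul_assoc, ihy.1.2 w hw, mul_assoc]
    · have hc : Commute x y := ihy.1.2 x ihx.1.1
      rw [hc.mul_pow, ihx.2, ihy.2, one_mul]
  | inv x _ ih =>
    refine ⟨⟨P.inv_mem ih.1.1, fun w hw => ?_⟩, by rw [inv_pow, ih.2, inv_one]⟩
    have := ih.1.2 w hw
    calc w * x⁻¹ = x⁻¹ * (x * w) * x⁻¹ := by group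
      _ = x⁻¹ * (w * x) * x⁻¹ := by rw [this]
      _ = x⁻¹ * w := by group

/-- Let P be a finite p-subgroup of a group G and H a subgroup of N_G(P) with [P, H] ≤ Ω₁(Z(P)) (the elements of order dividing p in the centre of P). Then H centralizes the Frattini subgroup of P. -/
theorem result {G : Type*} [Group G] [Finite G] {p : ℕ} [Fact p.Prime] (P : Subgroup G) (hP : IsPGroup p ↥P) (H : Subgroup G) (hH : H ≤ Subgroup.normalizer (P : Set G)) (h : ⁅P, H⁆ ≤ Cfsg.omegaOne p (P ⊓ Subgroup.centralizer (P : Set G))) : ⁅(frattini ↥P).map P.subtype, H⁆ = ⊥ := by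
  -- action formula
  have act : ∀ x ∈ P, ∀ k ∈ H, ∃ z, (z ∈ P ∧ ∀ w ∈ P, w * z = z * w) ∧ z ^ p = 1 ∧
      k * x * k⁻¹ = x * z := by
    intro x hx k hk
    have h1 := omega_mem P (h (Subgroup.commutator_mem_commutator (P.inv_mem hx) hk))
    refine ⟨_, h1.1, h1.2, ?_⟩
    rw [commutatorElement_def]; group
  set N : Subgroup P := (Subgroup.centralizer (H : Set G)).subgroupOf P with hN
  have memN : ∀ x : P, x ∈ N ↔ ∀ k ∈ H, k * (x : G) * k⁻¹ = x := by
    intro x
    rw [hN, Subgroup.mem_subgroupOf, Subgroup.mem_centralizer_iff]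
    constructor
    · intro hx k hk
      rw [hx k hk]; group
    · intro hx k hk
      have := hx k hk
      calc k * (x : G) = (k * x * k⁻¹) * k := by group
        _ = x * k := by rw [this]
  have hcomm : commutator P ≤ N := by
    rw [commutator_def, Subgroup.commutator_le]
    intro x _ y _
    rw [memN]
    intro k hk
    obtain ⟨z1, hz1, -, e1⟩ := act x x.2 k hk
    obtain ⟨z2, hz2, -, e2⟩ := act y y.2 k hk
    have c1 := hz1.2 y y.2
    have c2 := hz2.2 x x.2
    have c3 := hz2.2 z1 hz1.1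
    have c4 := hz1.2 x x.2
    have c5 := hz2.2 y y.2
    have : k * ((⁅x, y⁆ : P) : G) * k⁻¹ = ⁅k * (x : G) * k⁻¹, k * (y : G) * k⁻¹⁆ := by
      simp only [commutatorElement_def, Subgroup.coe_mul, Subgroup.coe_inv]; group
    rw [this, e1, e2]
    simp only [commutatorElement_def, Subgroup.coe_mul, Subgroup.coe_inv, mul_inv_rev]
    have C1 : Commute (y : G) z1 := c1
    have C2 : Commute (x : G) z2 := c2
    have C3 : Commute z1 z2 := c3
    have C4 : Commute (x : G) z1 := c4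
    have C5 : Commute (y : G) z2 := c5
    calc (x : G) * z1 * (y * z2) * (z1⁻¹ * (x : G)⁻¹) * (z2⁻¹ * (y : G)⁻¹)
        = x * (z1 * y) * (z2 * z1⁻¹) * ((x : G)⁻¹ * z2⁻¹) * (y : G)⁻¹ := by group
      _ = x * (y * z1) * (z1⁻¹ * z2) * (z2⁻¹ * (x : G)⁻¹) * (y : G)⁻¹ := by
          rw [C1.eq, (C3.inv_left.eq), (C2.inv_inv.eq)]
      _ = x * y * (x : G)⁻¹ * (y : G)⁻¹ := by group
  have hpow : ∀ x : P, x ^ p ∈ N := by
    intro x
    rw [memN]
    intro k hk
    obtain ⟨z, hz, hzp, e⟩ := act x x.2 k hk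
    have C : Commute (x : G) z := hz.2 x x.2
    rw [Subgroup.coe_pow, ← conj_pow, e, C.mul_pow, hzp, mul_one]
  have hNn : N.Normal := by
    constructor
    intro n hn g
    have e : g * n * g⁻¹ = ⁅g, n⁆ * n := by rw [commutatorElement_def]; group
    rw [e]
    exact N.mul_mem (hcomm (by
      rw [commutator_def]
      exact Subgroup.commutator_mem_commutator (Subgroup.mem_top _) (Subgroup.mem_top _))) hn
  have hF : frattini P ≤ N := Cfsg.Agent.S0013.result p hP N hcomm hpow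
  rw [Subgroup.commutator_eq_bot_iff_le_centralizer]
  rintro _ ⟨x, hx, rfl⟩
  exact hF hx

end Cfsg.Agent.S2818
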