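import Cfsg.Statements.S2819
import Cfsg.Agent.Lib.Helper4_Subn
import Cfsg.Agent.S0013

set_option autoImplicit false
open Cfsg

namespace Cfsg.Agent.S2819

open scoped Pointwise commutatorElement
open Cfsg.Agent.Lib.Helper4_Syl Cfsg.Agent.Lib.Helper4_Control Cfsg.Agent.Lib.Helper4_Cop
  Cfsg.Agent.Lib.Helper4_WC Cfsg.Agent.Lib.Helper4_WC2 Cfsg.Agent.Lib.Helper4_PIrr
  Cfsg.Agent.Lib.Helper4_PIrr2 Cfsg.Agent.Lib.Helper4_Core Cfsg.Agent.Lib.Helper4_Subn

variable {G : Type*} [Group G]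

local notation "N(" A ")" => Subgroup.normalizer ((A : Subgroup G) : Set G)
local notation "C(" A ")" => Subgroup.centralizer ((A : Subgroup G) : Set G)

theorem normalizer_le_comm (P : Subgroup G) : N(P) ≤ N(⁅P, P⁆) :=
  le_normalizer_commutator' le_rfl le_rfl

/-- elements of `N(P)` centralizing `P'` and `p`-th powers modulo `P'` -/
def stabF (p : ℕ) (P : Subgroup G) : Subgroup G where
  carrier := {h | h ∈ N(P) ∧ h ∈ C(⁅P, P⁆) ∧ ∀ x ∈ P, ⁅h, x ^ p⁆ ∈ ⁅P, P⁆}
  one_mem' := ⟨Subgroup.one_mem _, Subgroup.one_mem _, fun x _ => by simp⟩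
  mul_mem' := by
    rintro d e ⟨hd1, hd2, hd3⟩ ⟨he1, he2, he3⟩
    refine ⟨Subgroup.mul_mem _ hd1 he1, Subgroup.mul_mem _ hd2 he2, fun r hr => ?_⟩
    have e1 : ⁅d * e, r ^ p⁆ = d * ⁅e, r ^ p⁆ * d⁻¹ * ⁅d, r ^ p⁆ := by
      simp only [commutatorElement_def]; group
    rw [e1]
    exact Subgroup.mul_mem _ (conj_mem_of_mem_normalizer (normalizer_le_comm P hd1) (he3 r hr))
      (hd3 r hr)
  inv_mem' := by
    rintro d ⟨hd1, hd2, hd3⟩
    refine ⟨Subgroup.inv_mem _ hd1, Subgroup.inv_mem _ hd2, fun r hr => ?_⟩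
    have e1 : ⁅d⁻¹, r ^ p⁆ = d⁻¹ * (⁅d, r ^ p⁆)⁻¹ * d⁻¹⁻¹ := by
      simp only [commutatorElement_def]; group
    rw [e1]
    exact conj_mem_of_mem_normalizer (Subgroup.inv_mem _ (normalizer_le_comm P hd1))
      (Subgroup.inv_mem _ (hd3 r hr))

theorem normalizer_le_stabF (p : ℕ) (P : Subgroup G) : N(P) ≤ N(stabF p P) := by
  apply le_normalizer_of_conj_mem
  rintro m hm d ⟨hd1, hd2, hd3⟩
  refine ⟨?_, ?_, fun r hr => ?_⟩
  · exact Subgroup.mul_mem _ (Subgroup.mul_mem _ hm hd1) (Subgroup.inv_mem _ hm)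
  · exact conj_mem_of_mem_normalizer
      (le_normalizer_centralizer' (normalizer_le_comm P) hm) hd2
  · have e1 : ⁅m * d * m⁻¹, r ^ p⁆ = m * ⁅d, (m⁻¹ * r * m⁻¹⁻¹) ^ p⁆ * m⁻¹ := by
      rw [conj_pow]
      simp only [commutatorElement_def]; group
    rw [e1]
    exact conj_mem_of_mem_normalizer (normalizer_le_comm P hm)
      (hd3 _ (conj_mem_of_mem_normalizer (Subgroup.inv_mem _ hm) hr))

theorem mul_pow_mem_comm (P : Subgroup G) {a b : G} (ha : a ∈ P) (hb : b ∈ P) (n : ℕ) :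
    (a * b) ^ n * (b ^ n)⁻¹ * (a ^ n)⁻¹ ∈ ⁅P, P⁆ := by
  have h1 : ((⟨a, ha⟩ : P) * ⟨b, hb⟩) ^ n * ((⟨b, hb⟩ : P) ^ n)⁻¹ * ((⟨a, ha⟩ : P) ^ n)⁻¹ ∈
      commutator P := by
    rw [← Abelianization.ker_of, MonoidHom.mem_ker]
    simp only [map_mul, map_pow, map_inv, mul_pow]
    rw [mul_assoc, mul_assoc, mul_comm (Abelianization.of (⟨b, hb⟩ : P) ^ n), mul_assoc]
    simp
  rw [← Subgroup.map_subtype_commutator]
  exact ⟨_, h1, rfl⟩

/-- Let P be a finite p-subgroup of a group G, H a subgroup of N_G(P), and Y a subgroup of H centralizing the derived subgroup P' such that [P, Y] is elementary abelian. Then O^p(⟨Y^H⟩), the subgroup of the normal closure of Y in H generated by its elements of order prime to p, centralizes the Frattini subgroup of P. -/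
theorem result {G : Type*} [Group G] [Finite G] {p : ℕ} [Fact p.Prime] (P : Subgroup G) (hP : IsPGroup p ↥P) (H : Subgroup G) (hH : H ≤ Subgroup.normalizer (P : Set G)) (Y : Subgroup G) (hYH : Y ≤ H) (hYc : Y ≤ Subgroup.centralizer ((⁅P, P⁆ : Subgroup G) : Set G)) (hel : Cfsg.IsElementaryAbelian p ⁅P, Y⁆) (NY : Subgroup G) (hNY : NY = (Subgroup.normalClosure ((Y.subgroupOf H : Subgroup ↥H) : Set ↥H)).map H.subtype) : (Cfsg.pResidual p ↥NY).map NY.subtype ≤ Subgroup.centralizer (((frattini ↥P).map P.subtype : Subgroup G) : Set G) := by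
  have hYS : Y ≤ stabF p P := by
    intro y hy
    refine ⟨hH (hYH hy), hYc hy, fun x hx => ?_⟩
    have hc : ⁅y, x⁆ ∈ ⁅P, Y⁆ := by
      rw [← commutatorElement_inv]
      exact Subgroup.inv_mem _ (Subgroup.commutator_mem_commutator hx hy)
    have hcP : ⁅y, x⁆ ∈ P := comm_mem_left (hH (hYH hy)) hx
    have hcp : ⁅y, x⁆ ^ p = 1 := hel.2 _ hc
    have h1 := mul_pow_mem_comm P hcP hx p
    rw [hcp, inv_one, mul_one] at h1
    have e : ⁅y, x ^ p⁆ = (⁅y, x⁆ * x) ^ p * (x ^ p)⁻¹ := by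
      have e2 : ⁅y, x⁆ * x = y * x * y⁻¹ := by rw [commutatorElement_def]; group
      rw [e2, conj_pow, commutatorElement_def]
    rw [e]; exact h1
  have hNYS : NY ≤ stabF p P := by
    have hn : ((stabF p P).subgroupOf H).Normal :=
      Subgroup.normal_subgroupOf_of_le_normalizer (hH.trans (normalizer_le_stabF p P))
    have h1 : Subgroup.normalClosure ((Y.subgroupOf H : Subgroup ↥H) : Set ↥H) ≤
        (stabF p P).subgroupOf H := by
      apply Subgroup.normalClosure_le_normal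
      intro y hy
      exact hYS hy
    rw [hNY]
    rintro _ ⟨x, hx, rfl⟩
    exact h1 hx
  rw [pResidualOf_eq, Subgroup.closure_le]
  rintro z ⟨hz, hc⟩
  obtain ⟨hz1, hz2, hz3⟩ := hNYS hz
  have hP'p : IsPGroup p (⁅P, P⁆ : Subgroup G) := hP.to_le (Subgroup.commutator_le_self P)
  set M : Subgroup P := (Subgroup.centralizer ({z} : Set G)).subgroupOf P with hM
  have hcomm : commutator P ≤ M := by
    intro u hu
    rw [hM, Subgroup.mem_subgroupOf, Subgroup.mem_centralizer_singleton_iff]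
    have : (u : G) ∈ ⁅P, P⁆ := by
      rw [← Subgroup.map_subtype_commutator]; exact ⟨u, hu, rfl⟩
    exact Subgroup.mem_centralizer_iff.1 hz2 _ this
  have hpow : ∀ x : P, x ^ p ∈ M := by
    intro x
    rw [hM, Subgroup.mem_subgroupOf, Subgroup.mem_centralizer_singleton_iff]
    have h1 := hz3 x x.2
    obtain ⟨k, hk⟩ := pow_eq_one_of_isPGroup hP'p h1
    have h2 := comm_eq_one_of_quadratic (p := p) (pow_orderOf_eq_one z) hc
      (Subgroup.mem_centralizer_iff.1 hz2 _ h1).symm hk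
    exact (commutatorElement_eq_one_iff_mul_comm.1 h2).symm
  have hMn : M.Normal := normal_of_commutator_le hcomm
  have hF : frattini P ≤ M := Cfsg.Agent.S0013.result p hP M hcomm hpow
  rw [SetLike.mem_coe, Subgroup.mem_centralizer_iff]
  rintro _ ⟨u, hu, rfl⟩
  exact Subgroup.mem_centralizer_singleton_iff.1 (hF hu)

end Cfsg.Agent.S2819
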