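import Cfsg.Statements.S2820
import Cfsg.Agent.Lib.Helper4_Subn

set_option autoImplicit false
open Cfsg

namespace Cfsg.Agent.S2820

open scoped Pointwise commutatorElement
open Cfsg.Agent.Lib.Helper4_Syl Cfsg.Agent.Lib.Helper4_Control Cfsg.Agent.Lib.Helper4_Cop
  Cfsg.Agent.Lib.Helper4_WC Cfsg.Agent.Lib.Helper4_WC2 Cfsg.Agent.Lib.Helper4_PIrr
  Cfsg.Agent.Lib.Helper4_PIrr2 Cfsg.Agent.Lib.Helper4_Core Cfsg.Agent.Lib.Helper4_Subn

/-- Let A and B be subnormal subgroups of the finite group H with A a p-group and B = O^p(B) (B generated by its elements of order prime to p). Then A normalizes B and B = O^p(AB), the subgroup of ⟨A, B⟩ generated by its elements of order prime to p. -/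
theorem result {H : Type*} [Group H] [Finite H] {p : ℕ} [Fact p.Prime] (A B : Subgroup H) (hA : A.IsSubnormal) (hB : B.IsSubnormal) (hAp : IsPGroup p ↥A) (hBres : (Cfsg.pResidual p ↥B).map B.subtype = B) : A ≤ Subgroup.normalizer (B : Set H) ∧ (Cfsg.pResidual p ↥(A ⊔ B)).map (A ⊔ B).subtype = B := by
  have hAO : A ≤ Cfsg.pCore p H := subnormal_pgroup_le_pCore hA hAp
  have hn : (Cfsg.pCore p H).Normal := Subgroup.sSup_normal _ (fun _ h => h.1)
  have key := mem_of_subnormal_sup hn (pCore_isPGroup p H) hB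
  rw [pResidualOf_eq] at hBres
  constructor
  · apply le_normalizer_of_conj_mem
    intro a ha b hb
    have h1 : B ≤ B.comap (MulAut.conj a).toMonoidHom := by
      conv_lhs => rw [← hBres]
      rw [Subgroup.closure_le]
      rintro g ⟨hg, hc⟩
      show a * g * a⁻¹ ∈ B
      apply key _ (by rw [orderOf_conj_eq]; exact hc)
      have haS : a ∈ B ⊔ Cfsg.pCore p H := le_sup_right (a := B) (hAO ha)
      exact Subgroup.mul_mem _ (Subgroup.mul_mem _ haS (le_sup_left (a := B) hg))
        (Subgroup.inv_mem _ haS)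
    exact h1 hb
  · rw [pResidualOf_eq]
    apply le_antisymm
    · rw [Subgroup.closure_le]
      rintro g ⟨hg, hc⟩
      apply key g hc
      exact (sup_le (hAO.trans le_sup_right) le_sup_left : A ⊔ B ≤ B ⊔ Cfsg.pCore p H) hg
    · conv_lhs => rw [← hBres]
      apply Subgroup.closure_mono
      rintro g ⟨hg, hc⟩
      exact ⟨le_sup_right (a := A) hg, hc⟩

end Cfsg.Agent.S2820
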