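import Cfsg.Statements.S2821
import Cfsg.Agent.Lib.Helper4_PRed2

set_option autoImplicit false
open Cfsg

namespace Cfsg.Agent.S2821

open scoped Pointwise commutatorElement
open Cfsg.Agent.Lib.Helper4_PRed Cfsg.Agent.Lib.Helper4_PRed2 Cfsg.Agent.Lib.Helper4_Syl
  Cfsg.Agent.Lib.Helper4_Cop Cfsg.Agent.Lib.Helper4_Core Cfsg.Agent.Lib.Helper4_WC2
  Cfsg.Agent.Lib.Helper4_Control

/-- `Ω₁(Z(T₁))` lies in the largest `p`-reduced normal subgroup, `T₁` a Sylow subgroup of `L` -/
theorem omega_le_largest {H : Type*} [Group H] [Finite H] {p : ℕ} [Fact p.Prime] {L T₁ : Subgroup H}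
    (hchar : L ⊓ Subgroup.centralizer ((pCoreOf p L : Subgroup H) : Set H) ≤ pCoreOf p L)
    (hT₁ : IsSylIn p T₁ L) :
    omegaOne p (T₁ ⊓ Subgroup.centralizer (T₁ : Set H)) ≤ largestPReducedOf p L := by
  set X := omegaOne p (T₁ ⊓ Subgroup.centralizer (T₁ : Set H)) with hX
  have hTX : T₁ ≤ Subgroup.centralizer (X : Set H) :=
    Subgroup.le_centralizer_iff.1 ((omega_le p T₁).trans inf_le_right)
  have hprn : PRN p T₁ X :=
    ⟨(omega_le p T₁).trans inf_le_left,
      le_normalizer_omegaOne (le_normalizer_center Subgroup.le_normalizer), omega_ea p T₁,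
      fun D hD _ _ => hD.trans hTX⟩
  have hV := prn_closure hchar hT₁ le_rfl hT₁.le hprn (le_invClosure L X)
    (le_normalizer_invClosure L X) (fun W h1 h2 => invClosure_le h1 h2)
  exact (le_invClosure L X).trans ((largestOf_spec p L).2 _ hV)

/-- Let H be a finite group, p a prime, T a Sylow p-subgroup and L a subgroup of characteristic p containing T; let Y_L be the largest p-reduced normal subgroup of L (the join of the normal elementary abelian p-subgroups V of L with O_p(L/C_L(V)) = 1). Then T₀ := C_T(Y_L) is a Sylow p-subgroup of C_H(Y_L); moreover O_p(L) ≤ T₀ ≤ C_L(Y_L) and Ω₁(Z(T)) ≤ Z_L ≤ Y_L ≤ Ω₁(Z(O_p(L))), where Z_L is generated by the Ω₁(Z(S)) over the Sylow p-subgroups S of L. -/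
theorem result {H : Type*} [Group H] [Finite H] {p : ℕ} [Fact p.Prime] (T : Sylow p H) (L : Subgroup H) (hTL : (T : Subgroup H) ≤ L) (hL : Subgroup.centralizer (Cfsg.pCore p ↥L : Set ↥L) ≤ Cfsg.pCore p ↥L) (T₀ : Subgroup H) (hT₀ : T₀ = (T : Subgroup H) ⊓ Subgroup.centralizer (((Cfsg.largestPReducedOf p L) : Subgroup H) : Set H)) : (∃ P : Sylow p ↥(Subgroup.centralizer (((Cfsg.largestPReducedOf p L) : Subgroup H) : Set H)), (P : Subgroup ↥(Subgroup.centralizer (((Cfsg.largestPReducedOf p L) : Subgroup H) : Set H))) = T₀.subgroupOf (Subgroup.centralizer (((Cfsg.largestPReducedOf p L) : Subgroup H) : Set H))) ∧ (Cfsg.pCoreOf p L) ≤ T₀ ∧ T₀ ≤ L ⊓ Subgroup.centralizer (((Cfsg.largestPReducedOf p L) : Subgroup H) : Set H) ∧ (Cfsg.omegaOne p ((T : Subgroup H) ⊓ Subgroup.centralizer (((T : Subgroup H) : Subgroup H) : Set H))) ≤ Cfsg.sylowCenterClosure p L ∧ Cfsg.sylowCenterClosure p L ≤ (Cfsg.largestPReducedOf p L) ∧ (Cfsg.largestPReducedOf p L) ≤ (Cfsg.omegaOne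 p ((Cfsg.pCoreOf p L) ⊓ Subgroup.centralizer (((Cfsg.pCoreOf p L) : Subgroup H) : Set H))) := by
  rw [charPSub_iff] at hL
  obtain ⟨hY, hmax⟩ := largestOf_spec p L
  set Y := Cfsg.largestPReducedOf p L with hYdef
  have hTS : IsSylIn p (T : Subgroup H) ⊤ := IsSylIn.of_sylow_top T
  have hTL' : IsSylIn p (T : Subgroup H) L := hTS.mono hTL le_top
  refine ⟨?_, ?_, ?_, ?_, ?_, ?_⟩
  · have h1 : IsSylIn p (T : Subgroup H) (Subgroup.normalizer (Y : Set H)) :=
      hTS.mono (hTL.trans hY.2.1) le_top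
    have h2 := Cfsg.Agent.Lib.Helper7_Subnormal.isSylIn_inf_of_normal h1
      (Subgroup.centralizer_le_normalizer _) (le_normalizer_centralizer' le_rfl)
    rw [← hT₀] at h2
    obtain ⟨S', hS'⟩ := h2.exists_sylow
    refine ⟨S', ?_⟩
    rw [← hS']
    exact (Subgroup.comap_map_eq_self_of_injective (Subgroup.subtype_injective _) _).symm
  · rw [hT₀]
    exact le_inf (pCoreOf_le_sylow hTL') hY.pCoreOf_le
  · rw [hT₀]
    exact inf_le_inf_right _ hTL
  · obtain ⟨S', hS'⟩ := hTL'.exists_sylow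
    have := le_iSup (fun S : Sylow p L => omegaOne p (((S : Subgroup L).map L.subtype) ⊓
      Subgroup.centralizer (((S : Subgroup L).map L.subtype : Subgroup H) : Set H))) S'
    simp only [hS'] at this
    exact this
  · apply iSup_le
    intro S
    exact omega_le_largest hL (IsSylIn.of_sylow L S)
  · intro y hy
    exact mem_omegaOne (Subgroup.mem_inf.2 ⟨hY.le_pCoreOf hy,
      (Subgroup.le_centralizer_iff.1 hY.pCoreOf_le) hy⟩) (hY.2.2.1.2 y hy)

end Cfsg.Agent.S2821
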