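import Cfsg.Statements.S2822
import Cfsg.Agent.Lib.Helper4_PRed2

set_option autoImplicit false
open Cfsg

namespace Cfsg.Agent.S2822

open scoped Pointwise commutatorElement
open Cfsg.Agent.Lib.Helper4_PRed Cfsg.Agent.Lib.Helper4_PRed2 Cfsg.Agent.Lib.Helper4_Syl
  Cfsg.Agent.Lib.Helper4_Cop Cfsg.Agent.Lib.Helper4_Core Cfsg.Agent.Lib.Helper4_WC2
  Cfsg.Agent.Lib.Helper4_Control

/-- transfer of `p`-reducedness between subgroups inducing the same action -/
theorem prn_transfer {H : Type*} [Group H] {p : ℕ} {L M Y : Subgroup H} (hY : PRN p M Y)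
    (hYL : Y ≤ L)
    (h : L ⊔ Subgroup.centralizer (Y : Set H) = M ⊔ Subgroup.centralizer (Y : Set H)) :
    PRN p L Y := by
  have hLN : L ≤ Subgroup.normalizer (Y : Set H) := by
    calc L ≤ L ⊔ Subgroup.centralizer (Y : Set H) := le_sup_left
      _ = M ⊔ Subgroup.centralizer (Y : Set H) := h
      _ ≤ _ := sup_le hY.2.1 (Subgroup.centralizer_le_normalizer _)
  exact ⟨hYL, hLN, hY.2.2.1, PR.transfer hLN h hY.2.2.2⟩

/-- Let H be a finite group, p a prime, T a Sylow p-subgroup, and L, M subgroups of characteristic p containing T, with largest p-reduced normal subgroups Y_L, Y_M. If L·C_H(Y_M) = M·C_H(Y_M), then Y_M ≤ Y_L. -/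
theorem result {H : Type*} [Group H] [Finite H] {p : ℕ} [Fact p.Prime] (T : Sylow p H) (L M : Subgroup H) (hTL : (T : Subgroup H) ≤ L) (hTM : (T : Subgroup H) ≤ M) (hL : Subgroup.centralizer (Cfsg.pCore p ↥L : Set ↥L) ≤ Cfsg.pCore p ↥L) (hM : Subgroup.centralizer (Cfsg.pCore p ↥M : Set ↥M) ≤ Cfsg.pCore p ↥M) : L ⊔ Subgroup.centralizer (((Cfsg.largestPReducedOf p M) : Subgroup H) : Set H) = M ⊔ Subgroup.centralizer (((Cfsg.largestPReducedOf p M) : Subgroup H) : Set H) → (Cfsg.largestPReducedOf p M) ≤ (Cfsg.largestPReducedOf p L) := by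
  intro hfac
  obtain ⟨hY, -⟩ := largestOf_spec p M
  have hTM' : IsSylIn p (T : Subgroup H) M := (IsSylIn.of_sylow_top T).mono hTM le_top
  apply (largestOf_spec p L).2
  exact prn_transfer hY (hY.le_pCoreOf.trans ((pCoreOf_le_sylow hTM').trans hTL)) hfac

end Cfsg.Agent.S2822
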