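import Cfsg.Statements.S2824
import Cfsg.Agent.Lib.Helper4_PRed2
import Cfsg.Agent.S2822

set_option autoImplicit false
open Cfsg

namespace Cfsg.Agent.S2824

open scoped Pointwise commutatorElement
open Cfsg.Agent.Lib.Helper4_PRed Cfsg.Agent.Lib.Helper4_PRed2 Cfsg.Agent.Lib.Helper4_Syl
  Cfsg.Agent.Lib.Helper4_Cop Cfsg.Agent.Lib.Helper4_Core Cfsg.Agent.Lib.Helper4_WC2
  Cfsg.Agent.Lib.Helper4_Control

/-- Let H be a finite group, p a prime, T a Sylow p-subgroup, L and M subgroups of characteristic p containing T, Y_L the largest p-reduced normal subgroup of L and T₀ = C_T(Y_L). If M·C_H(Y_L) = L·C_H(Y_L), then L* := N_M(T₀) has Y_{L*} = Y_L and L·C_H(Y_L) = L*·C_H(Y_L). -/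
theorem result {H : Type*} [Group H] [Finite H] {p : ℕ} [Fact p.Prime] (T : Sylow p H) (L M : Subgroup H) (hTL : (T : Subgroup H) ≤ L) (hTM : (T : Subgroup H) ≤ M) (hL : Subgroup.centralizer (Cfsg.pCore p ↥L : Set ↥L) ≤ Cfsg.pCore p ↥L) (hM : Subgroup.centralizer (Cfsg.pCore p ↥M : Set ↥M) ≤ Cfsg.pCore p ↥M) (T₀ : Subgroup H) (hT₀ : T₀ = (T : Subgroup H) ⊓ Subgroup.centralizer (((Cfsg.largestPReducedOf p L) : Subgroup H) : Set H)) (hfac : M ⊔ Subgroup.centralizer (((Cfsg.largestPReducedOf p L) : Subgroup H) : Set H) = L ⊔ Subgroup.centralizer (((Cfsg.largestPReducedOf p L) : Subgroup H) : Set H)) (Ls : Subgroup H) (hLs : Ls = M ⊓ Subgroup.normalizer ((T₀ : Subgroup H) : Set H)) : (Cfsg.largestPReducedOf p Ls) = (Cfsg.largestPReducedOf p L) ∧ L ⊔ Subgroup.centralizer (((Cfsg.largestPReducedOf p L) : Subgroup H) : Set H) = Ls ⊔ Subgroup.centralizer (((Cfsg.largestPReducedOf p L) : Subgroup H) : Set H) := by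
  rw [charPSub_iff] at hL hM
  obtain ⟨hY, hmax⟩ := largestOf_spec p L
  set Y := Cfsg.largestPReducedOf p L with hYdef
  set C := Subgroup.centralizer (Y : Set H) with hC
  have hTS : IsSylIn p (T : Subgroup H) ⊤ := IsSylIn.of_sylow_top T
  have hTL' : IsSylIn p (T : Subgroup H) L := hTS.mono hTL le_top
  have hTM' : IsSylIn p (T : Subgroup H) M := hTS.mono hTM le_top
  have hYT : Y ≤ T := hY.le_pCoreOf.trans (pCoreOf_le_sylow hTL')
  have hYM : PRN p M Y := Cfsg.Agent.S2822.prn_transfer hY (hYT.trans hTM) hfac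
  have hMC : M ≤ Subgroup.normalizer (C : Set H) := le_normalizer_centralizer' hYM.2.1
  have hMK : M ≤ Subgroup.normalizer ((M ⊓ C : Subgroup H) : Set H) :=
    le_normalizer_inf' Subgroup.le_normalizer hMC
  have hSK : IsSylIn p T₀ (M ⊓ C) := by
    have := Cfsg.Agent.Lib.Helper7_Subnormal.isSylIn_inf_of_normal hTM' inf_le_left hMK
    have e : (T : Subgroup H) ⊓ (M ⊓ C) = T₀ := by
      rw [← inf_assoc, inf_eq_left.2 hTM, hT₀]
    rwa [e] at this
  have hMle : M ≤ Ls ⊔ C := by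
    intro g hg
    obtain ⟨n, hn, hng⟩ := frattini hSK g (mem_normalizer_iff_lc.1 (hMK hg))
    have e : g = n * (n⁻¹ * g) := by group
    rw [e]
    refine Subgroup.mul_mem _ (le_sup_right (a := Ls) hn.2) (le_sup_left (a := Ls) ?_)
    rw [hLs]
    exact Subgroup.mem_inf.2 ⟨M.mul_mem (M.inv_mem hn.1) hg, hng⟩
  have hLsM : Ls ≤ M := by rw [hLs]; exact inf_le_left
  have hsup : Ls ⊔ C = L ⊔ C := by
    rw [← hfac]
    exact le_antisymm (sup_le_sup_right hLsM _) (sup_le hMle le_sup_right)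
  refine ⟨?_, hsup.symm⟩
  have hT₀T : T₀ ≤ T := by rw [hT₀]; exact inf_le_left
  have hTN : (T : Subgroup H) ≤ Subgroup.normalizer (T₀ : Set H) := by
    rw [hT₀]
    exact le_normalizer_inf' Subgroup.le_normalizer (hTM.trans hMC)
  have hTLs : (T : Subgroup H) ≤ Ls := by rw [hLs]; exact le_inf hTM hTN
  have hTLs' : IsSylIn p (T : Subgroup H) Ls := hTS.mono hTLs le_top
  have hLsN : Ls ≤ Subgroup.normalizer (T₀ : Set H) := by rw [hLs]; exact inf_le_right
  have hT₀O : T₀ ≤ pCoreOf p Ls := le_pCoreOf (hT₀T.trans hTLs) (T.2.to_le hT₀T) hLsN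
  have hOMT₀ : pCoreOf p M ≤ T₀ := by
    rw [hT₀]; exact le_inf (pCoreOf_le_sylow hTM') hYM.pCoreOf_le
  have hLschar : Ls ⊓ Subgroup.centralizer ((pCoreOf p Ls : Subgroup H) : Set H) ≤ pCoreOf p Ls := by
    refine le_trans ?_ (hOMT₀.trans hT₀O)
    refine le_trans ?_ hM
    exact inf_le_inf hLsM (Subgroup.centralizer_le (hOMT₀.trans hT₀O))
  have hYLs : PRN p Ls Y := Cfsg.Agent.S2822.prn_transfer hY (hYT.trans hTLs) hsup
  obtain ⟨hY', hmax'⟩ := largestOf_spec p Ls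
  set Y' := Cfsg.largestPReducedOf p Ls with hY'def
  have hYY' : Y ≤ Y' := hmax' Y hYLs
  have h1 := (largest_structure hL hTL' hY hmax).2.2
  have h2 := (largest_structure hLschar hTLs' hY' hmax').2.2
  have e : (T : Subgroup H) ⊓ Subgroup.centralizer (Y' : Set H) = (T : Subgroup H) ⊓ C := by
    apply le_antisymm
    · exact inf_le_inf_left _ (Subgroup.centralizer_le hYY')
    · refine le_inf inf_le_left ?_
      rw [← hT₀]
      exact hT₀O.trans hY'.pCoreOf_le
  rw [e] at h2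
  rw [h2]; exact h1.symm

end Cfsg.Agent.S2824
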