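import Cfsg.Statements.S2827
import Cfsg.Agent.Lib.Helper4_PIrr2

set_option autoImplicit false
open Cfsg

namespace Cfsg.Agent.S2827

open scoped Pointwise commutatorElement
open Cfsg.Agent.Lib.Helper4_Syl Cfsg.Agent.Lib.Helper4_Control Cfsg.Agent.Lib.Helper4_Cop
  Cfsg.Agent.Lib.Helper4_WC Cfsg.Agent.Lib.Helper4_WC2 Cfsg.Agent.Lib.Helper4_PIrr
  Cfsg.Agent.Lib.Helper4_PIrr2 Cfsg.Agent.Lib.Helper4_Core Cfsg.Agent.Lib.Helper9_PResidual

/-- Let H be a finite p-irreducible group (not p-closed, and O^p(H) lies in every normal subgroup that is not p-closed) and T a Sylow p-subgroup. Then H is generated by the conjugates of T and H = H'·T; O^p(H) ≤ H'; and for every normal subgroup Y of T not contained in O_p(H), O^p(H) = [O^p(H), Y] and O^p(H) is contained in the normal closure of Y in H. -/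
theorem result {H : Type*} [Group H] [Finite H] {p : ℕ} [Fact p.Prime] (hH : Cfsg.IsPIrreducible p H) (T : Sylow p H) : Subgroup.normalClosure ((T : Subgroup H) : Set H) = ⊤ ∧ commutator H ⊔ (T : Subgroup H) = ⊤ ∧ Cfsg.pResidual p H ≤ commutator H ∧ ∀ Y : Subgroup H, Y ≤ (T : Subgroup H) → (T : Subgroup H) ≤ Subgroup.normalizer (Y : Set H) → ¬ Y ≤ Cfsg.pCore p H → ⁅Cfsg.pResidual p H, Y⁆ = Cfsg.pResidual p H ∧ Cfsg.pResidual p H ≤ Subgroup.normalClosure (Y : Set H) := by
  have hTO : ¬ (T : Subgroup H) ≤ Cfsg.pCore p H := by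
    intro h
    apply hH.1
    apply isPClosed_of_exists T
    have : Cfsg.pCore p H = T := T.3 (pCore_isPGroup p H) h
    rw [← this]
    exact Subgroup.sSup_normal _ (fun _ h => h.1)
  have key : ∀ Y : Subgroup H, IsPGroup p Y → ¬ Y ≤ Cfsg.pCore p H →
      Cfsg.pResidual p H ≤ Subgroup.normalClosure (Y : Set H) := by
    intro Y hY hYO
    apply hH.2 _ Subgroup.normalClosure_normal
    intro hc
    exact hYO (le_pCore_of_pclosed Subgroup.normalClosure_normal hc Subgroup.subset_normalClosure hY)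
  have h1 : Subgroup.normalClosure ((T : Subgroup H) : Set H) = ⊤ :=
    le_of_pResidual_le_of_sylow_le T _ (key T T.2 hTO) Subgroup.subset_normalClosure
  have h2 : commutator H ⊔ (T : Subgroup H) = ⊤ := by
    have hn : (commutator H ⊔ (T : Subgroup H)).Normal := normal_of_commutator_le le_sup_left
    rw [eq_top_iff, ← h1]
    exact Subgroup.normalClosure_le_normal (le_sup_right (a := commutator H))
  refine ⟨h1, h2, pResidual_le_of_sup T.2 h2, fun Y hYT hTY hYO => ?_⟩
  have hYp : IsPGroup p Y := T.2.to_le hYT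
  have h3 := key Y hYp hYO
  refine ⟨?_, h3⟩
  set R := Cfsg.pResidual p H with hR
  have hRn : R.Normal := pResidual_normal p H
  have hRN : Subgroup.normalizer (R : Set H) = ⊤ := Subgroup.normalizer_eq_top_iff.2 hRn
  have hX : Subgroup.normalizer ((⁅R, Y⁆ ⊔ Y : Subgroup H) : Set H) = ⊤ := by
    apply le_of_pResidual_le_of_sylow_le T
    · exact le_normalizer_commutator_sup R Y
    · exact le_normalizer_sup' (le_normalizer_commutator' (by rw [hRN]; exact le_top) hTY) hTY
  have hXn : (⁅R, Y⁆ ⊔ Y : Subgroup H).Normal := Subgroup.normalizer_eq_top_iff.1 hX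
  have h4 : R ≤ ⁅R, Y⁆ ⊔ Y :=
    h3.trans (Subgroup.normalClosure_le_normal (le_sup_right (a := ⁅R, Y⁆)))
  apply le_antisymm (Subgroup.commutator_le_left R Y)
  have hYR₀ : Y ≤ Subgroup.normalizer ((⁅R, Y⁆ : Subgroup H) : Set H) :=
    le_normalizer_commutator' (by rw [hRN]; exact le_top) Subgroup.le_normalizer
  conv_lhs => rw [hR]
  unfold Cfsg.pResidual
  rw [Subgroup.closure_le]
  intro g hg
  exact mem_of_coprime_of_mem_sup hYp hYR₀ (h4 (mem_pResidual_of_coprime hg)) hg

end Cfsg.Agent.S2827
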