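import Cfsg.Statements.S2829
import Cfsg.Agent.Lib.Helper4_PIrr

set_option autoImplicit false
open Cfsg

namespace Cfsg.Agent.S2829

open scoped Pointwise commutatorElement
open Cfsg.Agent.Lib.Helper4_Syl Cfsg.Agent.Lib.Helper4_Control Cfsg.Agent.Lib.Helper4_Cop
  Cfsg.Agent.Lib.Helper4_WC Cfsg.Agent.Lib.Helper4_WC2 Cfsg.Agent.Lib.Helper4_PIrr
  Cfsg.Agent.Lib.Helper4_Core

/-- Every strongly p-irreducible finite group is p-irreducible. -/
theorem result {H : Type*} [Group H] [Finite H] {p : ℕ} [Fact p.Prime] (hH : Cfsg.IsStronglyPIrreducible p H) : Cfsg.IsPIrreducible p H := by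
  refine ⟨hH.1, fun N hN hnc => hH.2 N hN fun hle => hnc ?_⟩
  rw [isPClosed_sub_iff]
  obtain ⟨P, hP⟩ := exists_isSylIn p N
  refine ⟨P, hP, ?_⟩
  have hn : (Cfsg.pCore p H).Normal := Subgroup.sSup_normal _ (fun _ h => h.1)
  have hN' : Subgroup.normalizer ((Cfsg.pCore p H : Subgroup H) : Set H) = ⊤ :=
    Subgroup.normalizer_eq_top_iff.2 hn
  -- `N ⊓ O_p(H) ≤ P`
  have h1 : N ⊓ Cfsg.pCore p H ≤ P := by
    have hsup : IsPGroup p (P ⊔ (N ⊓ Cfsg.pCore p H) : Subgroup H) := by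
      apply IsPGroup.to_sup_of_normal_right' hP.isPGroup ((pCore_isPGroup p H).to_le inf_le_right)
      apply le_normalizer_inf' (hP.le.trans Subgroup.le_normalizer)
      rw [hN']; exact le_top
    have := hP.eq_of_le (sup_le hP.le inf_le_left) hsup le_sup_left
    calc N ⊓ Cfsg.pCore p H ≤ P ⊔ (N ⊓ Cfsg.pCore p H) := le_sup_right
      _ = P := this
  apply le_normalizer_of_conj_mem
  intro n hn x hx
  have e : n * x * n⁻¹ = ⁅n, x⁆ * x := by rw [commutatorElement_def]; group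
  rw [e]
  refine P.mul_mem (h1 (Subgroup.mem_inf.2 ⟨?_, ?_⟩)) hx
  · exact comm_mem_right (by rw [Subgroup.normalizer_eq_top_iff.2 hN]; trivial) hn
  · exact hle (Subgroup.commutator_mem_commutator hn (Subgroup.mem_top x))

end Cfsg.Agent.S2829
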