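import Cfsg.Statements.S2831
import Cfsg.Agent.Lib.Helper4_PIrr

set_option autoImplicit false
open Cfsg

namespace Cfsg.Agent.S2831

open scoped Pointwise commutatorElement
open Cfsg.Agent.Lib.Helper4_Syl Cfsg.Agent.Lib.Helper4_Control Cfsg.Agent.Lib.Helper4_Cop
  Cfsg.Agent.Lib.Helper4_WC Cfsg.Agent.Lib.Helper4_WC2 Cfsg.Agent.Lib.Helper4_PIrr

/-- Let H be a finite group with Sylow p-subgroup T such that H is T-minimal (H is generated by the conjugates of T and T lies in exactly one maximal subgroup of H). Then H is p-irreducible: H is not p-closed and O^p(H) lies in every normal subgroup of H that is not p-closed. -/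
theorem result {H : Type*} [Group H] [Finite H] {p : ℕ} [Fact p.Prime] (T : Sylow p H) (hmin : Cfsg.IsMinimalOver (T : Subgroup H)) : Cfsg.IsPIrreducible p H := by
  obtain ⟨M, ⟨hM, hTM⟩, -⟩ := hmin.2
  refine ⟨fun hc => ?_, fun N hN hnc => ?_⟩
  · have := minimalOver_not_normal_le hmin (hc T) le_rfl
    apply hM.1
    rw [eq_top_iff, ← this]
    exact hTM
  · by_contra hres
    have h1 : N ⊔ T ≠ ⊤ := fun h => hres (pResidual_le_of_sup T.2 h)
    have h2 : N ⊔ T ≤ M := minimalOver_le hmin hM hTM le_sup_right h1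
    have hP : IsSylIn p ((T : Subgroup H) ⊓ N) N := (IsSylIn.of_sylow_top T).inf_normal N
    have hNN : Subgroup.normalizer (N : Set H) = ⊤ := Subgroup.normalizer_eq_top_iff.2 hN
    have h3 : (T : Subgroup H) ≤ Subgroup.normalizer (((T : Subgroup H) ⊓ N : Subgroup H) : Set H) :=
      le_normalizer_inf' Subgroup.le_normalizer (by rw [hNN]; exact le_top)
    have h4 : Subgroup.normalizer (((T : Subgroup H) ⊓ N : Subgroup H) : Set H) ≠ ⊤ := by
      intro h
      apply hnc
      rw [isPClosed_sub_iff]
      exact ⟨_, hP, by rw [h]; exact le_top⟩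
    have h5 := minimalOver_le hmin hM hTM h3 h4
    apply hM.1
    rw [eq_top_iff]
    intro g _
    obtain ⟨n, hn, hng⟩ := frattini hP g (conj_smul_eq_of_normal N g)
    have : g = n * (n⁻¹ * g) := by group
    rw [this]
    exact M.mul_mem (h2 (le_sup_left (a := N) hn)) (h5 hng)

end Cfsg.Agent.S2831
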