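import Cfsg.Statements.S2832
import Cfsg.Agent.Lib.Helper4_PIrr

set_option autoImplicit false
open Cfsg

namespace Cfsg.Agent.S2832

open scoped Pointwise commutatorElement
open Cfsg.Agent.Lib.Helper4_Syl Cfsg.Agent.Lib.Helper4_Control Cfsg.Agent.Lib.Helper4_Cop
  Cfsg.Agent.Lib.Helper4_WC Cfsg.Agent.Lib.Helper4_WC2 Cfsg.Agent.Lib.Helper4_PIrr

/-- Let H be a finite group with Sylow p-subgroup T such that H is T-minimal (generated by the conjugates of T, with T in exactly one maximal subgroup), and let N be a normal subgroup of H. Then either H/N is a p-group or H/N is minimal over the image of T in the same sense. -/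
theorem result {H : Type*} [Group H] [Finite H] {p : ℕ} [Fact p.Prime] (T : Sylow p H) (hmin : Cfsg.IsMinimalOver (T : Subgroup H)) (N : Subgroup H) [N.Normal] : IsPGroup p (H ⧸ N) ∨ Cfsg.IsMinimalOver ((T : Subgroup H).map (QuotientGroup.mk' N)) := by
  obtain ⟨M, ⟨hM, hTM⟩, huniq⟩ := hmin.2
  by_cases h : N ⊔ T = ⊤
  · left
    exact isPGroup_quotient_of_sup T.2 h
  · right
    have h2 : N ⊔ T ≤ M := minimalOver_le hmin hM hTM le_sup_right h
    have hsurj := QuotientGroup.mk'_surjective N
    have hker : (QuotientGroup.mk' N).ker ≤ M := by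
      rw [QuotientGroup.ker_mk']; exact le_sup_left.trans h2
    refine ⟨?_, M.map (QuotientGroup.mk' N), ⟨isCoatom_map hsurj hker hM, Subgroup.map_mono hTM⟩, ?_⟩
    · rw [Subgroup.coe_map, ← Subgroup.map_normalClosure _ _ hsurj, hmin.1,
        Subgroup.map_top_of_surjective _ hsurj]
    · rintro K ⟨hK, hTK⟩
      have h3 := huniq _ ⟨isCoatom_comap hsurj hK, Subgroup.map_le_iff_le_comap.1 hTK⟩
      rw [← h3, Subgroup.map_comap_eq_self_of_surjective hsurj]

end Cfsg.Agent.S2832
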