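import Cfsg.Statements.S2833
import Cfsg.Agent.Lib.Helper4_PIrr2
import Cfsg.Agent.Lib.Helper1_Comm

set_option autoImplicit false
open Cfsg

namespace Cfsg.Agent.S2833

open scoped Pointwise commutatorElement
open Cfsg.Agent.Lib.Helper4_Syl Cfsg.Agent.Lib.Helper4_Control Cfsg.Agent.Lib.Helper4_Cop
  Cfsg.Agent.Lib.Helper4_WC Cfsg.Agent.Lib.Helper4_WC2 Cfsg.Agent.Lib.Helper4_PIrr
  Cfsg.Agent.Lib.Helper4_PIrr2

variable {G : Type*} [Group G]

local notation "N(" A ")" => Subgroup.normalizer ((A : Subgroup G) : Set G)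
local notation "C(" A ")" => Subgroup.centralizer ((A : Subgroup G) : Set G)

theorem le_stab {V X Z : Subgroup G} (hX : X ≤ N(V)) (hZ : Z ≤ N(V)) :
    X ≤ stab2 V (⁅V, X⁆ ⊔ ⁅V, Z⁆) := by
  have hU₂V : ⁅V, Z⁆ ≤ V := Cfsg.Agent.Lib.Helper1_Comm.commutator_le_left hZ
  have hXU₁ : X ≤ N(⁅V, X⁆) := le_normalizer_commutator' hX Subgroup.le_normalizer
  have hcomm : ∀ x ∈ X, ∀ v ∈ V, ⁅x, v⁆ ∈ ⁅V, X⁆ := by
    intro x hx v hv
    rw [← commutatorElement_inv]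
    exact Subgroup.inv_mem _ (Subgroup.commutator_mem_commutator hv hx)
  have hXU : X ≤ N(⁅V, X⁆ ⊔ ⁅V, Z⁆) := by
    apply le_normalizer_of_conj_mem
    intro x hx m hm
    have h1 : lc x (⁅V, X⁆ ⊔ ⁅V, Z⁆) ≤ ⁅V, X⁆ ⊔ ⁅V, Z⁆ := by
      rw [lc_sup, mem_normalizer_iff_lc.1 (hXU₁ hx)]
      refine sup_le le_sup_left ?_
      intro y hy
      have hu := mem_lc.1 hy
      have e1 : y = ⁅x, x⁻¹ * y * x⁆ * (x⁻¹ * y * x) := by
        rw [commutatorElement_def]; group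
      rw [e1]
      exact Subgroup.mul_mem _ (le_sup_left (a := ⁅V, X⁆) (hcomm x hx _ (hU₂V hu)))
        (le_sup_right (a := ⁅V, X⁆) hu)
    exact h1 (conj_mem_lc hm)
  intro x hx
  exact ⟨hX hx, hXU hx, fun v hv => le_sup_left (a := ⁅V, X⁆) (hcomm x hx v hv)⟩

theorem mem_centralizer_sup {X Z : Subgroup G} {b : G} (h1 : b ∈ C(X)) (h2 : b ∈ C(Z)) :
    b ∈ C(X ⊔ Z) := by
  have hX : X ≤ Subgroup.centralizer ({b} : Set G) := by
    intro x hx
    rw [Subgroup.mem_centralizer_singleton_iff]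
    exact Subgroup.mem_centralizer_iff.1 h1 x hx
  have hZ : Z ≤ Subgroup.centralizer ({b} : Set G) := by
    intro x hx
    rw [Subgroup.mem_centralizer_singleton_iff]
    exact Subgroup.mem_centralizer_iff.1 h2 x hx
  rw [Subgroup.mem_centralizer_iff]
  intro l hl
  exact Subgroup.mem_centralizer_singleton_iff.1 (sup_le hX hZ hl)

/-- Let V be a subgroup of a finite group G normalized by the subgroup L, let X ≤ L and g ∈ L with [V, X, X] = 1 and L generated by X and gXg⁻¹. Put W = [V, L]. Then W = [V, X]·[V, gXg⁻¹], C_W(X) = [V, X], and C_W(L) = [V, X] ∩ [V, gXg⁻¹]. -/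
theorem result {G : Type*} [Group G] [Finite G] (V L : Subgroup G) (hLV : L ≤ Subgroup.normalizer (V : Set G)) (X : Subgroup G) (hX : X ≤ L) (g : G) (hg : g ∈ L) (hq : ⁅⁅V, X⁆, X⁆ = ⊥) (hgen : X ⊔ X.map (MulAut.conj g).toMonoidHom = L) (W : Subgroup G) (hW : W = ⁅V, L⁆) : ⁅V, X⁆ ⊔ ⁅V, X.map (MulAut.conj g).toMonoidHom⁆ = W ∧ W ⊓ Subgroup.centralizer (X : Set G) = ⁅V, X⁆ ∧ W ⊓ Subgroup.centralizer (L : Set G) = ⁅V, X⁆ ⊓ ⁅V, X.map (MulAut.conj g).toMonoidHom⁆ := by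
  change X ⊔ lc g X = L at hgen
  show ⁅V, X⁆ ⊔ ⁅V, lc g X⁆ = W ∧ W ⊓ Subgroup.centralizer (X : Set G) = ⁅V, X⁆ ∧
    W ⊓ Subgroup.centralizer (L : Set G) = ⁅V, X⁆ ⊓ ⁅V, lc g X⁆
  have hZL : lc g X ≤ L := by rw [← hgen]; exact le_sup_right
  have hgV : lc g V = V := mem_normalizer_iff_lc.1 (hLV hg)
  have hU₂ : ⁅V, lc g X⁆ = lc g ⁅V, X⁆ := by rw [lc_commutator', hgV]
  have hU₁C : ⁅V, X⁆ ≤ Subgroup.centralizer (X : Set G) :=
    Subgroup.commutator_eq_bot_iff_le_centralizer.1 hq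
  have hU₂C : ⁅V, lc g X⁆ ≤ Subgroup.centralizer ((lc g X : Subgroup G) : Set G) := by
    rw [hU₂, centralizer_lc]
    exact lc_mono g hU₁C
  have h1 : ⁅V, X⁆ ⊔ ⁅V, lc g X⁆ = W := by
    rw [hW]
    apply le_antisymm
    · exact sup_le (Subgroup.commutator_mono le_rfl hX) (Subgroup.commutator_mono le_rfl hZL)
    · have hL : L ≤ stab2 V (⁅V, X⁆ ⊔ ⁅V, lc g X⁆) := by
        rw [← hgen]
        refine sup_le (le_stab (hX.trans hLV) (hZL.trans hLV)) ?_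
        have := le_stab (hZL.trans hLV) (hX.trans hLV)
        rwa [sup_comm] at this
      rw [Subgroup.commutator_le]
      intro v hv l hl
      rw [← commutatorElement_inv]
      exact Subgroup.inv_mem _ ((hL hl).2.2 v hv)
  have hcent : ∀ b, b ∈ Subgroup.centralizer (L : Set G) → g⁻¹ * b * g = b := by
    intro b hb
    have := Subgroup.mem_centralizer_iff.1 hb g hg
    calc g⁻¹ * b * g = g⁻¹ * (b * g) := by group
      _ = g⁻¹ * (g * b) := by rw [this]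
      _ = b := by group
  have h2 : W ⊓ Subgroup.centralizer (X : Set G) = ⁅V, X⁆ := by
    apply le_antisymm
    · rintro w ⟨hw, hwC⟩
      have hU₂V : ⁅V, lc g X⁆ ≤ V :=
        Cfsg.Agent.Lib.Helper1_Comm.commutator_le_left (hZL.trans hLV)
      have hn : ⁅V, lc g X⁆ ≤ Subgroup.normalizer ((⁅V, X⁆ : Subgroup G) : Set G) :=
        hU₂V.trans (Cfsg.Agent.Lib.Helper1_Comm.le_normalizer_commutator_left V X)
      have hw' : w ∈ ((⁅V, X⁆ ⊔ ⁅V, lc g X⁆ : Subgroup G) : Set G) := by rw [h1]; exact hw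
      rw [Subgroup.coe_mul_of_right_le_normalizer_left _ _ hn] at hw'
      obtain ⟨a, ha, b, hb, rfl⟩ := Set.mem_mul.1 hw'
      have hbX : b ∈ Subgroup.centralizer (X : Set G) := by
        have := Subgroup.mul_mem _ (Subgroup.inv_mem _ (hU₁C ha)) hwC
        simpa using this
      have hbL : b ∈ Subgroup.centralizer (L : Set G) := by
        rw [← hgen]; exact mem_centralizer_sup hbX (hU₂C hb)
      have hb' : b ∈ lc g ⁅V, X⁆ := by rw [← hU₂]; exact hb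
      rw [mem_lc, hcent b hbL] at hb'
      exact Subgroup.mul_mem _ ha hb'
    · refine le_inf ?_ hU₁C
      rw [← h1]; exact le_sup_left
  refine ⟨h1, h2, ?_⟩
  apply le_antisymm
  · rintro w ⟨hw, hwC⟩
    have hw1 : w ∈ ⁅V, X⁆ := by
      rw [← h2]
      exact ⟨hw, Subgroup.centralizer_le hX hwC⟩
    refine Subgroup.mem_inf.2 ⟨hw1, ?_⟩
    rw [hU₂, mem_lc, hcent w hwC]
    exact hw1
  · rintro w ⟨hw1, hw2⟩
    refine Subgroup.mem_inf.2 ⟨?_, ?_⟩
    · rw [← h1]; exact le_sup_left (a := ⁅V, X⁆) hw1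
    · rw [← hgen]; exact mem_centralizer_sup (hU₁C hw1) (hU₂C hw2)

end Cfsg.Agent.S2833
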