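import Cfsg.Statements.S2835
import Cfsg.Agent.Lib.Helper4_PIrr

set_option autoImplicit false
open Cfsg

namespace Cfsg.Agent.S2835

open scoped Pointwise commutatorElement
open Cfsg.Agent.Lib.Helper4_Syl Cfsg.Agent.Lib.Helper4_Control Cfsg.Agent.Lib.Helper4_Cop
  Cfsg.Agent.Lib.Helper4_WC Cfsg.Agent.Lib.Helper4_WC2 Cfsg.Agent.Lib.Helper4_PIrr
  Cfsg.Agent.Lib.Helper4_Core

/-- Let L be a finite group, L₀ a maximal subgroup, T a Sylow p-subgroup of L₀ and Y ≤ T, and suppose L is Y-minimal (generated by the conjugates of Y, with Y in exactly one maximal subgroup, necessarily L₀). Then N_L(T) ≤ L₀, O_p(L) ≤ L₀ and T is a Sylow p-subgroup of L; N_L(L₀) = L₀; L = ⟨Y, gYg⁻¹⟩ for each g ∈ L outside L₀; and if Y is abelian then Y ∩ gYg⁻¹ = C_Y(L) for each such g. -/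
theorem result {L : Type*} [Group L] [Finite L] {p : ℕ} [Fact p.Prime] (L₀ : Subgroup L) (hL₀ : IsCoatom L₀) (T : Sylow p ↥L₀) (Y : Subgroup L) (hYT : Y ≤ (T : Subgroup ↥L₀).map L₀.subtype) (hmin : Cfsg.IsMinimalOver Y) : Subgroup.normalizer (((T : Subgroup ↥L₀).map L₀.subtype : Subgroup L) : Set L) ≤ L₀ ∧ Cfsg.pCore p L ≤ L₀ ∧ (∃ P : Sylow p L, (P : Subgroup L) = (T : Subgroup ↥L₀).map L₀.subtype) ∧ Subgroup.normalizer (L₀ : Set L) = L₀ ∧ (∀ g : L, g ∉ L₀ → Y ⊔ Y.map (MulAut.conj g).toMonoidHom = ⊤) ∧ (IsMulCommutative ↥Y → ∀ g : L, g ∉ L₀ → Y ⊓ Y.map (MulAut.conj g).toMonoidHom = Y ⊓ Subgroup.center L) := by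
  set T' := (T : Subgroup ↥L₀).map L₀.subtype with hT'
  have hS : IsSylIn p T' L₀ := IsSylIn.of_sylow L₀ T
  have hYL₀ : Y ≤ L₀ := hYT.trans hS.le
  have h1 : Subgroup.normalizer (T' : Set L) ≤ L₀ := by
    apply minimalOver_le hmin hL₀ hYL₀ (hYT.trans Subgroup.le_normalizer)
    intro h
    have := minimalOver_not_normal_le hmin (Subgroup.normalizer_eq_top_iff.1 h) hYT
    apply hL₀.1
    rw [eq_top_iff, ← this]
    exact hS.le
  have hS' : IsSylIn p T' ⊤ := hS.of_normalizer_le le_top (inf_le_right.trans h1)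
  obtain ⟨P, hP⟩ := hS'.exists_sylow_top
  have h4 : Subgroup.normalizer (L₀ : Set L) = L₀ := by
    by_contra hne
    have hlt : L₀ < Subgroup.normalizer (L₀ : Set L) :=
      lt_of_le_of_ne Subgroup.le_normalizer (Ne.symm hne)
    have := hL₀.2 _ hlt
    exact hL₀.1 (minimalOver_not_normal_le hmin (Subgroup.normalizer_eq_top_iff.1 this) hYL₀)
  have h5 : ∀ g : L, g ∉ L₀ → Y ⊔ lc g Y = ⊤ := by
    intro g hg
    by_contra hne
    have h6 : Y ⊔ lc g Y ≤ L₀ := minimalOver_le hmin hL₀ hYL₀ le_sup_left hne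
    have h7 : Y ≤ lc g⁻¹ L₀ := lc_le_iff.1 (le_sup_right.trans h6)
    have h8 : lc g⁻¹ L₀ ≠ ⊤ := by
      intro h
      apply hL₀.1
      rw [lc_eq_iff] at h
      rw [h]; simp [lc]
    have h9 : lc g⁻¹ L₀ ≤ L₀ := minimalOver_le hmin hL₀ hYL₀ h7 h8
    have h10 : lc g⁻¹ L₀ = L₀ :=
      Subgroup.eq_of_le_of_card_ge h9 (by rw [card_lc])
    have h11 : g⁻¹ ∈ Subgroup.normalizer (L₀ : Set L) := mem_normalizer_iff_lc.2 h10
    rw [h4] at h11
    exact hg (by simpa using L₀.inv_mem h11)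
  refine ⟨h1, ?_, ⟨P, hP⟩, h4, h5, ?_⟩
  · calc Cfsg.pCore p L ≤ P := pCore_le_sylow P
      _ = T' := hP
      _ ≤ L₀ := hS.le
  · intro hab g hg
    show Y ⊓ lc g Y = Y ⊓ Subgroup.center L
    have hcomm : ∀ a ∈ Y, ∀ b ∈ Y, a * b = b * a := by
      intro a ha b hb
      have := hab.is_comm.comm ⟨a, ha⟩ ⟨b, hb⟩
      exact congrArg Subtype.val this
    apply le_antisymm
    · intro x hx
      refine Subgroup.mem_inf.2 ⟨hx.1, ?_⟩
      have hY1 : Y ≤ Subgroup.centralizer ({x} : Set L) := by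
        intro a ha
        rw [Subgroup.mem_centralizer_singleton_iff]
        exact hcomm a ha x hx.1
      have hY2 : lc g Y ≤ Subgroup.centralizer ({x} : Set L) := by
        intro a ha
        rw [Subgroup.mem_centralizer_singleton_iff]
        have h12 := hcomm _ (mem_lc.1 ha) _ (mem_lc.1 hx.2)
        calc a * x = g * ((g⁻¹ * a * g) * (g⁻¹ * x * g)) * g⁻¹ := by group
          _ = g * ((g⁻¹ * x * g) * (g⁻¹ * a * g)) * g⁻¹ := by rw [h12]
          _ = x * a := by group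
      have h13 : (⊤ : Subgroup L) ≤ Subgroup.centralizer ({x} : Set L) := by
        rw [← h5 g hg]; exact sup_le hY1 hY2
      rw [Subgroup.mem_center_iff]
      intro z
      exact Subgroup.mem_centralizer_singleton_iff.1 (h13 (Subgroup.mem_top z))
    · intro x hx
      refine Subgroup.mem_inf.2 ⟨hx.1, ?_⟩
      rw [mem_lc]
      have := Subgroup.mem_center_iff.1 hx.2 g
      have e : g⁻¹ * x * g = x := by
        calc g⁻¹ * x * g = g⁻¹ * (x * g) := by group
          _ = g⁻¹ * (g * x) := by rw [this]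
          _ = x := by group
      rw [e]; exact hx.1

end Cfsg.Agent.S2835
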