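import Cfsg.Statements.S2836
import Cfsg.Agent.Lib.Helper4_PIrr2
import Cfsg.Agent.S2835

set_option autoImplicit false
open Cfsg

namespace Cfsg.Agent.S2836

open scoped Pointwise commutatorElement
open Cfsg.Agent.Lib.Helper4_Syl Cfsg.Agent.Lib.Helper4_Control Cfsg.Agent.Lib.Helper4_Cop
  Cfsg.Agent.Lib.Helper4_WC Cfsg.Agent.Lib.Helper4_WC2 Cfsg.Agent.Lib.Helper4_PIrr
  Cfsg.Agent.Lib.Helper4_PIrr2 Cfsg.Agent.Lib.Helper4_Core Cfsg.Agent.Lib.Helper4_Alperin

variable {L : Type*} [Group L]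

theorem index_eq_relIndex_of_sup [Finite L] {N M : Subgroup L} [N.Normal] (h : M ⊔ N = ⊤) :
    M.index = (N ⊓ M).relIndex N := by
  have h1 : (N ⊓ M).relIndex M * M.index = (N ⊓ M).index := Subgroup.relIndex_mul_index inf_le_right
  have h2 : (N ⊓ M).relIndex N * N.index = (N ⊓ M).index := Subgroup.relIndex_mul_index inf_le_left
  have h3 : (N ⊓ M).relIndex M = N.index := by
    rw [Subgroup.inf_relIndex_right, ← Subgroup.relIndex_sup_right, h, Subgroup.relIndex_top_right]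
  rw [h3, ← h2, mul_comm] at h1
  exact Nat.eq_of_mul_eq_mul_right (Nat.pos_of_ne_zero Subgroup.index_ne_zero_of_finite) h1

theorem lc_top (c : L) : lc c (⊤ : Subgroup L) = ⊤ := by simp [lc]

/-- the key lemma -/
theorem le_coatom [Finite L] {p : ℕ} [Fact p.Prime] {L₀ T' Y : Subgroup L} (hL₀ : IsCoatom L₀)
    (hT' : IsSylIn p T' ⊤) (hYT : Y ≤ T') (hYL₀ : Y ≤ L₀) (hmin : IsMinimalOver Y)
    {N : Subgroup L} [hN : N.Normal] (hNL₀ : N ≤ L₀) {M : Subgroup L} (hM : IsCoatom M)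
    (hPM : T' ⊓ N ≤ M) : N ≤ M := by
  by_contra hNM
  have hsup : M ⊔ N = ⊤ := by
    apply hM.2
    exact lt_of_le_of_ne le_sup_left (fun h => hNM (by rw [h]; exact le_sup_right))
  have hP : IsSylIn p (T' ⊓ N) N := hT'.inf_normal N
  have h1 : ¬ p ∣ (T' ⊓ N).relIndex N :=
    (isSylIn_iff_relIndex inf_le_right hP.isPGroup).1 hP
  have h2 : ¬ p ∣ M.index := by
    rw [index_eq_relIndex_of_sup hsup]
    intro hd
    apply h1
    rw [← Subgroup.relIndex_mul_relIndex (T' ⊓ N) (N ⊓ M) N (le_inf inf_le_right hPM) inf_le_left]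
    exact Dvd.dvd.mul_left hd _
  obtain ⟨S, hS⟩ := exists_isSylIn p M
  have h3 : ¬ p ∣ S.relIndex M := (isSylIn_iff_relIndex hS.le hS.isPGroup).1 hS
  have h4 : IsSylIn p S ⊤ := by
    rw [isSylIn_iff_relIndex le_top hS.isPGroup, Subgroup.relIndex_top_right,
      ← Subgroup.relIndex_mul_index hS.le]
    intro hd
    rcases (Nat.Prime.dvd_mul (Fact.out : p.Prime)).1 hd with h | h
    · exact h3 h
    · exact h2 h
  obtain ⟨l, -, hl⟩ := h4.conj hT'
  have h5 : Y ≤ lc l M := by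
    calc Y ≤ T' := hYT
      _ = lc l S := hl.symm
      _ ≤ lc l M := lc_mono l hS.le
  have h6 : lc l M ≠ ⊤ := by
    intro h
    apply hM.1
    rw [lc_eq_iff] at h
    rw [h, lc_top]
  have h7 : lc l M ≤ L₀ := minimalOver_le hmin hL₀ hYL₀ h5 h6
  have h8 : M ≤ lc l⁻¹ L₀ := lc_le_iff.1 h7
  have h9 : lc l⁻¹ L₀ ≠ ⊤ := by
    intro h
    apply hL₀.1
    rw [lc_eq_iff] at h
    rw [h, lc_top]
  have h10 : M = lc l⁻¹ L₀ := by
    by_contra hne
    exact h9 (hM.2 _ (lt_of_le_of_ne h8 hne))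
  apply hNM
  rw [h10]
  calc N = lc l⁻¹ N := (conj_smul_eq_of_normal N l⁻¹).symm
    _ ≤ lc l⁻¹ L₀ := lc_mono _ hNL₀

theorem inf_normal_of_le [Finite L] {p : ℕ} [Fact p.Prime] {L₀ T' Y : Subgroup L} (hL₀ : IsCoatom L₀)
    (hT' : IsSylIn p T' ⊤) (hYT : Y ≤ T') (hYL₀ : Y ≤ L₀) (hmin : IsMinimalOver Y)
    {N : Subgroup L} [hN : N.Normal] (hNL₀ : N ≤ L₀) : (T' ⊓ N).Normal := by
  rw [← Subgroup.normalizer_eq_top_iff]
  by_contra hne
  have hP : IsSylIn p (T' ⊓ N) N := hT'.inf_normal N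
  have hNN : Subgroup.normalizer (N : Set L) = ⊤ := Subgroup.normalizer_eq_top_iff.2 hN
  have h3 : T' ≤ Subgroup.normalizer ((T' ⊓ N : Subgroup L) : Set L) :=
    le_normalizer_inf' Subgroup.le_normalizer (by rw [hNN]; exact le_top)
  have h5 := minimalOver_le hmin hL₀ hYL₀ (hYT.trans h3) hne
  apply hL₀.1
  rw [eq_top_iff]
  intro g _
  obtain ⟨n, hn, hng⟩ := frattini hP g (conj_smul_eq_of_normal N g)
  have : g = n * (n⁻¹ * g) := by group
  rw [this]
  exact L₀.mul_mem (hNL₀ hn) (h5 hng)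

theorem map_le_frattini [Finite L] {p : ℕ} [Fact p.Prime] {L₀ T' Y : Subgroup L} (hL₀ : IsCoatom L₀)
    (hT' : IsSylIn p T' ⊤) (hYT : Y ≤ T') (hYL₀ : Y ≤ L₀) (hmin : IsMinimalOver Y)
    {N : Subgroup L} [hN : N.Normal] (hNL₀ : N ≤ L₀) (P₁ : Subgroup L) [P₁.Normal]
    (hP₁ : T' ⊓ N ≤ P₁) : N.map (QuotientGroup.mk' P₁) ≤ frattini (L ⧸ P₁) := by
  unfold _root_.frattini Order.radical
  apply le_iInf₂
  intro Mb hMb
  have hM := isCoatom_comap (QuotientGroup.mk'_surjective P₁) hMb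
  rw [Subgroup.map_le_iff_le_comap]
  apply le_coatom hL₀ hT' hYT hYL₀ hmin hNL₀ hM
  refine hP₁.trans ?_
  have := Subgroup.ker_le_comap (QuotientGroup.mk' P₁) Mb
  rwa [QuotientGroup.ker_mk'] at this

theorem pCore_eq_of_pclosed [Finite L] {p : ℕ} [Fact p.Prime] (hc : IsPClosed p L) (S : Sylow p L) :
    pCore p L = S :=
  le_antisymm (pCore_le_sylow S) (le_pCore (hc S) S.2)

/-- Let L be a finite group, L₀ a maximal subgroup, T a Sylow p-subgroup of L₀, Y ≤ T, and suppose L is Y-minimal. Let D be the intersection of the conjugates of L₀ (the core of L₀). Then D contains O_p(L) and D/O_p(L) is the Frattini subgroup of L/O_p(L), so D is p-closed; and every normal subgroup N of L contained in L₀ is p-closed with N/O_p(N) a nilpotent group of order prime to p. -/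
theorem result {L : Type*} [Group L] [Finite L] {p : ℕ} [Fact p.Prime] (L₀ : Subgroup L) (hL₀ : IsCoatom L₀) (T : Sylow p ↥L₀) (Y : Subgroup L) (hYT : Y ≤ (T : Subgroup ↥L₀).map L₀.subtype) (hmin : Cfsg.IsMinimalOver Y) : (Cfsg.pCore p L ≤ L₀.normalCore ∧ (L₀.normalCore).map (QuotientGroup.mk' (Cfsg.pCore p L)) = frattini (L ⧸ Cfsg.pCore p L) ∧ Cfsg.IsPClosed p ↥(L₀.normalCore)) ∧ ∀ (N : Subgroup L) [N.Normal], N ≤ L₀ → Cfsg.IsPClosed p ↥N ∧ Group.IsNilpotent (↥N ⧸ Cfsg.pCore p ↥N) ∧ (Nat.card (↥N ⧸ Cfsg.pCore p ↥N)).Coprime p := by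
  obtain ⟨-, hOL₀, ⟨P, hP⟩, -, -, -⟩ := Cfsg.Agent.S2835.result L₀ hL₀ T Y hYT hmin
  set T' := (T : Subgroup ↥L₀).map L₀.subtype with hT'def
  have hT' : IsSylIn p T' ⊤ := by rw [← hP]; exact IsSylIn.of_sylow_top P
  have hYL₀ : Y ≤ L₀ := hYT.trans (Subgroup.map_subtype_le _)
  have partB : ∀ (N : Subgroup L) [N.Normal], N ≤ L₀ → Cfsg.IsPClosed p ↥N ∧ Group.IsNilpotent (↥N ⧸ Cfsg.pCore p ↥N) ∧ (Nat.card (↥N ⧸ Cfsg.pCore p ↥N)).Coprime p := by
    intro N hN hNL₀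
    have hPn : (T' ⊓ N).Normal := inf_normal_of_le hL₀ hT' hYT hYL₀ hmin hNL₀
    have hS : IsSylIn p (T' ⊓ N) N := hT'.inf_normal N
    have hc : Cfsg.IsPClosed p ↥N := by
      rw [isPClosed_sub_iff]
      exact ⟨_, hS, by rw [Subgroup.normalizer_eq_top_iff.2 hPn]; exact le_top⟩
    obtain ⟨S', hS'⟩ := hS.exists_sylow
    have hK : Cfsg.pCore p ↥N = S' := pCore_eq_of_pclosed hc S'
    have hK' : Cfsg.pCore p ↥N = (T' ⊓ N).subgroupOf N := by
      rw [hK, ← hS']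
      exact (Subgroup.comap_map_eq_self_of_injective N.subtype_injective _).symm
    refine ⟨hc, ?_, ?_⟩
    · have hle : Cfsg.pCore p ↥N ≤ (T' ⊓ N).comap N.subtype := hK'.le
      let f : ↥N ⧸ Cfsg.pCore p ↥N →* L ⧸ (T' ⊓ N) :=
        QuotientGroup.map (Cfsg.pCore p ↥N) (T' ⊓ N) N.subtype hle
      have hfmk : ∀ n : N, f (QuotientGroup.mk n) = QuotientGroup.mk (n : L) := fun n => rfl
      have hfr : ∀ x, f x ∈ frattini (L ⧸ (T' ⊓ N)) := by
        intro x
        obtain ⟨n, rfl⟩ := QuotientGroup.mk_surjective x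
        rw [hfmk]
        exact map_le_frattini hL₀ hT' hYT hYL₀ hmin hNL₀ (T' ⊓ N) le_rfl ⟨n, n.2, rfl⟩
      have hinj : Function.Injective (f.codRestrict (frattini (L ⧸ (T' ⊓ N))) hfr) := by
        rw [injective_iff_map_eq_one]
        intro x hx
        obtain ⟨n, rfl⟩ := QuotientGroup.mk_surjective x
        have h1 : f (QuotientGroup.mk n) = 1 := congrArg Subtype.val hx
        rw [hfmk, QuotientGroup.eq_one_iff] at h1
        rw [QuotientGroup.eq_one_iff, hK']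
        exact h1
      have hnil : Group.IsNilpotent ↥(frattini (L ⧸ (T' ⊓ N))) := frattini_nilpotent
      have h2 : Group.IsNilpotent ↥(f.codRestrict (frattini (L ⧸ (T' ⊓ N))) hfr).range :=
        Subgroup.isNilpotent _
      exact (Group.isNilpotent_congr (MonoidHom.ofInjective hinj)).2 h2
    · rw [← Subgroup.index_eq_card, hK]
      exact (Nat.Coprime.symm ((Nat.Prime.coprime_iff_not_dvd (Fact.out : p.Prime)).2 S'.not_dvd_index))
  refine ⟨⟨?_, ?_, ?_⟩, partB⟩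
  · exact Subgroup.normal_le_normalCore.2 hOL₀
  · have hDn : (L₀.normalCore).Normal := Subgroup.normalCore_normal L₀
    have hDL₀ : L₀.normalCore ≤ L₀ := Subgroup.normalCore_le L₀
    apply le_antisymm
    · apply map_le_frattini hL₀ hT' hYT hYL₀ hmin hDL₀
      exact le_pCore (inf_normal_of_le hL₀ hT' hYT hYL₀ hmin hDL₀) (hT'.isPGroup.to_le inf_le_left)
    · intro xb hxb
      obtain ⟨x, rfl⟩ := QuotientGroup.mk'_surjective _ xb
      refine ⟨x, ?_, rfl⟩
      intro b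
      -- `lc b⁻¹ L₀` is a coatom containing `O_p(L)`
      have hco : IsCoatom (lc b⁻¹ L₀) := by
        refine ⟨fun h => hL₀.1 ?_, fun X hX => ?_⟩
        · rw [lc_eq_iff] at h
          rw [h, lc_top]
        · have h1 : L₀ < lc b X := by
            have h2 : L₀ ≤ lc b X := by
              have := lc_mono b hX.le
              rwa [lc_lc_inv] at this
            refine lt_of_le_of_ne h2 (fun h => hX.ne ?_)
            rw [h, lc_inv_lc]
          have h3 := hL₀.2 _ h1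
          rw [lc_eq_iff, lc_top] at h3
          exact h3
      have hO : Cfsg.pCore p L ≤ lc b⁻¹ L₀ := by
        calc Cfsg.pCore p L = lc b⁻¹ (Cfsg.pCore p L) := (conj_smul_eq_of_normal _ b⁻¹).symm
          _ ≤ lc b⁻¹ L₀ := lc_mono _ hOL₀
      have hker : (QuotientGroup.mk' (Cfsg.pCore p L)).ker ≤ lc b⁻¹ L₀ := by
        rw [QuotientGroup.ker_mk']; exact hO
      have h4 := frattini_le_coatom
        (isCoatom_map (QuotientGroup.mk'_surjective (Cfsg.pCore p L)) hker hco) hxb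
      have h5 : x ∈ ((lc b⁻¹ L₀).map (QuotientGroup.mk' (Cfsg.pCore p L))).comap
          (QuotientGroup.mk' (Cfsg.pCore p L)) := h4
      rw [Subgroup.comap_map_eq_self hker, mem_lc] at h5
      simpa using h5
  · exact (partB L₀.normalCore (Subgroup.normalCore_le L₀)).1

end Cfsg.Agent.S2836
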