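import Cfsg.Statements.S2837
import Cfsg.Agent.Lib.Helper4_PIrr2
import Cfsg.Agent.S2835
import Cfsg.Agent.S2819
import Cfsg.Agent.S2833
import Cfsg.Agent.S0012
import Cfsg.Agent.S0013

set_option autoImplicit false
open Cfsg

namespace Cfsg.Agent.S2837

open scoped Pointwise commutatorElement
open Cfsg.Agent.Lib.Helper4_Syl Cfsg.Agent.Lib.Helper4_Control Cfsg.Agent.Lib.Helper4_Cop
  Cfsg.Agent.Lib.Helper4_WC Cfsg.Agent.Lib.Helper4_WC2 Cfsg.Agent.Lib.Helper4_PIrr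
  Cfsg.Agent.Lib.Helper4_PIrr2 Cfsg.Agent.Lib.Helper4_Core

variable {L : Type*} [Group L]

local notation "N(" A ")" => Subgroup.normalizer ((A : Subgroup L) : Set L)
local notation "C(" A ")" => Subgroup.centralizer ((A : Subgroup L) : Set L)

theorem le_normalizer_aux {Q Y₁ Y₂ : Subgroup L} (hQ : Q.Normal) (hQY₁ : Q ≤ N(Y₁)) :
    Y₁ ≤ N((Q ⊓ Y₁) ⊔ (Q ⊓ Y₂)) := by
  have hQN : N(Q) = ⊤ := Subgroup.normalizer_eq_top_iff.2 hQ
  have h1 : Y₁ ≤ N(Q ⊓ Y₁) := le_normalizer_inf' (by rw [hQN]; exact le_top) Subgroup.le_normalizer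
  apply le_normalizer_of_conj_mem
  intro y hy m hm
  have h2 : lc y ((Q ⊓ Y₁) ⊔ (Q ⊓ Y₂)) ≤ (Q ⊓ Y₁) ⊔ (Q ⊓ Y₂) := by
    rw [lc_sup, mem_normalizer_iff_lc.1 (h1 hy)]
    refine sup_le le_sup_left ?_
    intro x hx
    have hu := mem_lc.1 hx
    have e1 : x = ⁅y, y⁻¹ * x * y⁆ * (y⁻¹ * x * y) := by
      rw [commutatorElement_def]; group
    rw [e1]
    refine Subgroup.mul_mem _ (le_sup_left (a := Q ⊓ Y₁) (Subgroup.mem_inf.2 ⟨?_, ?_⟩))
      (le_sup_right (a := Q ⊓ Y₁) hu)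
    · exact comm_mem_left (by rw [hQN]; trivial) hu.1
    · exact comm_mem_right (hQY₁ hu.1) hy
  exact h2 (conj_mem_lc hm)

theorem comm_le_inf' {A B : Subgroup L} (hAB : A ≤ N(B)) (hBA : B ≤ N(A)) : ⁅A, B⁆ ≤ A ⊓ B := by
  rw [Subgroup.commutator_le]
  intro a ha b hb
  exact Subgroup.mem_inf.2 ⟨comm_mem_right (hBA hb) ha, comm_mem_left (hAB ha) hb⟩

/-- Let L be a finite group of characteristic p, L₀ a maximal subgroup, Y an elementary abelian p-subgroup of L₀ with L Y-minimal and O_p(L) ≤ N_L(Y). Put A = the normal closure of O_p(L) ∩ Y in L. Then for every g ∈ L outside L₀: Φ(A) = A' = [A ∩ Y, A] = [A ∩ Y, A ∩ gYg⁻¹] ≤ C_Y(L), and Y ∩ gYg⁻¹ = (A ∩ Y) ∩ (A ∩ gYg⁻¹) = C_Y(L) = C_A(L). -/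
theorem result {L : Type*} [Group L] [Finite L] {p : ℕ} [Fact p.Prime] (hchar : Subgroup.centralizer (Cfsg.pCore p L : Set L) ≤ Cfsg.pCore p L) (L₀ : Subgroup L) (hL₀ : IsCoatom L₀) (Y : Subgroup L) (hYL₀ : Y ≤ L₀) (hYel : Cfsg.IsElementaryAbelian p Y) (hmin : Cfsg.IsMinimalOver Y) (hOY : Cfsg.pCore p L ≤ Subgroup.normalizer (Y : Set L)) (A : Subgroup L) (hA : A = Subgroup.normalClosure (((Cfsg.pCore p L ⊓ Y : Subgroup L)) : Set L)) (g : L) (hg : g ∉ L₀) : (frattini ↥A).map A.subtype = ⁅A, A⁆ ∧ ⁅A, A⁆ = ⁅A ⊓ Y, A⁆ ∧ ⁅A ⊓ Y, A⁆ = ⁅A ⊓ Y, A ⊓ Y.map (MulAut.conj g).toMonoidHom⁆ ∧ ⁅A ⊓ Y, A⁆ ≤ Y ⊓ Subgroup.center L ∧ Y ⊓ Y.map (MulAut.conj g).toMonoidHom = Y ⊓ Subgroup.center L ∧ (A ⊓ Y) ⊓ (A ⊓ Y.map (MulAut.conj g).toMonoidHom) = Y ⊓ Subgroup.center L ∧ A ⊓ Subgroup.center L = Y ⊓ Subgroup.center L := by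
  have hYp : IsPGroup p Y := by
    rintro ⟨y, hy⟩
    exact ⟨1, Subtype.ext (by simpa using hYel.2 y hy)⟩
  obtain ⟨T, hT⟩ := (hYp.comap_subtype (K := L₀)).exists_le_sylow
  have hYT : Y ≤ (T : Subgroup ↥L₀).map L₀.subtype := by
    rw [← Subgroup.map_subgroupOf_eq_of_le hYL₀]; exact Subgroup.map_mono hT
  obtain ⟨-, -, -, -, h5, h6⟩ := Cfsg.Agent.S2835.result L₀ hL₀ T Y hYT hmin
  have hgen : Y ⊔ lc g Y = ⊤ := h5 g hg
  have hint : Y ⊓ lc g Y = Y ⊓ Subgroup.center L := h6 hYel.1 g hg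
  set Q := Cfsg.pCore p L with hQdef
  set Yg := lc g Y with hYg
  have hQn : Q.Normal := Subgroup.sSup_normal _ (fun _ h => h.1)
  have hQp : IsPGroup p Q := pCore_isPGroup p L
  have hQN : Subgroup.normalizer (Q : Set L) = ⊤ := Subgroup.normalizer_eq_top_iff.2 hQn
  have hgQ : lc g Q = Q := conj_smul_eq_of_normal Q g
  have hQYg : Q ≤ Subgroup.normalizer (Yg : Set L) := by
    rw [hYg, normalizer_lc]
    calc Q = lc g Q := hgQ.symm
      _ ≤ _ := lc_mono g hOY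
  have hcomm : ∀ a ∈ Y, ∀ b ∈ Y, a * b = b * a := by
    intro a ha b hb
    exact congrArg Subtype.val (hYel.1.is_comm.comm ⟨a, ha⟩ ⟨b, hb⟩)
  have hcommg : ∀ a ∈ Yg, ∀ b ∈ Yg, a * b = b * a := by
    intro a ha b hb
    have h12 := hcomm _ (mem_lc.1 ha) _ (mem_lc.1 hb)
    calc a * b = g * ((g⁻¹ * a * g) * (g⁻¹ * b * g)) * g⁻¹ := by group
      _ = g * ((g⁻¹ * b * g) * (g⁻¹ * a * g)) * g⁻¹ := by rw [h12]
      _ = b * a := by group
  have hpowg : ∀ a ∈ Yg, a ^ p = 1 := by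
    intro a ha
    have := hYel.2 _ (mem_lc.1 ha)
    have e : g⁻¹ * a * g = g⁻¹ * a * g⁻¹⁻¹ := by rw [inv_inv]
    rw [e, conj_pow] at this
    have h2 : a ^ p = g * (g⁻¹ * a ^ p * g⁻¹⁻¹) * g⁻¹ := by group
    rw [h2, this]; group
  have hZQ : Subgroup.center L ≤ Q := by
    refine le_trans ?_ hchar
    intro z hz
    rw [Subgroup.mem_centralizer_iff]
    intro x _
    exact Subgroup.mem_center_iff.1 hz x
  have hAn : A.Normal := by rw [hA]; exact Subgroup.normalClosure_normal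
  have hY₀A : Q ⊓ Y ≤ A := by rw [hA]; exact Subgroup.subset_normalClosure
  have hAQ : A ≤ Q := by rw [hA]; exact Subgroup.normalClosure_le_normal inf_le_left
  have hAY : A ⊓ Y = Q ⊓ Y := le_antisymm (inf_le_inf_right _ hAQ) (le_inf hY₀A inf_le_right)
  have hY₀gA : Q ⊓ Yg ≤ A := by
    calc Q ⊓ Yg = lc g (Q ⊓ Y) := by rw [lc_inf, hgQ]
      _ ≤ lc g A := lc_mono g hY₀A
      _ = A := conj_smul_eq_of_normal A g
  have hAYg : A ⊓ Yg = Q ⊓ Yg := le_antisymm (inf_le_inf_right _ hAQ) (le_inf hY₀gA inf_le_right)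
  have hBn : ((Q ⊓ Y) ⊔ (Q ⊓ Yg)).Normal := by
    rw [← Subgroup.normalizer_eq_top_iff, eq_top_iff, ← hgen]
    refine sup_le (le_normalizer_aux hQn hOY) ?_
    have := le_normalizer_aux (Y₂ := Y) hQn hQYg
    rwa [sup_comm] at this
  have hAB : A = (Q ⊓ Y) ⊔ (Q ⊓ Yg) := by
    apply le_antisymm
    · rw [hA]; exact Subgroup.normalClosure_le_normal (le_sup_left : Q ⊓ Y ≤ (Q ⊓ Y) ⊔ (Q ⊓ Yg))
    · exact sup_le hY₀A hY₀gA
  have hn1 : Q ⊓ Y ≤ Subgroup.normalizer ((Q ⊓ Yg : Subgroup L) : Set L) :=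
    le_normalizer_inf' (by rw [hQN]; exact le_top) (inf_le_left.trans hQYg)
  have hn2 : Q ⊓ Yg ≤ Subgroup.normalizer ((Q ⊓ Y : Subgroup L) : Set L) :=
    le_normalizer_inf' (by rw [hQN]; exact le_top) (inf_le_left.trans hOY)
  set K := ⁅Q ⊓ Y, Q ⊓ Yg⁆ with hK
  have hKle : K ≤ Y ⊓ Subgroup.center L := by
    rw [← hint]
    exact (comm_le_inf' hn1 hn2).trans (inf_le_inf inf_le_right inf_le_right)
  have hKconj : ∀ k ∈ K, ∀ x : L, x * k * x⁻¹ ∈ K := by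
    intro k hk x
    have := Subgroup.mem_center_iff.1 (hKle hk).2 x
    rw [this]; simpa using hk
  have hAset : (A : Set L) = ((Q ⊓ Y : Subgroup L) : Set L) * ((Q ⊓ Yg : Subgroup L) : Set L) := by
    rw [hAB]; exact Subgroup.coe_mul_of_right_le_normalizer_left _ _ hn2
  have hdec : ∀ a ∈ A, ∃ a₁ ∈ Q ⊓ Y, ∃ a₂ ∈ Q ⊓ Yg, a = a₁ * a₂ := by
    intro a ha
    have ha' : a ∈ (A : Set L) := ha
    rw [hAset] at ha'
    obtain ⟨a₁, h1, a₂, h2, e⟩ := Set.mem_mul.1 ha'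
    exact ⟨a₁, h1, a₂, h2, e.symm⟩
  have hAAK : ⁅A, A⁆ ≤ K := by
    rw [Subgroup.commutator_le]
    have step1 : ∀ a₁ ∈ Q ⊓ Y, ∀ b ∈ A, ⁅a₁, b⁆ ∈ K := by
      intro a₁ ha₁ b hb
      obtain ⟨b₁, hb₁, b₂, hb₂, rfl⟩ := hdec b hb
      have e : ⁅a₁, b₁ * b₂⁆ = ⁅a₁, b₁⁆ * (b₁ * ⁅a₁, b₂⁆ * b₁⁻¹) := by
        simp only [commutatorElement_def]; group
      have e1 : ⁅a₁, b₁⁆ = 1 := commutatorElement_eq_one_iff_mul_comm.2 (hcomm _ ha₁.2 _ hb₁.2)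
      rw [e, e1, one_mul]
      exact hKconj _ (Subgroup.commutator_mem_commutator ha₁ hb₂) _
    have step2 : ∀ a₂ ∈ Q ⊓ Yg, ∀ b ∈ A, ⁅a₂, b⁆ ∈ K := by
      intro a₂ ha₂ b hb
      obtain ⟨b₁, hb₁, b₂, hb₂, rfl⟩ := hdec b hb
      have e : ⁅a₂, b₁ * b₂⁆ = ⁅a₂, b₁⁆ * (b₁ * ⁅a₂, b₂⁆ * b₁⁻¹) := by
        simp only [commutatorElement_def]; group
      have e1 : ⁅a₂, b₂⁆ = 1 := commutatorElement_eq_one_iff_mul_comm.2 (hcommg _ ha₂.2 _ hb₂.2)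
      rw [e, e1]
      simp only [mul_one, mul_inv_cancel]
      rw [← commutatorElement_inv]
      exact K.inv_mem (Subgroup.commutator_mem_commutator hb₁ ha₂)
    intro a ha b hb
    obtain ⟨a₁, ha₁, a₂, ha₂, rfl⟩ := hdec a ha
    have e : ⁅a₁ * a₂, b⁆ = a₁ * ⁅a₂, b⁆ * a₁⁻¹ * ⁅a₁, b⁆ := by
      simp only [commutatorElement_def]; group
    rw [e]
    exact K.mul_mem (hKconj _ (step2 a₂ ha₂ b hb) _) (step1 a₁ ha₁ b hb)
  have hK1 : K ≤ ⁅Q ⊓ Y, A⁆ := Subgroup.commutator_mono le_rfl hY₀gA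
  have hK2 : ⁅Q ⊓ Y, A⁆ ≤ ⁅A, A⁆ := Subgroup.commutator_mono hY₀A le_rfl
  have e1 : ⁅A, A⁆ = ⁅Q ⊓ Y, A⁆ := le_antisymm (hAAK.trans hK1) hK2
  have e2 : ⁅Q ⊓ Y, A⁆ = K := le_antisymm (hK2.trans hAAK) hK1
  have hY₀Z : Y ⊓ Subgroup.center L ≤ Q ⊓ Y := le_inf (inf_le_right.trans hZQ) inf_le_left
  show (frattini ↥A).map A.subtype = ⁅A, A⁆ ∧ ⁅A, A⁆ = ⁅A ⊓ Y, A⁆ ∧ ⁅A ⊓ Y, A⁆ = ⁅A ⊓ Y, A ⊓ Yg⁆ ∧
    ⁅A ⊓ Y, A⁆ ≤ Y ⊓ Subgroup.center L ∧ Y ⊓ Yg = Y ⊓ Subgroup.center L ∧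
    (A ⊓ Y) ⊓ (A ⊓ Yg) = Y ⊓ Subgroup.center L ∧ A ⊓ Subgroup.center L = Y ⊓ Subgroup.center L
  rw [hAY, hAYg]
  refine ⟨?_, e1, e2, e2.le.trans hKle, hint, ?_, ?_⟩
  · have hAp : IsPGroup p A := hQp.to_le hAQ
    have hpow : ∀ x : A, x ^ p ∈ commutator A := by
      intro x
      obtain ⟨a₁, ha₁, a₂, ha₂, hx⟩ := hdec x x.2
      have h1 := Cfsg.Agent.S2819.mul_pow_mem_comm A (hY₀A ha₁) (hY₀gA ha₂) p
      rw [hYel.2 _ ha₁.2, hpowg _ ha₂.2, ← hx] at h1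
      simp only [inv_one, mul_one] at h1
      rw [← Subgroup.map_subtype_commutator] at h1
      obtain ⟨u, hu, hux⟩ := h1
      have : u = x ^ p := Subtype.ext (by simpa using hux)
      rw [← this]; exact hu
    have hF1 : frattini A ≤ commutator A := Cfsg.Agent.S0013.result p hAp (commutator A) le_rfl hpow
    have hF2 : commutator A ≤ frattini A := (Cfsg.Agent.S0012.result p hAp).1
    rw [le_antisymm hF1 hF2, Subgroup.map_subtype_commutator]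
  · apply le_antisymm
    · rw [← hint]; exact inf_le_inf inf_le_right inf_le_right
    · refine le_inf hY₀Z ?_
      refine le_inf (inf_le_right.trans hZQ) ?_
      rw [← hint]; exact inf_le_right
  · apply le_antisymm
    · rintro z ⟨hzA, hzZ⟩
      refine Subgroup.mem_inf.2 ⟨?_, hzZ⟩
      obtain ⟨a, ha, b, hb, rfl⟩ := hdec z hzA
      have hzc := Subgroup.mem_center_iff.1 hzZ
      have hbY : b ∈ Subgroup.centralizer (Y : Set L) := by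
        rw [Subgroup.mem_centralizer_iff]
        intro y hy
        have h1 := hzc y
        have h2 := hcomm y hy a ha.2
        have : a * (y * b) = a * (b * y) := by
          calc a * (y * b) = (a * y) * b := by group
            _ = (y * a) * b := by rw [h2]
            _ = y * (a * b) := by group
            _ = a * b * y := h1
            _ = a * (b * y) := by group
        exact mul_left_cancel this
      have hbYg : b ∈ Subgroup.centralizer (Yg : Set L) := by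
        rw [Subgroup.mem_centralizer_iff]
        intro y hy
        exact hcommg y hy b hb.2
      have hbT := Cfsg.Agent.S2833.mem_centralizer_sup hbY hbYg
      rw [hgen] at hbT
      have hbg := Subgroup.mem_centralizer_iff.1 hbT g (Subgroup.mem_top g)
      have hb' := mem_lc.1 hb.2
      have e : g⁻¹ * b * g = b := by
        calc g⁻¹ * b * g = g⁻¹ * (b * g) := by group
          _ = g⁻¹ * (g * b) := by rw [hbg]
          _ = b := by group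
      rw [e] at hb'
      exact Y.mul_mem ha.2 hb'
    · exact le_inf (hY₀Z.trans hY₀A) inf_le_right

end Cfsg.Agent.S2837
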