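import Cfsg.Statements.S2838
import Cfsg.Agent.Lib.Helper4_WC2

set_option autoImplicit false
open Cfsg

namespace Cfsg.Agent.S2838

open scoped Pointwise commutatorElement
open Cfsg.Agent.Lib.Helper4_Syl Cfsg.Agent.Lib.Helper4_Control Cfsg.Agent.Lib.Helper4_Cop
  Cfsg.Agent.Lib.Helper4_WC Cfsg.Agent.Lib.Helper4_WC2

variable {H : Type*} [Group H] {p : ℕ}

local notation "N(" A ")" => Subgroup.normalizer ((A : Subgroup H) : Set H)

theorem lc_comm (c : H) (A B : Subgroup H) : lc c ⁅A, B⁆ = ⁅lc c A, lc c B⁆ :=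
  Subgroup.map_commutator A B (MulAut.conj c).toMonoidHom

theorem comm_le_inf {A B : Subgroup H} (hAB : A ≤ N(B)) (hBA : B ≤ N(A)) : ⁅A, B⁆ ≤ A ⊓ B := by
  rw [Subgroup.commutator_le]
  intro a ha b hb
  exact Subgroup.mem_inf.2 ⟨comm_mem_right (hBA hb) ha, comm_mem_left (hAB ha) hb⟩

theorem le_normalizer_of_comm_le {A B : Subgroup H} (h : ⁅A, B⁆ ≤ A) : B ≤ N(A) := by
  apply le_normalizer_of_conj_mem
  intro b hb a ha
  have e : b * a * b⁻¹ = (⁅a, b⁆)⁻¹ * a := by rw [commutatorElement_def]; group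
  rw [e]
  exact A.mul_mem (A.inv_mem (h (Subgroup.commutator_mem_commutator ha hb))) ha

def Pb (Q : Subgroup H) : Prop := ∀ g : H, ⁅Q, lc g Q⁆ ≤ Q ⊓ lc g Q → lc g Q = Q

theorem pb_lc {Q : Subgroup H} (h : Pb Q) (c : H) : Pb (lc c Q) := by
  intro g hg
  have h1 : ⁅Q, lc (c⁻¹ * g * c) Q⁆ ≤ Q ⊓ lc (c⁻¹ * g * c) Q := by
    have := lc_mono c⁻¹ hg
    rw [lc_comm, lc_inf, lc_inv_lc] at this
    rw [lc_mul, lc_mul]
    exact this
  have h2 := h _ h1
  rw [lc_mul, lc_mul, lc_eq_iff, inv_inv] at h2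
  exact h2

theorem pb_le_normalizer [Finite H] [Fact p.Prime] {Q : Subgroup H} (h : Pb Q) {T : Subgroup H}
    (hT : IsPGroup p T) (hQT : Q ≤ T) : T ≤ N(Q) := by
  by_contra hne
  have hM : T ⊓ N(Q) ≠ T := fun e => hne (inf_eq_left.1 e)
  obtain ⟨x, hxT, hxM, hxN⟩ := exists_mem_normalizer_not_mem hT inf_le_left hM
  apply hxM
  refine Subgroup.mem_inf.2 ⟨hxT, ?_⟩
  rw [mem_normalizer_iff_lc]
  have hxM' := mem_normalizer_iff_lc.1 hxN
  have hQM : Q ≤ T ⊓ N(Q) := le_inf hQT Subgroup.le_normalizer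
  apply h
  apply comm_le_inf
  · calc Q ≤ T ⊓ N(Q) := hQM
      _ = lc x (T ⊓ N(Q)) := hxM'.symm
      _ ≤ lc x N(Q) := lc_mono x inf_le_right
      _ = N(lc x Q) := (normalizer_lc x Q).symm
  · calc lc x Q ≤ lc x (T ⊓ N(Q)) := lc_mono x hQM
      _ = T ⊓ N(Q) := hxM'
      _ ≤ N(Q) := inf_le_right

theorem eq_of_normalizer_sylow [Finite H] [Fact p.Prime] {T : Sylow p H} {Q : Subgroup H} {g : H}
    (hNT : N((T : Subgroup H)) ≤ N(Q)) (hNT' : N((T : Subgroup H)) ≤ N(lc g Q)) : lc g Q = Q := by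
  have hTS : IsSylIn p (T : Subgroup H) ⊤ := IsSylIn.of_sylow_top T
  have h1 : IsSylIn p (T : Subgroup H) N(lc g Q) :=
    hTS.mono (Subgroup.le_normalizer.trans hNT') le_top
  have h2 : IsSylIn p (lc g (T : Subgroup H)) N(lc g Q) := by
    have : IsSylIn p (lc g (T : Subgroup H)) (lc g ⊤) := hTS.smul g
    refine ⟨?_, this.isPGroup, fun R _ hR hle => this.eq_of_le (by simp [Cfsg.Agent.Lib.Helper4_Control.lc]) hR hle⟩
    rw [normalizer_lc]
    exact lc_mono g (Subgroup.le_normalizer.trans hNT)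
  obtain ⟨n, hn, hnT⟩ := h2.conj h1
  have h3 : n * g ∈ N((T : Subgroup H)) := by
    rw [mem_normalizer_iff_lc, lc_mul]; exact hnT
  have h4 := mem_normalizer_iff_lc.1 (hNT h3)
  rw [lc_mul, mem_normalizer_iff_lc.1 hn] at h4
  exact h4

/-- For a nontrivial p-subgroup Q of a finite group H the following are equivalent: Q is a weakly closed subgroup (it is the only H-conjugate of itself inside some Sylow p-subgroup containing it); Q = P for every conjugate P of Q with [Q, P] ≤ Q ∩ P; Q is normal in N_H(R) for every p-subgroup R of H containing Q. -/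
theorem result {H : Type*} [Group H] [Finite H] {p : ℕ} [Fact p.Prime] (Q : Subgroup H) (hQp : IsPGroup p ↥Q) (hQ1 : Q ≠ ⊥) : (Cfsg.IsWeaklyClosedSubgroup p Q ↔ ∀ g : H, ⁅Q, ((Q : Subgroup H).map (MulAut.conj (g : H)).toMonoidHom)⁆ ≤ Q ⊓ ((Q : Subgroup H).map (MulAut.conj (g : H)).toMonoidHom) → ((Q : Subgroup H).map (MulAut.conj (g : H)).toMonoidHom) = Q) ∧ (Cfsg.IsWeaklyClosedSubgroup p Q ↔ ∀ R : Subgroup H, IsPGroup p ↥R → Q ≤ R → Subgroup.normalizer ((R : Subgroup H) : Set H) ≤ Subgroup.normalizer ((Q : Subgroup H) : Set H)) := by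
  constructor
  · constructor
    · intro hwc g hg
      change ⁅Q, lc g Q⁆ ≤ Q ⊓ lc g Q at hg
      show lc g Q = Q
      have h1 : lc g Q ≤ Subgroup.normalizer (Q : Set H) :=
        le_normalizer_of_comm_le (hg.trans inf_le_left)
      have h2 : IsPGroup p (lc g Q ⊔ Q : Subgroup H) :=
        IsPGroup.to_sup_of_normal_right' (isPGroup_lc hQp g) hQp h1
      exact wc_in_pgroup hwc h2 le_sup_right le_sup_left
    · intro h
      have hb : Pb Q := h
      obtain ⟨T, hQT⟩ := hQp.exists_le_sylow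
      refine ⟨T, hQT, fun g hg => ?_⟩
      change lc g Q ≤ T at hg
      apply h
      exact comm_le_inf (hQT.trans (pb_le_normalizer (pb_lc hb g) T.2 hg))
        (hg.trans (pb_le_normalizer hb T.2 hQT))
  · constructor
    · intro hwc R hR hQR
      exact wc_normalizer hwc hR hQR
    · intro h
      obtain ⟨T, hQT⟩ := hQp.exists_le_sylow
      refine ⟨T, hQT, fun g hg => ?_⟩
      change lc g Q ≤ T at hg
      show lc g Q = Q
      apply eq_of_normalizer_sylow (T := T) (h T T.2 hQT)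
      have h1 := h (lc g⁻¹ T) (isPGroup_lc T.2 g⁻¹) (lc_le_iff.1 hg)
      rw [normalizer_lc, lc_le_iff, inv_inv, ← normalizer_lc] at h1
      exact h1

end Cfsg.Agent.S2838
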