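import Cfsg.Statements.S2839
import Cfsg.Agent.Lib.Helper4_WC2
import Cfsg.Agent.Lib.Helper9_PResidual

set_option autoImplicit false
open Cfsg

namespace Cfsg.Agent.S2839

open scoped Pointwise commutatorElement
open Cfsg.Agent.Lib.Helper4_Syl Cfsg.Agent.Lib.Helper4_Control Cfsg.Agent.Lib.Helper4_Cop
  Cfsg.Agent.Lib.Helper4_WC Cfsg.Agent.Lib.Helper4_WC2

theorem map_lc {G G' : Type*} [Group G] [Group G'] (f : G →* G') (g : G) (A : Subgroup G) :
    (lc g A).map f = lc (f g) (A.map f) := by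
  show (A.map (MulAut.conj g).toMonoidHom).map f = (A.map f).map (MulAut.conj (f g)).toMonoidHom
  rw [Subgroup.map_map, Subgroup.map_map]
  congr 1
  ext x
  simp

/-- Let Q be a nontrivial p-subgroup of the finite group H that is a weakly closed subgroup, K a subgroup containing Q and N a normal subgroup of H. Then Q is a weakly closed subgroup of K; every H-conjugate of Q contained in K is a K-conjugate of Q; N_K(Q) contains a Sylow p-subgroup of K; N = N_N(Q)·O^p(N); and QN/N is a weakly closed subgroup of H/N. -/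
theorem result {H : Type*} [Group H] [Finite H] {p : ℕ} [Fact p.Prime] (Q : Subgroup H) (hQp : IsPGroup p ↥Q) (hQ1 : Q ≠ ⊥) (hwc : Cfsg.IsWeaklyClosedSubgroup p Q) (K : Subgroup H) (hQK : Q ≤ K) (N' : Subgroup H) [N'.Normal] : Cfsg.IsWeaklyClosedSubgroup p (Q.subgroupOf K) ∧ (∀ g : H, ((Q : Subgroup H).map (MulAut.conj (g : H)).toMonoidHom) ≤ K → ∃ k ∈ K, ((Q : Subgroup H).map (MulAut.conj (g : H)).toMonoidHom) = ((Q : Subgroup H).map (MulAut.conj (k : H)).toMonoidHom)) ∧ Cfsg.IsParabolic p ((Subgroup.normalizer ((Q : Subgroup H) : Set H)).subgroupOf K) ∧ (N' ⊓ Subgroup.normalizer ((Q : Subgroup H) : Set H)) ⊔ (Cfsg.pResidual p ↥N').map N'.subtype = N' ∧ Cfsg.IsWeaklyClosedSubgroup p (Q.map (QuotientGroup.mk' N')) := by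
  obtain ⟨T, hT⟩ := (hQp.comap_subtype (K := K)).exists_le_sylow
  have hXp : IsPGroup p ((T : Subgroup K).map K.subtype) := T.2.map _
  have hQm : (Q.subgroupOf K).map K.subtype = Q := Subgroup.map_subgroupOf_eq_of_le hQK
  have hQX : Q ≤ (T : Subgroup K).map K.subtype := by
    rw [← hQm]; exact Subgroup.map_mono hT
  obtain ⟨S, hQS⟩ := hQp.exists_le_sylow
  have hSN : (S : Subgroup H) ≤ Subgroup.normalizer (Q : Set H) :=
    Subgroup.le_normalizer.trans (wc_normalizer hwc S.2 hQS)
  refine ⟨⟨T, hT, fun k hk => ?_⟩, fun g hg => wc_conj_in hwc hQK hg, ⟨T, ?_⟩, ?_, ?_⟩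
  · change lc k (Q.subgroupOf K) ≤ T at hk
    show lc k (Q.subgroupOf K) = Q.subgroupOf K
    apply Subgroup.map_injective K.subtype_injective
    rw [map_lc, hQm]
    apply wc_in_pgroup hwc hXp hQX
    have := Subgroup.map_mono (f := K.subtype) hk
    rwa [map_lc, hQm] at this
  · intro t ht
    rw [Subgroup.mem_subgroupOf]
    exact (Subgroup.le_normalizer.trans (wc_normalizer hwc hXp hQX)) ⟨t, ht, rfl⟩
  · obtain ⟨S', hS'⟩ := ((IsSylIn.of_sylow_top S).inf_normal N').exists_sylow
    have h1 := Cfsg.Agent.Lib.Helper9_PResidual.pResidual_sup_sylow S'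
    have h2 := congrArg (Subgroup.map N'.subtype) h1
    rw [Subgroup.map_sup, hS', ← MonoidHom.range_eq_map, Subgroup.range_subtype] at h2
    apply le_antisymm
    · exact sup_le inf_le_left (Subgroup.map_subtype_le _)
    · conv_lhs => rw [← h2]
      rw [sup_comm]
      exact sup_le_sup_right (le_inf inf_le_right (inf_le_left.trans hSN)) _
  · refine ⟨S.mapSurjective (QuotientGroup.mk'_surjective N'), Subgroup.map_mono hQS, fun gb hg => ?_⟩
    obtain ⟨g, rfl⟩ := QuotientGroup.mk'_surjective N' gb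
    change lc (QuotientGroup.mk' N' g) (Q.map (QuotientGroup.mk' N')) ≤
      (S : Subgroup H).map (QuotientGroup.mk' N') at hg
    show lc (QuotientGroup.mk' N' g) (Q.map (QuotientGroup.mk' N')) = Q.map (QuotientGroup.mk' N')
    rw [← map_lc] at hg ⊢
    have h1 : lc g Q ≤ N' ⊔ S := by
      have := Subgroup.map_le_iff_le_comap.1 hg
      rw [Subgroup.comap_map_eq, QuotientGroup.ker_mk', sup_comm] at this
      exact this
    obtain ⟨k, hk, hgk⟩ := wc_conj_in hwc (hQS.trans le_sup_right) h1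
    have hk' : k ∈ ((N' ⊔ S : Subgroup H) : Set H) := hk
    rw [Subgroup.normal_mul] at hk'
    obtain ⟨n, hn, s, hs, rfl⟩ := Set.mem_mul.1 hk'
    rw [hgk, lc_mul, mem_normalizer_iff_lc.1 (hSN hs), map_lc]
    have : QuotientGroup.mk' N' n = 1 := (QuotientGroup.eq_one_iff n).2 hn
    rw [this, lc_one]

end Cfsg.Agent.S2839
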