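import Cfsg.Statements.S2840
import Cfsg.Agent.Lib.Helper4_WC3
import Cfsg.Agent.S2839

set_option autoImplicit false
open Cfsg

namespace Cfsg.Agent.S2840

open scoped Pointwise commutatorElement
open Cfsg.Agent.Lib.Helper4_Syl Cfsg.Agent.Lib.Helper4_Control Cfsg.Agent.Lib.Helper4_Cop
  Cfsg.Agent.Lib.Helper4_WC Cfsg.Agent.Lib.Helper4_WC2 Cfsg.Agent.Lib.Helper4_WC3

theorem conj_le_of_subnormal {G : Type*} [Group G] [Finite G] {p : ℕ} [Fact p.Prime]
    {Q : Subgroup G} (hwc : IsWeaklyClosedSubgroup p Q) {X : Subgroup G} (hX : X.IsSubnormal) :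
    Q ≤ X → ∀ g, lc g Q ≤ X := by
  induction hX with
  | top => intro _ _; exact le_top
  | step X K' hle _ hN ih =>
    intro hQX g
    obtain ⟨k, hk, hgk⟩ := wc_conj_in hwc (hQX.trans hle) (ih (hQX.trans hle) g)
    rw [hgk]
    have hkN : k ∈ Subgroup.normalizer (X : Set G) :=
      (Subgroup.normal_subgroupOf_iff_le_normalizer hle).1 hN hk
    calc lc k Q ≤ lc k X := lc_mono k hQX
      _ = X := mem_normalizer_iff_lc.1 hkN

theorem iSup_lc_normal {G : Type*} [Group G] (Q : Subgroup G) : (⨆ k : G, lc k Q).Normal := by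
  constructor
  intro n hn g
  have h1 : lc g (⨆ k : G, lc k Q) ≤ ⨆ k : G, lc k Q := by
    rw [lc_eq_map, Subgroup.map_iSup]
    apply iSup_le
    intro k
    rw [← lc_eq_map, ← lc_mul]
    exact le_iSup (fun k : G => lc k Q) (g * k)
  exact h1 (conj_mem_lc hn)

theorem subnormalClosure_eq {G : Type*} [Group G] [Finite G] {p : ℕ} [Fact p.Prime]
    {Q : Subgroup G} (hwc : IsWeaklyClosedSubgroup p Q) :
    subnormalClosure Q = ⨆ k : G, lc k Q := by
  apply le_antisymm
  · apply sInf_le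
    refine ⟨?_, (iSup_lc_normal Q).isSubnormal⟩
    have := le_iSup (fun k : G => lc k Q) 1
    simpa [lc_one] using this
  · apply le_sInf
    rintro X ⟨hQX, hX⟩
    exact iSup_le fun k => conj_le_of_subnormal hwc hX hQX k

/-- Let Q be a nontrivial p-subgroup of the finite group H that is a weakly closed subgroup and K a subgroup containing Q; let K° be the weak closure of Q in K (generated by the H-conjugates of Q inside K). Then K° is generated by the K-conjugates of Q, and K° is the subnormal closure of Q in K. -/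
theorem result {H : Type*} [Group H] [Finite H] {p : ℕ} [Fact p.Prime] (Q : Subgroup H) (hQp : IsPGroup p ↥Q) (hQ1 : Q ≠ ⊥) (hwc : Cfsg.IsWeaklyClosedSubgroup p Q) (K : Subgroup H) (hQK : Q ≤ K) (Kc : Subgroup H) (hKc : Kc = Cfsg.weakClosure Q K) : Kc = ⨆ k : ↥K, ((Q : Subgroup H).map (MulAut.conj ((k : H) : H)).toMonoidHom) ∧ Kc = (Cfsg.subnormalClosure (Q.subgroupOf K)).map K.subtype := by
  have h1 : Kc = ⨆ k : ↥K, lc (k : H) Q := by
    rw [hKc]
    apply le_antisymm
    · rw [weakClosure_le_iff]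
      intro g hg
      obtain ⟨k, hk, hgk⟩ := wc_conj_in hwc hQK hg
      rw [hgk]
      exact le_iSup (fun k : K => lc (k : H) Q) ⟨k, hk⟩
    · apply iSup_le
      intro k
      apply le_weakClosure
      calc lc (k : H) Q ≤ lc (k : H) K := lc_mono _ hQK
        _ = K := conj_smul_eq_of_mem k.2
  refine ⟨h1, ?_⟩
  have hwc' := (Cfsg.Agent.S2839.result Q hQp hQ1 hwc K hQK ⊥).1
  rw [subnormalClosure_eq hwc', Subgroup.map_iSup, h1]
  congr 1
  ext1 k
  rw [Cfsg.Agent.S2839.map_lc, Subgroup.map_subgroupOf_eq_of_le hQK]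
  rfl

end Cfsg.Agent.S2840
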