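import Cfsg.Statements.S2841
import Cfsg.Agent.Lib.Helper4_Syl

set_option autoImplicit false
open Cfsg

namespace Cfsg.Agent.S2841

open scoped Pointwise commutatorElement
open Cfsg.Agent.Lib.Helper4_Syl

variable {H : Type*} [Group H]

/-- A weakly closed subgroup is the only conjugate of itself in any `p`-subgroup containing it. -/
theorem weakly_closed_in_pgroup [Finite H] {p : ℕ} [Fact p.Prime] {Q : Subgroup H}
    (hwc : IsWeaklyClosedSubgroup p Q) {X : Subgroup H} (hX : IsPGroup p X) (hQX : Q ≤ X) {g : H}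
    (hg : MulAut.conj g • Q ≤ X) : MulAut.conj g • Q = Q := by
  obtain ⟨T, hQT, hT⟩ := hwc
  obtain ⟨T', hXT'⟩ := hX.exists_le_sylow
  obtain ⟨h, hh⟩ := MulAction.exists_smul_eq H T T'
  have hT' : (T' : Subgroup H) = MulAut.conj h • (T : Subgroup H) := by
    rw [← hh, Sylow.smul_def, Sylow.pointwise_smul_def]
  have h1 : MulAut.conj h⁻¹ • Q = Q := by
    apply hT h⁻¹
    show MulAut.conj h⁻¹ • Q ≤ T
    rw [conj_smul_le_iff, inv_inv, ← hT']
    exact hQX.trans hXT'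
  have h2 : MulAut.conj (h⁻¹ * g) • Q = Q := by
    apply hT (h⁻¹ * g)
    show MulAut.conj (h⁻¹ * g) • Q ≤ T
    rw [conj_mul_smul, conj_smul_le_iff, inv_inv, ← hT']
    exact hg.trans hXT'
  rw [conj_mul_smul] at h2
  have h3 : MulAut.conj g • Q = MulAut.conj h • Q := by
    conv_rhs => rw [← h2]
    rw [conj_smul_inv_smul]
  have h4 : MulAut.conj h • Q = Q := by
    conv_lhs => rw [← h1]
    rw [conj_smul_inv_smul]
  rw [h3, h4]

theorem conj_smul_commutator (a : H) (K Q : Subgroup H) :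
    MulAut.conj a • ⁅K, Q⁆ = ⁅MulAut.conj a • K, MulAut.conj a • Q⁆ :=
  Subgroup.map_commutator K Q (MulAut.conj a).toMonoidHom

theorem result {H : Type*} [Group H] [Finite H] {p : ℕ} [Fact p.Prime] (Q : Subgroup H) (hQp : IsPGroup p ↥Q) (hQ1 : Q ≠ ⊥) (hwc : Cfsg.IsWeaklyClosedSubgroup p Q) (N' : Subgroup H) [N'.Normal] : (∀ n : H, n ∈ N' → ∃ a ∈ N' ⊓ Subgroup.normalizer ((Q : Subgroup H) : Set H), ∃ b ∈ ⁅N', Q⁆, n = a * b) ∧ (∀ c : H, c ∈ ⁅N', Q⁆ → ∃ a ∈ Q ⊓ ⁅N', Q⁆, ∃ b ∈ ⁅⁅N', Q⁆, Q⁆, c = a * b) := by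
  set K := ⁅N', Q⁆ with hK
  have hKN : K ≤ N' := Subgroup.commutator_le_left N' Q
  have hQK : Q ≤ Subgroup.normalizer (K : Set H) := Subgroup.normalizer_commutator_ge_right _ _
  have hMset : ((K ⊔ Q : Subgroup H) : Set H) = (K : Set H) * (Q : Set H) :=
    Subgroup.coe_mul_of_right_le_normalizer_left K Q hQK
  have part1' : ∀ n : H, n ∈ N' → ∃ k ∈ K, ∃ a ∈ Subgroup.normalizer (Q : Set H), n = k * a := by
    intro n hn
    have hQn : MulAut.conj n • Q ≤ K ⊔ Q := by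
      intro y hy
      have hq : n⁻¹ * y * n ∈ Q := mem_conj_smul.1 hy
      have e : y = ⁅n, n⁻¹ * y * n⁆ * (n⁻¹ * y * n) := by
        rw [commutatorElement_def]; group
      rw [e]
      exact Subgroup.mul_mem _ ((le_sup_left : K ≤ K ⊔ Q) (Subgroup.commutator_mem_commutator hn hq))
        ((le_sup_right : Q ≤ K ⊔ Q) hq)
    obtain ⟨T₁, hT₁, hQT₁⟩ := exists_isSylIn_ge (le_sup_right : Q ≤ K ⊔ Q) hQp
    obtain ⟨T₂, hT₂, hQT₂⟩ := exists_isSylIn_ge hQn (isPGroup_conj hQp n)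
    obtain ⟨m, hm, hmT⟩ := hT₂.conj hT₁
    have h1 : MulAut.conj (m * n) • Q ≤ T₁ := by
      rw [conj_mul_smul, ← hmT]
      exact Subgroup.pointwise_smul_le_pointwise_smul_iff.2 hQT₂
    have h2 := weakly_closed_in_pgroup hwc hT₁.isPGroup hQT₁ h1
    rw [← mem_normalizer_iff_conj_smul] at h2
    have hm' : m⁻¹ ∈ ((K ⊔ Q : Subgroup H) : Set H) := (K ⊔ Q).inv_mem hm
    rw [hMset] at hm'
    obtain ⟨k, hk, q, hq, hkq⟩ := Set.mem_mul.1 hm'
    refine ⟨k, hk, q * (m * n), Subgroup.mul_mem _ (Subgroup.le_normalizer hq) h2, ?_⟩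
    rw [← mul_assoc, hkq]; group
  have part1 : ∀ n : H, n ∈ N' → ∃ a ∈ N' ⊓ Subgroup.normalizer ((Q : Subgroup H) : Set H), ∃ b ∈ K, n = a * b := by
    intro n hn
    obtain ⟨k, hk, a, ha, e⟩ := part1' n⁻¹ (N'.inv_mem hn)
    have e2 : n = a⁻¹ * k⁻¹ := by
      rw [← inv_inv n, e]; group
    refine ⟨a⁻¹, ⟨?_, Subgroup.inv_mem _ ha⟩, k⁻¹, K.inv_mem hk, e2⟩
    have : a⁻¹ = n * k := by rw [e2]; group
    rw [SetLike.mem_coe, this]
    exact N'.mul_mem hn (hKN hk)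
  refine ⟨part1, ?_⟩
  set K₂ := ⁅K, Q⁆ with hK₂
  have hDK₂ : Q ⊓ K ≤ Subgroup.normalizer (K₂ : Set H) :=
    inf_le_left.trans (Subgroup.normalizer_commutator_ge_right _ _)
  have hset : (((Q ⊓ K) ⊔ K₂ : Subgroup H) : Set H) = ((Q ⊓ K : Subgroup H) : Set H) * (K₂ : Set H) :=
    Subgroup.coe_mul_of_left_le_normalizer_right (Q ⊓ K) K₂ hDK₂
  have hle : K ≤ (Q ⊓ K) ⊔ K₂ := by
    rw [hK, Subgroup.commutator_le]
    intro n hn q hq
    obtain ⟨a, ⟨haN, haQ⟩, b, hb, rfl⟩ := part1 n hn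
    rw [commutatorElement_mul_left_eq_conj_mul]
    apply Subgroup.mul_mem
    · apply (le_sup_right : K₂ ≤ (Q ⊓ K) ⊔ K₂)
      have haQ' : MulAut.conj a • Q = Q := mem_normalizer_iff_conj_smul.1 haQ
      have haK : MulAut.conj a • K = K := by
        rw [hK, conj_smul_commutator, haQ', conj_smul_eq_of_normal]
      have haK₂ : MulAut.conj a • K₂ = K₂ := by
        rw [hK₂, conj_smul_commutator, haQ', haK]
      rw [← haK₂]
      exact conj_mem_conj_smul (Subgroup.commutator_mem_commutator hb hq)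
    · apply (le_sup_left : Q ⊓ K ≤ (Q ⊓ K) ⊔ K₂)
      refine ⟨?_, Subgroup.commutator_mem_commutator haN hq⟩
      rw [commutatorElement_def]
      exact Q.mul_mem ((Subgroup.mem_normalizer_iff.1 haQ q).1 hq) (Q.inv_mem hq)
  intro c hc
  have hc' : c ∈ (((Q ⊓ K) ⊔ K₂ : Subgroup H) : Set H) := hle hc
  rw [hset] at hc'
  obtain ⟨a, ha, b, hb, e⟩ := Set.mem_mul.1 hc'
  exact ⟨a, ha, b, hb, e.symm⟩

end Cfsg.Agent.S2841
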