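import Cfsg.Statements.S2843
import Cfsg.Agent.Lib.Helper4_WC3

set_option autoImplicit false
open Cfsg

namespace Cfsg.Agent.S2843

open scoped Pointwise commutatorElement
open Cfsg.Agent.Lib.Helper4_Syl Cfsg.Agent.Lib.Helper4_Control Cfsg.Agent.Lib.Helper4_Cop
  Cfsg.Agent.Lib.Helper4_WC Cfsg.Agent.Lib.Helper4_WC2 Cfsg.Agent.Lib.Helper4_WC3

/-- Let Q be a nontrivial large p-subgroup of the finite group H, Q ≤ L ≤ H, and Y a nontrivial p-subgroup of H normalized by L. Let L° be the weak closure of Q in L (generated by the conjugates of Q inside L). Then L° equals the weak closure of Q in L·C_H(Y), and [L°, C_H(Y)] ≤ O_p(L°); in particular C_H(Y) normalizes L°. -/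
theorem result {H : Type*} [Group H] [Finite H] {p : ℕ} [Fact p.Prime] (Q : Subgroup H) (hQp : IsPGroup p ↥Q) (hQ1 : Q ≠ ⊥) (hL : Cfsg.IsLarge Q) (L : Subgroup H) (hQL : Q ≤ L) (Y : Subgroup H) (hYp : IsPGroup p ↥Y) (hY1 : Y ≠ ⊥) (hLY : L ≤ Subgroup.normalizer ((Y : Subgroup H) : Set H)) : Cfsg.weakClosure Q L = Cfsg.weakClosure Q (L ⊔ Subgroup.centralizer ((Y : Subgroup H) : Set H)) ∧ ⁅Cfsg.weakClosure Q L, Subgroup.centralizer ((Y : Subgroup H) : Set H)⁆ ≤ (Cfsg.pCoreOf p (Cfsg.weakClosure Q L)) ∧ Subgroup.centralizer ((Y : Subgroup H) : Set H) ≤ Subgroup.normalizer (((Cfsg.weakClosure Q L) : Subgroup H) : Set H) := by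
  set C := Subgroup.centralizer ((Y : Subgroup H) : Set H) with hC
  have hwc := large_wc hQp hQ1 hL
  have hLC : L ≤ Subgroup.normalizer (C : Set H) := le_normalizer_centralizer' hLY
  have ha : ∀ g, lc g Q ≤ L → C ≤ Subgroup.normalizer ((lc g Q : Subgroup H) : Set H) := by
    intro g hg
    exact large_centralizer_le_normalizer (large_lc hL g) (isPGroup_lc hQp g) hYp hY1 (hg.trans hLY)
  have hCQ : C ≤ Subgroup.normalizer (Q : Set H) := by
    have := ha 1 (by rw [lc_one]; exact hQL)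
    rwa [lc_one] at this
  have hb : C ≤ Subgroup.normalizer ((Cfsg.weakClosure Q L : Subgroup H) : Set H) := by
    apply le_normalizer_of_conj_mem
    intro c hc m hm
    have h1 : Cfsg.weakClosure Q L ≤ lc c⁻¹ (Cfsg.weakClosure Q L) := by
      rw [weakClosure_le_iff]
      intro g hg
      rw [← lc_le_iff, mem_normalizer_iff_lc.1 (ha g hg hc)]
      exact le_weakClosure hg
    have h2 := mem_lc.1 (h1 hm)
    simpa using h2
  refine ⟨?_, ?_, hb⟩
  · apply le_antisymm
    · rw [weakClosure_le_iff]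
      intro g hg
      exact le_weakClosure (hg.trans le_sup_left)
    · rw [weakClosure_le_iff]
      intro g hg
      obtain ⟨k, hk, hgk⟩ := wc_conj_in hwc (hQL.trans le_sup_left) hg
      have hk' : k ∈ ((L ⊔ C : Subgroup H) : Set H) := hk
      rw [Subgroup.coe_mul_of_left_le_normalizer_right L C hLC] at hk'
      obtain ⟨l, hl, c, hc, rfl⟩ := Set.mem_mul.1 hk'
      rw [hgk, lc_mul, mem_normalizer_iff_lc.1 (hCQ hc)]
      apply le_weakClosure
      calc lc l Q ≤ lc l L := lc_mono l hQL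
        _ = L := conj_smul_eq_of_mem hl
  · set Oc := Cfsg.pCoreOf p C with hOc
    have hLOc : L ≤ Subgroup.normalizer (Oc : Set H) :=
      hLC.trans (normalizer_le_normalizer_pCoreOf p C)
    have h1 : Cfsg.weakClosure Q L ≤ stab2 C Oc := by
      rw [weakClosure_le_iff]
      intro g hg x hx
      refine ⟨hLC (hg hx), hLOc (hg hx), fun r hr => ?_⟩
      have h2 : lc g Q ⊓ C ≤ Oc :=
        le_pCoreOf inf_le_right ((isPGroup_lc hQp g).to_le inf_le_left)
          (le_normalizer_inf' (ha g hg) Subgroup.le_normalizer)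
      exact h2 (Subgroup.mem_inf.2 ⟨comm_mem_right (ha g hg hr) hx, comm_mem_left (hLC (hg hx)) hr⟩)
    have h3 : Oc ⊓ Cfsg.weakClosure Q L ≤ Cfsg.pCoreOf p (Cfsg.weakClosure Q L) :=
      le_pCoreOf inf_le_right ((pCoreOf_isPGroup p C).to_le inf_le_left)
        (le_normalizer_inf' ((weakClosure_le Q L).trans hLOc) Subgroup.le_normalizer)
    refine le_trans ?_ h3
    rw [Subgroup.commutator_le]
    intro x hx c hc
    exact Subgroup.mem_inf.2 ⟨(h1 hx).2.2 c hc, comm_mem_right (hb hc) hx⟩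

end Cfsg.Agent.S2843
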