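import Cfsg.Statements.S2844
import Cfsg.Agent.Lib.Helper4_WC

set_option autoImplicit false
open Cfsg

namespace Cfsg.Agent.S2844

open scoped Pointwise commutatorElement
open Cfsg.Agent.Lib.Helper4_Syl Cfsg.Agent.Lib.Helper4_Control Cfsg.Agent.Lib.Helper4_Cop
  Cfsg.Agent.Lib.Helper4_WC

/-- Let Q be a nontrivial large p-subgroup of the finite group H and Q• = O_p(N_H(Q)). Then for every g ∈ H outside N_H(Q): C_H(Q) ∩ C_H(gQg⁻¹) = 1, C_H(Q•) ∩ C_H(gQ•g⁻¹) = 1, Z(Q) ∩ Z(gQg⁻¹) = 1 and Z(Q•) ∩ Z(gQ•g⁻¹) = 1; moreover N_H(Q) = N_H(Q•) and Q• is large in H. -/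
theorem result {H : Type*} [Group H] [Finite H] {p : ℕ} [Fact p.Prime] (Q : Subgroup H) (hQp : IsPGroup p ↥Q) (hQ1 : Q ≠ ⊥) (hL : Cfsg.IsLarge Q) (Qb : Subgroup H) (hQb : Qb = Cfsg.largeBullet p Q) : (∀ g : H, g ∉ Subgroup.normalizer ((Q : Subgroup H) : Set H) → Subgroup.centralizer ((Q : Subgroup H) : Set H) ⊓ Subgroup.centralizer ((((Q : Subgroup H).map (MulAut.conj (g : H)).toMonoidHom) : Subgroup H) : Set H) = ⊥ ∧ Subgroup.centralizer ((Qb : Subgroup H) : Set H) ⊓ Subgroup.centralizer ((((Qb : Subgroup H).map (MulAut.conj (g : H)).toMonoidHom) : Subgroup H) : Set H) = ⊥ ∧ (Q ⊓ Subgroup.centralizer ((Q : Subgroup H) : Set H)) ⊓ (((Q : Subgroup H).map (MulAut.conj (g : H)).toMonoidHom) ⊓ Subgroup.centralizer ((((Q : Subgroup H).map (MulAut.conj (g : H)).toMonoidHom) : Subgroup H) : Set H)) = ⊥ ∧ (Qb ⊓ Subgroup.centralizer ((Qb : Subgroup H) : Set H)) ⊓ (((Qb : Subgroup H).map (MulAut.conj (g : H)).toMonoidHom) ⊓ Subgroup.centralizer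 ((((Qb : Subgroup H).map (MulAut.conj (g : H)).toMonoidHom) : Subgroup H) : Set H)) = ⊥) ∧ Subgroup.normalizer ((Q : Subgroup H) : Set H) = Subgroup.normalizer ((Qb : Subgroup H) : Set H) ∧ Cfsg.IsLarge Qb := by
  have hwc := large_wc hQp hQ1 hL
  have hQQb : Q ≤ Qb := by
    rw [hQb]
    exact le_pCoreOf Subgroup.le_normalizer hQp le_rfl
  have hQbp : IsPGroup p Qb := by
    rw [hQb]; exact pCoreOf_isPGroup p _
  have hCC : Subgroup.centralizer (Qb : Set H) ≤ Subgroup.centralizer (Q : Set H) :=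
    Subgroup.centralizer_le hQQb
  have hN : Subgroup.normalizer ((Q : Subgroup H) : Set H) = Subgroup.normalizer ((Qb : Subgroup H) : Set H) := by
    apply le_antisymm
    · rw [hQb]; exact le_normalizer_pCoreOf p _
    · exact wc_normalizer hwc hQbp hQQb
  refine ⟨fun g hg => ?_, hN, ?_⟩
  · have h1 : Subgroup.centralizer (Q : Set H) ⊓ Subgroup.centralizer ((lc g Q : Subgroup H) : Set H) = ⊥ :=
      large_centralizer_inf hQp hQ1 hL hg
    have hCC' : Subgroup.centralizer ((lc g Qb : Subgroup H) : Set H) ≤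
        Subgroup.centralizer ((lc g Q : Subgroup H) : Set H) :=
      Subgroup.centralizer_le (lc_mono g hQQb)
    refine ⟨h1, ?_, ?_, ?_⟩
    · exact le_bot_iff.1 ((inf_le_inf hCC hCC').trans h1.le)
    · exact le_bot_iff.1 ((inf_le_inf inf_le_right inf_le_right).trans h1.le)
    · exact le_bot_iff.1 ((inf_le_inf (inf_le_right.trans hCC) (inf_le_right.trans hCC')).trans h1.le)
  · refine ⟨hCC.trans (hL.1.trans hQQb), fun U hU hU1 => ?_⟩
    rw [← hN]
    exact hL.2 U (hU.trans hCC) hU1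

end Cfsg.Agent.S2844
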