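import Cfsg.Statements.S2845
import Cfsg.Agent.Lib.Helper4_WC3

set_option autoImplicit false
open Cfsg

namespace Cfsg.Agent.S2845

open scoped Pointwise commutatorElement
open Cfsg.Agent.Lib.Helper4_Syl Cfsg.Agent.Lib.Helper4_Control Cfsg.Agent.Lib.Helper4_Cop
  Cfsg.Agent.Lib.Helper4_WC Cfsg.Agent.Lib.Helper4_WC2 Cfsg.Agent.Lib.Helper4_WC3

/-- Let Q be a nontrivial large p-subgroup of the finite group H. Then for every subgroup L ≥ Q with O_p(L) ≠ 1, C_H(O_p(L)) is a p-group and L has characteristic p, and either the weak closure L° of Q in L equals Q or C_H(L°) = 1; for every subgroup R of H containing a Sylow p-subgroup of H with O_p(R) ≠ 1, C_H(O_p(R)) ≤ O_p(R); and H has parabolic characteristic p. -/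
theorem result {H : Type*} [Group H] [Finite H] {p : ℕ} [Fact p.Prime] (Q : Subgroup H) (hQp : IsPGroup p ↥Q) (hQ1 : Q ≠ ⊥) (hL : Cfsg.IsLarge Q) : (∀ L : Subgroup H, Q ≤ L → Cfsg.pCore p ↥L ≠ ⊥ → IsPGroup p ↥(Subgroup.centralizer (((Cfsg.pCoreOf p L) : Subgroup H) : Set H)) ∧ Subgroup.centralizer (Cfsg.pCore p ↥L : Set ↥L) ≤ Cfsg.pCore p ↥L ∧ (Cfsg.weakClosure Q L = Q ∨ Subgroup.centralizer (((Cfsg.weakClosure Q L) : Subgroup H) : Set H) = ⊥)) ∧ (∀ R : Subgroup H, Cfsg.IsParabolic p R → Cfsg.pCore p ↥R ≠ ⊥ → Subgroup.centralizer (((Cfsg.pCoreOf p R) : Subgroup H) : Set H) ≤ (Cfsg.pCoreOf p R)) ∧ Cfsg.IsOfParabolicCharacteristic p H := by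
  have part2 : ∀ R : Subgroup H, Cfsg.IsParabolic p R → Cfsg.pCore p ↥R ≠ ⊥ → Subgroup.centralizer (((Cfsg.pCoreOf p R) : Subgroup H) : Set H) ≤ (Cfsg.pCoreOf p R) := by
    rintro R ⟨T, hTR⟩ hO
    obtain ⟨c, hc⟩ := exists_lc_le (IsSylIn.of_sylow_top T) hQp
    have h1 := large_charp (isPGroup_lc hQp c) (lc_ne_bot hQ1) (large_lc hL c) (hc.trans hTR)
      (pCoreOf_ne_bot hO)
    have hRD : R ≤ Subgroup.normalizer
        ((Subgroup.centralizer (((Cfsg.pCoreOf p R) : Subgroup H) : Set H) : Subgroup H) : Set H) :=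
      le_normalizer_centralizer' (le_normalizer_pCoreOf p R)
    have h2 : IsPGroup p ((T : Subgroup H) ⊔
        Subgroup.centralizer (((Cfsg.pCoreOf p R) : Subgroup H) : Set H) : Subgroup H) :=
      IsPGroup.to_sup_of_normal_right' T.2 h1.1 (hTR.trans hRD)
    have h3 := T.3 h2 le_sup_left
    have h4 : Subgroup.centralizer (((Cfsg.pCoreOf p R) : Subgroup H) : Set H) ≤ R := by
      refine le_trans ?_ hTR
      calc Subgroup.centralizer (((Cfsg.pCoreOf p R) : Subgroup H) : Set H) ≤ _ := le_sup_right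
        _ = (T : Subgroup H) := h3
    exact le_pCoreOf h4 h1.1 hRD
  refine ⟨fun L hQL hO => ?_, part2, ?_⟩
  · have h1 := large_charp hQp hQ1 hL hQL (pCoreOf_ne_bot hO)
    refine ⟨h1.1, (charPSub_iff p L).2 h1.2, ?_⟩
    by_cases h : ∀ g, lc g Q ≤ L → lc g Q = Q
    · left
      apply le_antisymm
      · rw [weakClosure_le_iff]
        intro g hg
        exact (h g hg).le
      · exact self_le_weakClosure hQL
    · right
      push Not at h
      obtain ⟨g, hg, hne⟩ := h
      have hgN : g ∉ Subgroup.normalizer (Q : Set H) := by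
        rw [mem_normalizer_iff_lc]; exact hne
      have h2 := large_centralizer_inf hQp hQ1 hL hgN
      apply le_bot_iff.1
      rw [← h2]
      exact le_inf (Subgroup.centralizer_le (self_le_weakClosure hQL))
        (Subgroup.centralizer_le (le_weakClosure hg))
  · intro R hRp hR1 hpar
    rw [charPSub_iff]
    have hRO : R ≤ Cfsg.pCoreOf p (Subgroup.normalizer (R : Set H)) :=
      le_pCoreOf Subgroup.le_normalizer hRp le_rfl
    have hO : Cfsg.pCore p ↥(Subgroup.normalizer (R : Set H)) ≠ ⊥ := by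
      intro h
      apply hR1
      have : Cfsg.pCoreOf p (Subgroup.normalizer (R : Set H)) = ⊥ := by
        show Subgroup.map _ (Cfsg.pCore p ↥(Subgroup.normalizer (R : Set H))) = ⊥
        rw [h, Subgroup.map_bot]
      rw [this] at hRO
      exact le_bot_iff.1 hRO
    exact inf_le_right.trans (part2 _ hpar hO)

end Cfsg.Agent.S2845
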