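import Cfsg.Statements.S2848
import Cfsg.Agent.Lib.Helper4_PRed2
import Cfsg.Agent.S2839

set_option autoImplicit false
open Cfsg

namespace Cfsg.Agent.S2848

open scoped Pointwise commutatorElement
open Cfsg.Agent.Lib.Helper4_PRed Cfsg.Agent.Lib.Helper4_PRed2 Cfsg.Agent.Lib.Helper4_Syl
  Cfsg.Agent.Lib.Helper4_Cop Cfsg.Agent.Lib.Helper4_Core Cfsg.Agent.Lib.Helper4_WC2
  Cfsg.Agent.Lib.Helper4_Control Cfsg.Agent.Lib.Helper4_PIrr2 Cfsg.Agent.Lib.Helper4_WC

/-- for `M` with the basic property, `O_p(M) = C_S(Y_M)` -/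
theorem pCoreOf_eq {G : Type*} [Group G] [Finite G] {p : ℕ} [Fact p.Prime] {S M : Subgroup G}
    (hS : IsSylIn p S M)
    (hc : IsPClosed p ↥(M ⊓ Subgroup.centralizer (largestPReducedOf p M : Set G))) :
    pCoreOf p M = S ⊓ Subgroup.centralizer (largestPReducedOf p M : Set G) := by
  obtain ⟨hY, -⟩ := largestOf_spec p M
  apply le_antisymm
  · exact le_inf (pCoreOf_le_sylow hS) hY.pCoreOf_le
  · obtain ⟨P, hP, hN, hall⟩ := pclosed_sylow hc
    have hMK : M ≤ Subgroup.normalizer
        ((M ⊓ Subgroup.centralizer (largestPReducedOf p M : Set G) : Subgroup G) : Set G) :=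
      le_normalizer_inf' Subgroup.le_normalizer (le_normalizer_centralizer' hY.2.1)
    have h1 : S ⊓ Subgroup.centralizer (largestPReducedOf p M : Set G) ≤ P :=
      hall _ (inf_le_inf_right _ hS.le) (hS.isPGroup.to_le inf_le_left)
    exact h1.trans (le_pCoreOf (hP.le.trans inf_le_left) hP.isPGroup (hMK.trans hN))

/-- Standing hypotheses: G a finite group, S a Sylow p-subgroup, Q a nontrivial large p-subgroup of G contained in S (C_G(Q) ≤ Q and N_G(U) ≤ N_G(Q) for all nontrivial U ≤ C_G(Q)), and M a subgroup containing S with the basic property (M ∈ 𝔐_G(S)); Y_M denotes the largest p-reduced normal subgroup of M and M† = M·C_G(Y_M). Then O_p(M) is a weakly closed subgroup of M† (for p): it is the only M†-conjugate of itself inside some Sylow p-subgroup of M† containing it. -/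
theorem result {G : Type*} [Group G] [Finite G] {p : ℕ} [Fact p.Prime] (S : Sylow p G) (Q : Subgroup G) (hQp : IsPGroup p ↥Q) (hQ1 : Q ≠ ⊥) (hQS : Q ≤ (S : Subgroup G)) (hQ : Cfsg.IsLarge Q) (M : Subgroup G) (hSM : (S : Subgroup G) ≤ M) (hM : Cfsg.IsInFrakM p M) : Cfsg.IsWeaklyClosedSubgroup p (((Cfsg.pCoreOf p M)).subgroupOf (M ⊔ Subgroup.centralizer (((Cfsg.largestPReducedOf p M) : Subgroup G) : Set G))) := by
  obtain ⟨hY, -⟩ := largestOf_spec p M
  set Y := Cfsg.largestPReducedOf p M with hYdef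
  set C := Subgroup.centralizer (Y : Set G) with hC
  set Md := M ⊔ C with hMd
  have hSS : IsSylIn p (S : Subgroup G) ⊤ := IsSylIn.of_sylow_top S
  have hO : pCoreOf p M = (S : Subgroup G) ⊓ C := pCoreOf_eq (hSS.mono hSM le_top) hM.2.2.2.2.1
  have hSMd : (S : Subgroup G) ≤ Md := hSM.trans le_sup_left
  have hMdC : Md ≤ Subgroup.normalizer (C : Set G) :=
    sup_le (le_normalizer_centralizer' hY.2.1) Subgroup.le_normalizer
  obtain ⟨T, hT⟩ := (hSS.mono hSMd le_top).exists_sylow
  have hOMd : pCoreOf p M ≤ Md := (pCoreOf_le p M).trans le_sup_left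
  have hOm : ((pCoreOf p M).subgroupOf Md).map Md.subtype = pCoreOf p M :=
    Subgroup.map_subgroupOf_eq_of_le hOMd
  refine ⟨T, ?_, fun k hk => ?_⟩
  · intro x hx
    have h1 : (x : G) ∈ (S : Subgroup G) := by
      have : (x : G) ∈ pCoreOf p M := hx
      rw [hO] at this; exact this.1
    rw [← hT] at h1
    obtain ⟨y, hy, hyx⟩ := h1
    have : y = x := Subtype.ext hyx
    rw [← this]; exact hy
  · change lc k ((pCoreOf p M).subgroupOf Md) ≤ T at hk
    show lc k ((pCoreOf p M).subgroupOf Md) = (pCoreOf p M).subgroupOf Md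
    apply Subgroup.map_injective Md.subtype_injective
    rw [Cfsg.Agent.S2839.map_lc, hOm]
    have h1 := Subgroup.map_mono (f := Md.subtype) hk
    rw [Cfsg.Agent.S2839.map_lc, hOm, hT] at h1
    have h2 : lc (Md.subtype k) (pCoreOf p M) ≤ C := by
      calc lc (Md.subtype k) (pCoreOf p M) ≤ lc (Md.subtype k) C :=
            lc_mono _ (by rw [hO]; exact inf_le_right)
        _ = C := mem_normalizer_iff_lc.1 (hMdC k.2)
    have h3 : lc (Md.subtype k) (pCoreOf p M) ≤ pCoreOf p M := by
      conv_rhs => rw [hO]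
      exact le_inf h1 h2
    exact Subgroup.eq_of_le_of_card_ge h3 (by rw [card_lc])

end Cfsg.Agent.S2848
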