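import Cfsg.Statements.S2849
import Cfsg.Agent.Lib.Helper4_PRed2

set_option autoImplicit false
open Cfsg

namespace Cfsg.Agent.S2849

open scoped Pointwise commutatorElement
open Cfsg.Agent.Lib.Helper4_PRed Cfsg.Agent.Lib.Helper4_PRed2 Cfsg.Agent.Lib.Helper4_Syl
  Cfsg.Agent.Lib.Helper4_Cop Cfsg.Agent.Lib.Helper4_Core Cfsg.Agent.Lib.Helper4_WC2
  Cfsg.Agent.Lib.Helper4_Control Cfsg.Agent.Lib.Helper4_PIrr2 Cfsg.Agent.Lib.Helper4_WC

theorem comm_le_inf'' {G : Type*} [Group G] {A B : Subgroup G}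
    (hAB : A ≤ Subgroup.normalizer (B : Set G)) (hBA : B ≤ Subgroup.normalizer (A : Set G)) :
    ⁅A, B⁆ ≤ A ⊓ B := by
  rw [Subgroup.commutator_le]
  intro a ha b hb
  exact Subgroup.mem_inf.2 ⟨comm_mem_right (hBA hb) ha, comm_mem_left (hAB ha) hb⟩

/-- the join of a family of pairwise commuting conjugates of an elementary abelian group -/
theorem ea_iSup {G : Type*} [Group G] {p : ℕ} {Y K : Subgroup G} (hY : IsElementaryAbelian p Y)
    (hcomm : ∀ g ∈ K, ⁅Y, lc g Y⁆ = ⊥) : IsElementaryAbelian p (⨆ g : K, lc (g : G) Y) := by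
  set A := ⨆ g : K, lc (g : G) Y with hA
  have hpair : ∀ g h : K, lc (h : G) Y ≤ Subgroup.centralizer ((lc (g : G) Y : Subgroup G) : Set G) := by
    intro g h
    have h1 := hcomm ((h : G)⁻¹ * g) (K.mul_mem (K.inv_mem h.2) g.2)
    have h2 : ⁅lc (h : G) Y, lc (g : G) Y⁆ = ⊥ := by
      have := congrArg (lc (h : G)) h1
      rw [lc_commutator', ← lc_mul, lc_bot] at this
      simpa using this
    exact Subgroup.commutator_eq_bot_iff_le_centralizer.1 h2
  have hle : ∀ g : K, lc (g : G) Y ≤ A := fun g => le_iSup (fun g : K => lc (g : G) Y) g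
  have hAC : A ≤ Subgroup.centralizer (A : Set G) := by
    apply iSup_le
    intro g
    rw [Subgroup.le_centralizer_iff]
    apply iSup_le
    intro h
    exact hpair g h
  have hAW : A ≤ omegaOne p (A ⊓ Subgroup.centralizer (A : Set G)) := by
    apply iSup_le
    intro g x hx
    refine mem_omegaOne (Subgroup.mem_inf.2 ⟨hle g hx, hAC (hle g hx)⟩) ?_
    have := hY.2 _ (mem_lc.1 hx)
    have e : (g : G)⁻¹ * x * g = (g : G)⁻¹ * x * (g : G)⁻¹⁻¹ := by rw [inv_inv]
    rw [e, conj_pow] at this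
    have h2 : x ^ p = (g : G) * ((g : G)⁻¹ * x ^ p * (g : G)⁻¹⁻¹) * (g : G)⁻¹ := by group
    rw [h2, this]; group
  exact ea_mono (omega_ea p A) hAW

/-- Standing hypotheses: G a finite group, S a Sylow p-subgroup, Q a nontrivial large p-subgroup of G contained in S (C_G(Q) ≤ Q and N_G(U) ≤ N_G(Q) for all nontrivial U ≤ C_G(Q)), and M a subgroup containing S with the basic property (M ∈ 𝔐_G(S)); Y_M denotes the largest p-reduced normal subgroup of M and M† = M·C_G(Y_M). Suppose Y_M is asymmetric in G. Then for every subgroup R with Y_M ≤ R ≤ M†, the normal closure of Y_M in N_G(R) is elementary abelian. -/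
theorem result {G : Type*} [Group G] [Finite G] {p : ℕ} [Fact p.Prime] (S : Sylow p G) (Q : Subgroup G) (hQp : IsPGroup p ↥Q) (hQ1 : Q ≠ ⊥) (hQS : Q ≤ (S : Subgroup G)) (hQ : Cfsg.IsLarge Q) (M : Subgroup G) (hSM : (S : Subgroup G) ≤ M) (hM : Cfsg.IsInFrakM p M) (hasym : ¬ Cfsg.IsSymmetricIn (Cfsg.largestPReducedOf p M)) (R : Subgroup G) (hYR : (Cfsg.largestPReducedOf p M) ≤ R) (hRM : R ≤ (M ⊔ Subgroup.centralizer (((Cfsg.largestPReducedOf p M) : Subgroup G) : Set G))) : Cfsg.IsElementaryAbelian p ((Subgroup.normalClosure ((((Cfsg.largestPReducedOf p M)).subgroupOf (Subgroup.normalizer ((R : Subgroup G) : Set G)) : Subgroup ↥(Subgroup.normalizer ((R : Subgroup G) : Set G))) : Set ↥(Subgroup.normalizer ((R : Subgroup G) : Set G)))).map (Subgroup.normalizer ((R : Subgroup G) : Set G)).subtype) := by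
  obtain ⟨hY, -⟩ := largestOf_spec p M
  set Y := Cfsg.largestPReducedOf p M with hYdef
  set NR := Subgroup.normalizer ((R : Subgroup G) : Set G) with hNR
  have hMdY : M ⊔ Subgroup.centralizer (Y : Set G) ≤ Subgroup.normalizer (Y : Set G) :=
    sup_le hY.2.1 (Subgroup.centralizer_le_normalizer _)
  have hRY : R ≤ Subgroup.normalizer (Y : Set G) := hRM.trans hMdY
  have hcomm : ∀ g ∈ NR, ⁅Y, lc g Y⁆ = ⊥ := by
    intro g hg
    by_contra hne
    apply hasym
    refine ⟨g, hne, ?_⟩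
    have hgR := mem_normalizer_iff_lc.1 hg
    apply comm_le_inf''
    · calc Y ≤ R := hYR
        _ = lc g R := hgR.symm
        _ ≤ lc g (Subgroup.normalizer (Y : Set G)) := lc_mono g hRY
        _ = _ := (normalizer_lc g Y).symm
    · calc lc g Y ≤ lc g R := lc_mono g hYR
        _ = R := hgR
        _ ≤ _ := hRY
  have hEA := ea_iSup hY.2.2.1 hcomm
  refine ea_mono hEA ?_
  set A := ⨆ g : NR, lc (g : G) Y with hA
  have hNA : NR ≤ Subgroup.normalizer (A : Set G) := by
    apply le_normalizer_of_conj_mem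
    intro n hn m hm
    have h1 : lc n A ≤ A := by
      rw [hA, lc_eq_map, Subgroup.map_iSup]
      apply iSup_le
      intro k
      rw [← lc_eq_map, ← lc_mul]
      exact le_iSup (fun g : NR => lc (g : G) Y) ⟨n * k, NR.mul_mem hn k.2⟩
    exact h1 (conj_mem_lc hm)
  have hn : (A.subgroupOf NR).Normal := Subgroup.normal_subgroupOf_of_le_normalizer hNA
  have hYA : Y ≤ A := by
    have := le_iSup (fun g : NR => lc (g : G) Y) 1
    simpa [lc_one] using this
  have h2 : Subgroup.normalClosure ((Y.subgroupOf NR : Subgroup ↥NR) : Set ↥NR) ≤ A.subgroupOf NR := by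
    apply Subgroup.normalClosure_le_normal
    intro y hy
    exact hYA hy
  rintro _ ⟨x, hx, rfl⟩
  exact h2 hx

end Cfsg.Agent.S2849
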