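import Cfsg.Statements.S2872
import Cfsg.Agent.Lib.Helper7_TransferInv
import Cfsg.Agent.Lib.Helper7_Frat

set_option autoImplicit false
open Cfsg

namespace Cfsg.Agent.S2872

open Cfsg.Agent.Lib.Helper7_TransferInv Cfsg.Agent.Lib.Helper7_Frat Cfsg.Agent.Lib.Helper7_Max

/-- Let S be a Sylow 2-subgroup of the finite group G. Then G has a proper normal subgroup of 2-power index (O²(G) ≠ G), or Ω₁(Z(S)) is contained in the Frattini subgroup of S, or N_G(S) acts nontrivially on Ω₁(Z(S)) by conjugation. -/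
theorem result {G : Type*} [Group G] [Finite G] (S : Sylow 2 G) : Cfsg.pResidual 2 G ≠ ⊤ ∨ Cfsg.omegaOne 2 ((S : Subgroup G) ⊓ Subgroup.centralizer ((S : Subgroup G) : Set G)) ≤ (frattini ↥(S : Subgroup G)).map (S : Subgroup G).subtype ∨ ∃ g ∈ Subgroup.normalizer ((S : Subgroup G) : Set G), ∃ z ∈ Cfsg.omegaOne 2 ((S : Subgroup G) ⊓ Subgroup.centralizer ((S : Subgroup G) : Set G)), g * z * g⁻¹ ≠ z := by
  classical
  by_contra hcon
  push Not at hcon
  obtain ⟨h1, h2, h3⟩ := hcon
  haveI : Fact (Nat.Prime 2) := ⟨Nat.prime_two⟩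
  haveI := Fintype.ofFinite (G ⧸ (S : Subgroup G))
  obtain ⟨z, ⟨hzS, hzC⟩, hz2, hzΦ⟩ : ∃ z, z ∈ (S : Subgroup G) ⊓ Subgroup.centralizer ((S : Subgroup G) : Set G) ∧
      z ^ 2 = 1 ∧ z ∉ (frattini ↥(S : Subgroup G)).map (S : Subgroup G).subtype := by
    by_contra hc
    push Not at hc
    apply h2
    unfold Cfsg.omegaOne
    rw [Subgroup.closure_le]
    rintro x ⟨hx, hx2⟩
    exact hc x hx hx2
  have hzΩ : z ∈ Cfsg.omegaOne 2 ((S : Subgroup G) ⊓ Subgroup.centralizer ((S : Subgroup G) : Set G)) :=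
    Subgroup.subset_closure ⟨⟨hzS, hzC⟩, hz2⟩
  have hzz : z * z = 1 := by rw [← sq]; exact hz2
  have hnle : ¬ (Subgroup.zpowers (⟨z, hzS⟩ : ↥(S : Subgroup G))) ≤ frattini ↥(S : Subgroup G) := by
    intro h
    apply hzΦ
    exact ⟨⟨z, hzS⟩, h (Subgroup.mem_zpowers _), rfl⟩
  obtain ⟨T, hT, hzT⟩ := exists_coatom_not_le hnle
  have hzT' : (⟨z, hzS⟩ : ↥(S : Subgroup G)) ∉ T := fun h => hzT (Subgroup.zpowers_le.mpr h)
  haveI hnil : Group.IsNilpotent ↥(S : Subgroup G) := S.isPGroup'.isNilpotent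
  have hall : ∀ H : Subgroup ↥(S : Subgroup G), IsCoatom H → H.Normal :=
    ((Group.isNilpotent_of_finite_tfae (G := ↥(S : Subgroup G))).out 0 2).mp hnil
  haveI hTn : T.Normal := hall T hT
  have hTi : T.index = 2 := by
    have hp := index_prime_of_isCoatom_normal T hT
    obtain ⟨n, hn⟩ := IsPGroup.iff_card.mp S.isPGroup'
    have hd := T.index_dvd_card
    rw [hn] at hd
    exact (Nat.prime_dvd_prime_iff_eq hp Nat.prime_two).mp (hp.dvd_of_dvd_pow hd)
  have c1 : Nat.card (↥(S : Subgroup G) ⧸ T) = 2 := hTi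
  have c2 : Nat.card ℤˣ = 2 := by rw [Nat.card_eq_fintype_card, Fintype.card_units_int]
  let e := mulEquivOfPrimeCardEq c1 c2
  let ψ : ↥(S : Subgroup G) →* ℤˣ := e.toMonoidHom.comp (QuotientGroup.mk' T)
  have hψ : ∀ x, ψ x = 1 ↔ x ∈ T := by
    intro x
    show e (QuotientGroup.mk' T x) = 1 ↔ _
    rw [EmbeddingLike.map_eq_one_iff]
    exact QuotientGroup.eq_one_iff x
  set V := MonoidHom.transfer ψ with hVdef
  have hV : ∀ g, V g = 1 := by
    intro g
    have hg : g ∈ Cfsg.pResidual 2 G := h1 ▸ Subgroup.mem_top g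
    have hle : Cfsg.pResidual 2 G ≤ V.ker := by
      unfold Cfsg.pResidual
      rw [Subgroup.closure_le]
      intro x hx
      have hx' : Nat.Coprime (orderOf x) 2 := hx
      rw [SetLike.mem_coe, MonoidHom.mem_ker]
      have e1 : (V x) ^ (orderOf x) = 1 := by rw [← map_pow, pow_orderOf_eq_one, map_one]
      have e2 : (V x) ^ 2 = 1 := by
        rcases Int.units_eq_one_or (V x) with h | h <;> rw [h] <;> simp
      have d1 := orderOf_dvd_of_pow_eq_one e1
      have d2 := orderOf_dvd_of_pow_eq_one e2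
      exact orderOf_eq_one_iff.mp (Nat.eq_one_of_dvd_coprimes hx' d1 d2)
    exact hle hg
  -- the function F
  let F : G ⧸ (S : Subgroup G) → ℤˣ := fun q =>
    if h : (q.out)⁻¹ * z * q.out ∈ (S : Subgroup G) then ψ ⟨_, h⟩ else 1
  have hF1 : ∀ (g : G) (h : g⁻¹ * z * g ∈ (S : Subgroup G)),
      F (g : G ⧸ (S : Subgroup G)) = ψ ⟨g⁻¹ * z * g, h⟩ := by
    intro g h
    obtain ⟨s, hs⟩ := QuotientGroup.mk_out_eq_mul (S : Subgroup G) g
    have h' : ((g : G ⧸ (S : Subgroup G)).out)⁻¹ * z * (g : G ⧸ (S : Subgroup G)).out ∈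
        (S : Subgroup G) := by
      rw [hs]
      have : (g * (s : G))⁻¹ * z * (g * s) = (s : G)⁻¹ * (g⁻¹ * z * g) * s := by group
      rw [this]
      exact Subgroup.mul_mem _ (Subgroup.mul_mem _ (Subgroup.inv_mem _ s.2) h) s.2
    show (if h : _ then ψ ⟨_, h⟩ else 1) = _
    rw [dif_pos h']
    have : (⟨((g : G ⧸ (S : Subgroup G)).out)⁻¹ * z * (g : G ⧸ (S : Subgroup G)).out, h'⟩ :
        ↥(S : Subgroup G)) = s⁻¹ * ⟨g⁻¹ * z * g, h⟩ * s := by
      apply Subtype.ext
      simp only [Subgroup.coe_mul, Subgroup.coe_inv]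
      rw [hs]; group
    rw [this, map_mul, map_mul, map_inv, mul_comm, mul_inv_cancel_left]
  have hF2 : ∀ g : G, g⁻¹ * z * g ∉ (S : Subgroup G) → F (g : G ⧸ (S : Subgroup G)) = 1 := by
    intro g h
    obtain ⟨s, hs⟩ := QuotientGroup.mk_out_eq_mul (S : Subgroup G) g
    have h' : ¬ ((g : G ⧸ (S : Subgroup G)).out)⁻¹ * z * (g : G ⧸ (S : Subgroup G)).out ∈
        (S : Subgroup G) := by
      rw [hs]
      intro h0
      apply h
      have : g⁻¹ * z * g = (s : G) * ((g * (s : G))⁻¹ * z * (g * s)) * (s : G)⁻¹ := by group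
      rw [this]
      exact Subgroup.mul_mem _ (Subgroup.mul_mem _ s.2 h0) (Subgroup.inv_mem _ s.2)
    show (if h : _ then ψ ⟨_, h⟩ else 1) = _
    rw [dif_neg h']
  have hVz : V z = ∏ q : G ⧸ (S : Subgroup G), F q := transfer_invol ψ z hzz F hF1 hF2
  -- invariance
  have hinv : ∀ (s : ↥(S : Subgroup G)) (q : G ⧸ (S : Subgroup G)), F (s • q) = F q := by
    intro s q
    induction q using QuotientGroup.induction_on with
    | H g =>
      have e0 : s • (g : G ⧸ (S : Subgroup G)) = (((s : G) * g : G) : G ⧸ (S : Subgroup G)) := rfl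
      have e1 : ((s : G) * g)⁻¹ * z * ((s : G) * g) = g⁻¹ * z * g := by
        have := (Subgroup.mem_centralizer_iff.mp hzC) s s.2
        calc ((s : G) * g)⁻¹ * z * ((s : G) * g) = g⁻¹ * (s : G)⁻¹ * (z * (s : G)) * g := by group
          _ = g⁻¹ * (s : G)⁻¹ * ((s : G) * z) * g := by rw [this]
          _ = g⁻¹ * z * g := by group
      rw [e0]
      by_cases h : g⁻¹ * z * g ∈ (S : Subgroup G)
      · rw [hF1 g h, hF1 _ (by rw [e1]; exact h)]
        congr 1
        exact Subtype.ext e1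
      · rw [hF2 g h, hF2 _ (by rw [e1]; exact h)]
  let X : SubMulAction ↥(S : Subgroup G) (G ⧸ (S : Subgroup G)) :=
    { carrier := {q | F q ≠ 1}
      smul_mem' := fun s q hq => by
        show F (s • q) ≠ 1
        rw [hinv]; exact hq }
  have hfixX : ∀ q ∈ MulAction.fixedPoints ↥(S : Subgroup G) (G ⧸ (S : Subgroup G)), q ∈ X := by
    intro q hq
    induction q using QuotientGroup.induction_on with
    | H g =>
      rw [Sylow.mem_fixedPoints_mul_left_cosets_iff_mem_normalizer] at hq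
      have h4 := h3 g⁻¹ (Subgroup.inv_mem _ hq) z hzΩ
      rw [inv_inv] at h4
      show F _ ≠ 1
      rw [hF1 g (by rw [h4]; exact hzS)]
      intro h5
      rw [hψ] at h5
      apply hzT'
      convert h5 using 1
      exact Subtype.ext h4.symm
  have m1 := S.isPGroup'.card_modEq_card_fixedPoints (G ⧸ (S : Subgroup G))
  have m2 := S.isPGroup'.card_modEq_card_fixedPoints X
  have m3 : Nat.card (MulAction.fixedPoints ↥(S : Subgroup G) X) =
      Nat.card (MulAction.fixedPoints ↥(S : Subgroup G) (G ⧸ (S : Subgroup G))) := by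
    apply Nat.card_congr
    exact
      { toFun := fun q => ⟨q.1.1, fun s => congrArg Subtype.val (q.2 s)⟩
        invFun := fun q => ⟨⟨q.1, hfixX q.1 q.2⟩, fun s => Subtype.ext (q.2 s)⟩
        left_inv := fun q => rfl
        right_inv := fun q => rfl }
  have hodd : Odd (Nat.card X) := by
    rw [m3] at m2
    have m4 := m2.trans m1.symm
    have h5 : Odd (Nat.card (G ⧸ (S : Subgroup G))) := by
      rw [← Nat.not_even_iff_odd, even_iff_two_dvd]
      exact S.not_dvd_index
    rw [Nat.odd_iff] at h5 ⊢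
    rw [← h5]; exact m4
  have hprod : ∏ q : G ⧸ (S : Subgroup G), F q = (-1) ^ (Nat.card X) := by
    rw [← Finset.prod_filter_ne_one]
    have e1 : ∀ q ∈ Finset.univ.filter (fun q => F q ≠ 1), F q = -1 := by
      intro q hq
      rw [Finset.mem_filter] at hq
      rcases Int.units_eq_one_or (F q) with h | h
      · exact absurd h hq.2
      · exact h
    rw [Finset.prod_congr rfl e1, Finset.prod_const]
    congr 1
    rw [Nat.card_eq_fintype_card]
    symm
    apply Fintype.card_of_subtype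
    intro q
    rw [Finset.mem_filter]
    simp only [Finset.mem_univ, true_and]
    rfl
  rw [hV z, hprod, hodd.neg_one_pow] at hVz
  exact absurd hVz (by decide)

end Cfsg.Agent.S2872
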