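import Cfsg.Statements.S2881
import Cfsg.Agent.Lib.Helper4_Extra

set_option autoImplicit false
open Cfsg

namespace Cfsg.Agent.S2881



/-- Let E be an extraspecial 2-group of order 2^(2m+1) of plus type (containing an elementary abelian subgroup of order 2^(m+1)), and let ω be an automorphism of E of order 5 whose fixed points are exactly the centre of E. Then m is divisible by 4. -/
theorem result {E : Type*} [Group E] [Finite E] (m : ℕ) (hm : 1 ≤ m) (hE : Cfsg.IsExtraspecial 2 E) (hcard : Nat.card E = 2 ^ (2 * m + 1)) (hplus : ∃ A : Subgroup E, Cfsg.IsElementaryAbelian 2 A ∧ Nat.card A = 2 ^ (m + 1)) (ω : E ≃* E) (hω : orderOf ω = 5) (hfix : ∀ x : E, ω x = x ↔ x ∈ Subgroup.center E) : 4 ∣ m := by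
  classical
  have hc := Cfsg.Agent.Lib.Helper4_Extra.card_order_four m hE hcard hplus
  haveI := Fintype.ofFinite E
  haveI : Fact (Nat.Prime 5) := ⟨by norm_num⟩
  have hZ2 : ∀ x ∈ Subgroup.center E, x ^ 2 = 1 := by
    intro x hx
    have := congrArg Subtype.val (pow_card_eq_one' (G := Subgroup.center E) (x := ⟨x, hx⟩))
    rw [hE.2] at this
    simpa using this
  let f : Function.End {x : E // orderOf x = 4} := fun x => ⟨ω x, by
    rw [MulEquiv.orderOf_eq]; exact x.2⟩
  have hfpow : ∀ (k : ℕ) (x : {x : E // orderOf x = 4}), (((f ^ k) x : {x : E // orderOf x = 4}) : E)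
      = (ω ^ k) x := by
    intro k
    induction k with
    | zero => intro x; rfl
    | succ k ih =>
      intro x
      rw [pow_succ', pow_succ']
      show ω (((f ^ k) x : {x : E // orderOf x = 4}) : E) = ω ((ω ^ k) x)
      rw [ih]
  have hf5 : f ^ 5 ^ 1 = 1 := by
    funext x
    apply Subtype.ext
    rw [pow_one, hfpow, ← hω, pow_orderOf_eq_one]
    rfl
  have h1 := Equiv.Perm.card_fixedPoints_modEq hf5
  have h2 : Fintype.card (Function.fixedPoints f) = 0 := by
    rw [Fintype.card_eq_zero_iff]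
    constructor
    rintro ⟨x, hx⟩
    have h3 : ω (x : E) = x := congrArg Subtype.val hx
    have h4 := hZ2 _ ((hfix _).1 h3)
    have h5 := orderOf_dvd_of_pow_eq_one h4
    rw [x.2] at h5
    omega
  rw [h2, ← Nat.card_eq_fintype_card, hc] at h1
  have h6 : 5 ∣ 2 ^ (2 * m) - 2 ^ m := (Nat.modEq_zero_iff_dvd).1 h1
  have h7 : 2 ^ (2 * m) - 2 ^ m = 2 ^ m * (2 ^ m - 1) := by
    rw [Nat.mul_sub, mul_one, ← pow_add]; congr 2; omega
  rw [h7] at h6
  have h8 : 5 ∣ 2 ^ m - 1 := by
    refine (Nat.Coprime.dvd_mul_left ?_).1 h6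
    exact Nat.Coprime.pow_right m (by norm_num)
  have h9 : 2 ^ m % 5 = 2 ^ (m % 4) % 5 := by
    conv_lhs => rw [← Nat.div_add_mod m 4, pow_add, pow_mul, Nat.mul_mod, Nat.pow_mod]
    norm_num
  have h10 : 2 ^ m % 5 = 1 := by
    have : 1 ≤ 2 ^ m := Nat.one_le_two_pow
    omega
  rw [h9] at h10
  have h11 : m % 4 < 4 := Nat.mod_lt _ (by norm_num)
  have h12 : m % 4 = 0 := by
    interval_cases (m % 4) <;> simp_all
  exact Nat.dvd_of_mod_eq_zero h12

end Cfsg.Agent.S2881
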