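import Mathlib
import Cfsg.Agent.S3309
import Cfsg.Statements.S2911

set_option autoImplicit false
open Cfsg

namespace Cfsg.Agent.S2911


open Cfsg.Agent.S3309

/-- A finite group whose Sylow 2-subgroups are isomorphic to the direct product of a group of order 2 and a dihedral group of order 8 has a subgroup of index two. -/
theorem result {G : Type*} [Group G] [Finite G] (S : Sylow 2 G) (hS : Nonempty (↥(S : Subgroup G) ≃* Multiplicative (ZMod 2) × DihedralGroup 4)) : ∃ H : Subgroup G, H.index = 2 := by
  classical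
  obtain ⟨e⟩ := hS
  have := Fact.mk Nat.prime_two
  let f : Multiplicative (ZMod 2) × DihedralGroup 4 →* G :=
    (S : Subgroup G).subtype.comp e.symm.toMonoidHom
  have hf : Function.Injective f := by
    intro a b hab
    exact e.symm.injective (Subtype.ext hab)
  have hfS : ∀ x, f x ∈ (S : Subgroup G) := fun x => (e.symm x).2
  have hSf : ∀ s ∈ (S : Subgroup G), ∃ x, f x = s := by
    intro s hs
    refine ⟨e ⟨s, hs⟩, ?_⟩
    show ((e.symm (e ⟨s, hs⟩) : (S : Subgroup G)) : G) = s
    rw [e.symm_apply_apply]
  obtain ⟨z, hz⟩ : ∃ z, z = f (Multiplicative.ofAdd 1, 1) := ⟨_, rfl⟩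
  obtain ⟨c, hc⟩ : ∃ c, c = f (1, DihedralGroup.r 2) := ⟨_, rfl⟩
  let fM : DihedralGroup 4 →* G := f.comp (MonoidHom.inr _ _)
  have hfM : Function.Injective fM := by
    intro a b hab
    have := hf hab
    simpa using this
  obtain ⟨M, hM⟩ : ∃ M : Subgroup G, M = fM.range := ⟨_, rfl⟩
  have hMS : M ≤ (S : Subgroup G) := by
    rw [hM]
    rintro _ ⟨d, rfl⟩
    exact hfS _
  have hcardM : Nat.card M = 8 := by
    rw [hM, Nat.card_congr (MonoidHom.ofInjective hfM).symm.toEquiv, DihedralGroup.nat_card]
  have hcardS : Nat.card (S : Subgroup G) = 16 := by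
    rw [Nat.card_congr e.toEquiv, Nat.card_prod, DihedralGroup.nat_card]
    simp
  have hz1 : z ≠ 1 := by
    rw [hz]
    intro h
    exact fact4 (hf (h.trans (map_one f).symm))
  have hzz : z * z = 1 := by
    rw [hz, ← map_mul, fact5, map_one]
  have hzS : ∀ s ∈ (S : Subgroup G), z * s = s * z := by
    intro s hs
    obtain ⟨x, rfl⟩ := hSf s hs
    rw [hz, ← map_mul, ← map_mul, fact1]
  have hcS : ∀ s ∈ (S : Subgroup G), c * s = s * c := by
    intro s hs
    obtain ⟨x, rfl⟩ := hSf s hs
    rw [hc, ← map_mul, ← map_mul, fact1']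
  have hzsq : ∀ s ∈ (S : Subgroup G), s * s ≠ z := by
    intro s hs h
    obtain ⟨x, rfl⟩ := hSf s hs
    rw [hz, ← map_mul] at h
    exact fact2 x (hf h)
  have hcsq : ∃ a ∈ (S : Subgroup G), a * a = c := by
    refine ⟨f (1, DihedralGroup.r 1), hfS _, ?_⟩
    rw [hc, ← map_mul, fact6]
  -- z is not conjugate to c
  have hzc : ∀ g : G, g⁻¹ * c * g ≠ z := by
    intro g hg
    have h1 : c ∈ Subgroup.centralizer ((S : Subgroup G) : Set G) := by
      rw [Subgroup.mem_centralizer_iff]
      intro s hs
      exact (hcS s hs).symm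
    have h2 : g⁻¹ * c * g ∈ Subgroup.centralizer ((S : Subgroup G) : Set G) := by
      rw [hg, Subgroup.mem_centralizer_iff]
      intro s hs
      exact (hzS s hs).symm
    obtain ⟨n, hn, hn2⟩ := S.conj_eq_normalizer_conj_of_mem_centralizer c g h1 h2
    obtain ⟨a, ha, haa⟩ := hcsq
    have hn' : n⁻¹ ∈ Subgroup.normalizer ((S : Subgroup G) : Set G) := inv_mem hn
    have h3 : n⁻¹ * a * n ∈ (S : Subgroup G) := by
      have := (Subgroup.mem_normalizer_iff.1 hn' a).1 ha
      simpa using this
    apply hzsq _ h3
    rw [← hg, hn2, ← haa]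
    group
  -- central elements of M
  have hZM : ∀ v ∈ M, (∀ m ∈ M, v * m = m * v) → v = 1 ∨ v = c := by
    intro v hv hcomm
    rw [hM] at hv
    obtain ⟨d, rfl⟩ := hv
    have : ∀ d', d * d' = d' * d := by
      intro d'
      apply hfM
      rw [map_mul, map_mul]
      apply hcomm
      rw [hM]
      exact ⟨d', rfl⟩
    rcases fact3 d this with rfl | rfl
    · left; exact map_one _
    · right; rw [hc]; rfl
  -- the action on G ⧸ M
  have : Fintype (G ⧸ M) := Fintype.ofFinite _
  obtain ⟨σ, hσdef⟩ : ∃ σ : Equiv.Perm (G ⧸ M), σ = MulAction.toPermHom G (G ⧸ M) z := ⟨_, rfl⟩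
  have hσ : σ ^ 2 = 1 := by
    rw [hσdef, ← map_pow, pow_two, hzz, map_one]
  have hσx : ∀ x, σ x = z • x := by
    intro x
    rw [hσdef]
    rfl
  have hF4 : 4 ∣ Nat.card (Function.fixedPoints σ) := by
    apply dvd_card_invariant (S := (S : Subgroup G))
    · intro s x hx
      have hx' : z • x = x := by rw [← hσx]; exact hx
      show σ (s • x) = s • x
      rw [hσx]
      calc z • (s • x) = (z * (s:G)) • x := by rw [mul_smul]; rfl
        _ = ((s:G) * z) • x := by rw [hzS s s.2]
        _ = s • x := by rw [mul_smul, hx']; rfl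
    · intro x hx
      obtain ⟨g, rfl⟩ := QuotientGroup.mk_surjective x
      have hx' : z • (g : G ⧸ M) = g := by rw [← hσx]; exact hx
      have hv : g⁻¹ * z * g ∈ M := by
        have : ((z * g : G) : G ⧸ M) = g := hx'
        rw [QuotientGroup.eq] at this
        have := inv_mem this
        simpa [mul_assoc] using this
      obtain ⟨K, hK⟩ : ∃ K, K = MulAction.stabilizer (S : Subgroup G) (g : G ⧸ M) := ⟨_, rfl⟩
      rw [← hK]
      obtain ⟨C, hC⟩ : ∃ C : Subgroup G, C = M ⊓ Subgroup.centralizer {g⁻¹ * z * g} := ⟨_, rfl⟩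
      have hCle : C ≤ M := hC ▸ inf_le_left
      have hCM : C ≠ M := by
        intro h
        have : ∀ m ∈ M, (g⁻¹ * z * g) * m = m * (g⁻¹ * z * g) := by
          intro m hm
          have : m ∈ C := h ▸ hm
          rw [hC] at this
          exact (Subgroup.mem_centralizer_singleton_iff.1 this.2).symm
        rcases hZM _ hv this with h1 | h1
        · apply hz1
          have : z = g * (g⁻¹ * z * g) * g⁻¹ := by group
          rw [this, h1]; group
        · apply hzc g⁻¹
          rw [← h1]; group
      have hC4 : Nat.card C ≤ 4 := by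
        have h1 : Nat.card C ∣ 8 := hcardM ▸ Subgroup.card_dvd_of_le hCle
        have h2 : Nat.card C ≠ 8 := by
          intro h
          apply hCM
          exact Subgroup.eq_of_le_of_card_ge hCle (by rw [hcardM, h])
        have h3 := Nat.le_of_dvd (by norm_num) h1
        interval_cases h : Nat.card C <;> omega
      have hK4 : Nat.card K ≤ 4 := by
        refine le_trans ?_ hC4
        have hmem : ∀ k : K, g⁻¹ * ((k : (S : Subgroup G)) : G) * g ∈ C := by
          intro k
          have hk : (k : (S : Subgroup G)) • (g : G ⧸ M) = g := by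
            have h7 : ∀ y ∈ K, y • (g : G ⧸ M) = g := by
              intro y hy
              rw [hK] at hy
              exact hy
            exact h7 _ k.2
          have hk' : (((k : (S : Subgroup G)) : G) * g : G) = (g : G ⧸ M) := hk
          rw [QuotientGroup.eq] at hk'
          have h5 := inv_mem hk'
          rw [hC]
          refine Subgroup.mem_inf.2 ⟨by simpa [mul_assoc] using h5, ?_⟩
          rw [Subgroup.mem_centralizer_singleton_iff]
          have h6 := hzS _ (k : (S : Subgroup G)).2
          calc g⁻¹ * ((k : (S : Subgroup G)) : G) * g * (g⁻¹ * z * g)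
              = g⁻¹ * (((k : (S : Subgroup G)) : G) * z) * g := by group
            _ = g⁻¹ * (z * ((k : (S : Subgroup G)) : G)) * g := by rw [h6]
            _ = _ := by group
        refine Nat.card_le_card_of_injective (fun k => ⟨g⁻¹ * ((k : (S : Subgroup G)) : G) * g, hmem k⟩) ?_
        intro a b hab
        have := congrArg Subtype.val hab
        simp only [mul_left_inj, mul_right_inj] at this
        exact Subtype.ext (Subtype.ext this)
      have h16 : K.index * Nat.card K = 16 := by rw [← hcardS]; exact K.index_mul_card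
      have hpos : 0 < Nat.card K := Nat.card_pos
      interval_cases h : Nat.card K <;> omega
  have hsign : Equiv.Perm.sign σ = -1 := by
    rw [Equiv.Perm.sign_of_pow_two_eq_one hσ, ← Nat.card_eq_fintype_card,
      ← Nat.card_eq_fintype_card]
    have h1 : Nat.card (G ⧸ M) = M.index := rfl
    have h2 : M.index = 2 * (S : Subgroup G).index := by
      have a1 := M.index_mul_card
      have a2 := (S : Subgroup G).index_mul_card
      rw [hcardM] at a1; rw [hcardS] at a2
      omega
    have h3 : Odd (S : Subgroup G).index := by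
      rw [← Nat.not_even_iff_odd, even_iff_two_dvd]; exact S.not_dvd_index
    have h4 : Nat.card (Function.fixedPoints σ) ≤ Nat.card (G ⧸ M) :=
      Nat.card_le_card_of_injective _ Subtype.val_injective
    obtain ⟨k, hk⟩ := hF4
    obtain ⟨j, hj⟩ := h3
    apply Odd.neg_one_pow
    rw [h1, h2, hj, hk]
    rw [h1, h2, hj, hk] at h4
    exact ⟨j - k, by omega⟩
  let ψ : G →* ℤˣ := Equiv.Perm.sign.comp (MulAction.toPermHom G (G ⧸ M))
  have hψz : ψ z = -1 := by
    show Equiv.Perm.sign (MulAction.toPermHom G (G ⧸ M) z) = -1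
    rw [← hσdef, hsign]
  refine ⟨ψ.ker, ?_⟩
  rw [Subgroup.index_ker]
  have hrange : ψ.range = ⊤ := by
    rw [eq_top_iff]
    intro u _
    rcases Int.units_eq_one_or u with rfl | rfl
    · exact Subgroup.one_mem _
    · exact ⟨z, hψz⟩
  rw [hrange, Nat.card_congr Subgroup.topEquiv.toEquiv]
  simp

end Cfsg.Agent.S2911
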