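import Cfsg.Statements.S2924
import Mathlib
import Cfsg.Agent.Lib.Helper4_NoComp

set_option autoImplicit false
open Cfsg

namespace Cfsg.Agent.S2924

open Subgroup Cfsg.Agent.Lib.Helper3_Core Cfsg.Agent.Lib.Helper3_Comp Cfsg.Agent.Lib.Helper3_PComp
  Cfsg.Agent.Lib.Helper3_Local Cfsg.Agent.Lib.Helper3_Bal Cfsg.Agent.Lib.Helper4_CharP
  Cfsg.Agent.Lib.Helper4_CharP2 Cfsg.Agent.Lib.Helper4_NoComp

universe u

theorem le_core {X : Type u} [Group X] [Finite X] {p : ℕ} {a : X} {D : Subgroup X}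
    (h1 : D ≤ centralizer {a}) (h2 : centralizer {a} ≤ normalizer (D : Set X))
    (h3 : (Nat.card D).Coprime p) : D ≤ Cfsg.centralizerPPrimeCore p a := by
  have hn : (D.subgroupOf (centralizer {a})).Normal :=
    (Subgroup.normal_subgroupOf_iff_le_normalizer h1).2 h2
  have h4 : D.subgroupOf (centralizer {a}) ≤ Cfsg.pPrimeCore p (centralizer ({a} : Set X)) := by
    apply subnormal_le_pPrimeCore hn.isSubnormal
    rw [Nat.card_congr (Subgroup.subgroupOfEquivOfLe h1).toEquiv]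
    exact h3
  intro d hd
  exact ⟨⟨d, h1 hd⟩, h4 hd, rfl⟩

theorem core_conj {X : Type u} [Group X] [Finite X] (p : ℕ) (g a : X) :
    ∀ t ∈ Cfsg.centralizerPPrimeCore p a, g * t * g⁻¹ ∈ Cfsg.centralizerPPrimeCore p (g * a * g⁻¹) := by
  set T := Cfsg.centralizerPPrimeCore p a with hT
  have key : T.map (MulAut.conj g).toMonoidHom ≤ Cfsg.centralizerPPrimeCore p (g * a * g⁻¹) := by
    apply le_core
    · rintro _ ⟨t, ht, rfl⟩
      have h1 := mem_centralizer_singleton_iff.1 (centralizerPPrimeCore_le p a ht)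
      rw [mem_centralizer_singleton_iff]
      show g * t * g⁻¹ * (g * a * g⁻¹) = g * a * g⁻¹ * (g * t * g⁻¹)
      calc g * t * g⁻¹ * (g * a * g⁻¹) = g * (t * a) * g⁻¹ := by group
        _ = g * (a * t) * g⁻¹ := by rw [h1]
        _ = _ := by group
    · rw [Subgroup.le_normalizer_iff]
      rintro c hc _ ⟨t, ht, rfl⟩
      have hc' : g⁻¹ * c * g ∈ centralizer ({a} : Set X) := by
        rw [mem_centralizer_singleton_iff] at hc ⊢
        calc g⁻¹ * c * g * a = g⁻¹ * (c * (g * a * g⁻¹)) * g := by group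
          _ = g⁻¹ * (g * a * g⁻¹ * c) * g := by rw [hc]
          _ = _ := by group
      have := Subgroup.le_normalizer_iff.1 (centralizer_le_normalizer_core p a) _ hc' t ht
      refine ⟨_, this, ?_⟩
      show g * (g⁻¹ * c * g * t * (g⁻¹ * c * g)⁻¹) * g⁻¹ = c * (g * t * g⁻¹) * c⁻¹
      group
    · rw [Subgroup.card_map_of_injective (MulAut.conj g).injective]
      exact centralizerPPrimeCore_coprime p a
  intro t ht
  exact key ⟨t, ht, rfl⟩

theorem cp_subgroupOf {X : Type u} [Group X] {p : ℕ} {A B : Subgroup X}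
    (h : CP p (B.subgroupOf A)) : CP p (A.subgroupOf B) := by
  have e1 : B.subgroupOf A ≃* (A ⊓ B : Subgroup X) :=
    (MulEquiv.subgroupCongr (Subgroup.inf_subgroupOf_left B A).symm).trans
      (Subgroup.subgroupOfEquivOfLe inf_le_left)
  have e2 : A.subgroupOf B ≃* (A ⊓ B : Subgroup X) :=
    (MulEquiv.subgroupCongr (Subgroup.inf_subgroupOf_right A B).symm).trans
      (Subgroup.subgroupOfEquivOfLe inf_le_right)
  exact cp_equiv (e1.trans e2.symm) h

theorem centralizer_sub {X : Type u} [Group X] (A : Subgroup X) (b : A) :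
    centralizer ({b} : Set A) = (centralizer ({(b : X)} : Set X)).subgroupOf A := by
  ext x
  rw [mem_centralizer_singleton_iff, mem_subgroupOf, mem_centralizer_singleton_iff, Subtype.ext_iff]
  rfl

theorem comm_of_sq {X : Type u} [Group X] {a b : X} {m : ℕ} (ha : a ^ (2 * m + 1) = 1)
    (h : Commute (a * a) b) : Commute a b := by
  have : a = (a * a) ^ (m + 1) := by
    rw [← pow_two, ← pow_mul, show 2 * (m + 1) = (2 * m + 1) + 1 by ring, pow_succ, ha, one_mul]
  rw [this]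
  exact h.pow_left _

/-- Let X be a finite group and Y an elementary abelian 2-subgroup of X of order at least 8 such that C_X(x) has no components (E(C_X(x)) = 1) for every nontrivial x ∈ Y, and F*(C_X(z)) = O₂(C_X(z)) for some nontrivial z ∈ Y. Then the subgroup generated by the cores O(C_X(y)), y ∈ Y nontrivial, has odd order and is normalized by N_X(Y). -/
theorem result {X : Type*} [Group X] [Finite X] (Y : Subgroup X) (hY : Cfsg.IsElementaryAbelian 2 Y) (h8 : 8 ≤ Nat.card ↥Y) (hE : ∀ x ∈ Y, x ≠ 1 → Cfsg.layer ↥(Subgroup.centralizer ({x} : Set X)) = ⊥) (hz : ∃ z ∈ Y, z ≠ 1 ∧ Cfsg.generalizedFittingSubgroup ↥(Subgroup.centralizer ({z} : Set X)) = Cfsg.pCore 2 ↥(Subgroup.centralizer ({z} : Set X))) : Odd (Nat.card ↥(⨆ y : {y : X // y ∈ Y ∧ y ≠ 1}, (Cfsg.oddCore ↥(Subgroup.centralizer ({(y : X)} : Set X))).map (Subgroup.centralizer ({(y : X)} : Set X)).subtype)) ∧ Subgroup.normalizer (Y : Set X) ≤ Subgroup.normalizer ((⨆ y : {y : X //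 y ∈ Y ∧ y ≠ 1}, (Cfsg.oddCore ↥(Subgroup.centralizer ({(y : X)} : Set X))).map (Subgroup.centralizer ({(y : X)} : Set X)).subtype : Subgroup X) : Set X) := by
  classical
  haveI : Fact (Nat.Prime 2) := ⟨Nat.prime_two⟩
  obtain ⟨z, hzY, hz1, hzF⟩ := hz
  set T : X → Subgroup X := fun y => Cfsg.centralizerPPrimeCore 2 y with hT
  have hYc : ∀ a ∈ Y, ∀ b ∈ Y, a * b = b * a := by
    intro a ha b hb
    have := hY.1.is_comm.comm ⟨a, ha⟩ ⟨b, hb⟩
    exact congrArg Subtype.val this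
  have hY2 : ∀ a ∈ Y, a * a = 1 := fun a ha => by rw [← pow_two]; exact hY.2 a ha
  have hYinv : ∀ a ∈ Y, a⁻¹ = a := fun a ha => inv_eq_of_mul_eq_one_left (hY2 a ha)
  have hcpz : CP 2 (centralizer ({z} : Set X)) := cp_iff_gfs.2 hzF
  -- characteristic 2 of the double centralizers
  have hcp : ∀ y (hy : y ∈ Y), CP 2 (centralizer
      ({(⟨z, mem_centralizer_singleton_iff.2 (hYc z hzY y hy)⟩ : centralizer ({y} : Set X))} :
        Set (centralizer ({y} : Set X)))) := by
    intro y hy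
    rw [centralizer_sub]
    apply cp_subgroupOf
    have hyz : y ∈ centralizer ({z} : Set X) := mem_centralizer_singleton_iff.2 (hYc y hy z hzY)
    have h1 : CP 2 (centralizer ({(⟨y, hyz⟩ : centralizer ({z} : Set X))} :
        Set (centralizer ({z} : Set X)))) := by
      have hp : IsPGroup 2 (zpowers (⟨y, hyz⟩ : centralizer ({z} : Set X))) := by
        intro g
        obtain ⟨g, k, rfl⟩ := g
        refine ⟨1, ?_⟩
        apply Subtype.ext
        apply Subtype.ext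
        show ((y ^ k) ^ 2 ^ 1 : X) = 1
        rw [pow_one, ← zpow_natCast, ← zpow_mul, mul_comm, zpow_mul, zpow_natCast, hY.2 y hy, one_zpow]
      exact cp_eq (centralizer_zpowers' _) (cp_centralizer_of_normalizer (cp_normalizer hcpz _ hp))
    rw [centralizer_sub] at h1
    exact h1
  have hpl : ∀ y ∈ Y, y ≠ 1 → Cfsg.pLayer 2 (centralizer ({y} : Set X)) = ⊥ := by
    intro y hy hy1
    exact pLayer_eq_bot_of_cp_centralizer _ (Subtype.ext (hY2 z hzY)) (hcp y hy) (hE y hy hy1)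
  have hp2 : ∀ y ∈ Y, IsPGroup 2 (zpowers y) := by
    intro y hy g
    obtain ⟨g, k, rfl⟩ := g
    refine ⟨1, ?_⟩
    apply Subtype.ext
    show ((y ^ k) ^ 2 ^ 1 : X) = 1
    rw [pow_one, ← zpow_natCast, ← zpow_mul, mul_comm, zpow_mul, zpow_natCast, hY.2 y hy, one_zpow]
  have hbal : ∀ a ∈ Y, ∀ b ∈ Y, b ≠ 1 → ∀ t ∈ T a, t * b = b * t → t ∈ T b := by
    intro a ha b hb hb1 t ht htb
    exact balance_of_pLayer (hYc a ha b hb) (hp2 a ha) (hpl b hb hb1)
      ⟨ht, mem_centralizer_singleton_iff.2 htb⟩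
  have hinv : ∀ y ∈ Y, ∀ t ∈ T y, z * t * z⁻¹ = t⁻¹ := by
    rintro y hy _ ⟨t, ht, rfl⟩
    haveI : (Cfsg.pPrimeCore 2 (centralizer ({y} : Set X))).Normal := rad_normal (fitClass_coprime 2)
    have := Cfsg.Agent.S2898.inverts_of_fpf (Cfsg.pPrimeCore 2 (centralizer ({y} : Set X)))
      (⟨z, mem_centralizer_singleton_iff.2 (hYc z hzY y hy)⟩ : centralizer ({y} : Set X))
      (Subtype.ext (hY2 z hzY)) (fpf_of_cp _ (hcp y hy)) t ht
    exact congrArg Subtype.val this
  have hTab : ∀ y ∈ Y, ∀ a ∈ T y, ∀ b ∈ T y, Commute a b := by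
    intro y hy a ha b hb
    have h2 := hinv y hy (a * b) ((T y).mul_mem ha hb)
    have h3 : z * (a * b) * z⁻¹ = (z * a * z⁻¹) * (z * b * z⁻¹) := by group
    rw [h3, hinv y hy a ha, hinv y hy b hb] at h2
    have h4 : (a⁻¹ * b⁻¹)⁻¹ = ((a * b)⁻¹)⁻¹ := by rw [h2]
    have h5 : b * a = a * b := by simpa using h4
    exact h5.symm
  have hTn : ∀ y ∈ Y, ∀ w ∈ Y, ∀ t ∈ T y, w * t * w⁻¹ ∈ T y := by
    intro y hy w hw t ht
    exact Subgroup.le_normalizer_iff.1 (centralizer_le_normalizer_core 2 y) w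
      (mem_centralizer_singleton_iff.2 (hYc w hw y hy)) t ht
  have hTc : ∀ y, ∀ t ∈ T y, t * y = y * t := fun y t ht =>
    mem_centralizer_singleton_iff.1 (centralizerPPrimeCore_le 2 y ht)
  have hTodd : ∀ y, ∀ t ∈ T y, ∃ m, t ^ (2 * m + 1) = 1 := by
    intro y t ht
    have hc : (Nat.card (T y)).Coprime 2 := centralizerPPrimeCore_coprime 2 y
    obtain ⟨m, hm⟩ : Odd (Nat.card (T y)) := by
      rw [← Nat.not_even_iff_odd, even_iff_two_dvd]
      intro h2
      have := Nat.Coprime.eq_one_of_dvd hc.symm h2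
      omega
    refine ⟨m, ?_⟩
    rw [← hm]
    exact congrArg Subtype.val (pow_card_eq_one' (G := T y) (x := ⟨t, ht⟩))
  -- L1
  have L1 : ∀ y ∈ Y, ∀ y' ∈ Y, ∀ u ∈ Y, u ≠ 1 → ∀ a ∈ T y, ∀ b ∈ T y', a * u = u * a → b * u = u * b →
      Commute a b := by
    intro y hy y' hy' u hu hu1 a ha b hb hau hbu
    exact hTab u hu a (hbal y hy u hu hu1 a ha hau) b (hbal y' hy' u hu hu1 b hb hbu)
  -- L2
  have L2 : ∀ y ∈ Y, ∀ w ∈ Y, ∀ a ∈ T y, ∃ a₁ ∈ T y, ∃ a₂ ∈ T y, a * a = a₁ * a₂ ∧ a₁ * w = w * a₁ ∧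
      a₂ * (w * z) = (w * z) * a₂ ∧ (∀ v ∈ Y, a * v = v * a → a₁ * v = v * a₁ ∧ a₂ * v = v * a₂) := by
    intro y hy w hw a ha
    have hwa : w * a * w⁻¹ ∈ T y := hTn y hy w hw a ha
    have hc1 : a * (w * a * w⁻¹) = (w * a * w⁻¹) * a := hTab y hy a ha _ hwa
    have hw2 : w⁻¹ = w := hYinv w hw
    have hww : w * w = 1 := hY2 w hw
    have hza : z * a * z⁻¹ = a⁻¹ := hinv y hy a ha
    refine ⟨a * (w * a * w⁻¹), (T y).mul_mem ha hwa, a * (w * a * w⁻¹)⁻¹,
      (T y).mul_mem ha ((T y).inv_mem hwa), ?_, ?_, ?_, ?_⟩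
    · calc a * a = a * (a * (w * a * w⁻¹)) * (w * a * w⁻¹)⁻¹ := by group
        _ = a * ((w * a * w⁻¹) * a) * (w * a * w⁻¹)⁻¹ := by rw [hc1]
        _ = _ := by group
    · have e0 : w * (w * a * w⁻¹) * w⁻¹ = a := by
        calc w * (w * a * w⁻¹) * w⁻¹ = (w * w) * a * (w * w)⁻¹ := by group
          _ = a := by rw [hww]; group
      have e3 : w * (a * (w * a * w⁻¹)) * w⁻¹ = a * (w * a * w⁻¹) := by
        calc w * (a * (w * a * w⁻¹)) * w⁻¹ = (w * a * w⁻¹) * (w * (w * a * w⁻¹) * w⁻¹) := by group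
          _ = (w * a * w⁻¹) * a := by rw [e0]
          _ = _ := hc1.symm
      calc a * (w * a * w⁻¹) * w = (w * (a * (w * a * w⁻¹)) * w⁻¹) * w := by rw [e3]
        _ = _ := by group
    · have hz2 : z⁻¹ = z := hYinv z hzY
      have hwz : w * z = z * w := hYc w hw z hzY
      have e1 : (w * z) * a * (w * z)⁻¹ = (w * a * w⁻¹)⁻¹ := by
        calc (w * z) * a * (w * z)⁻¹ = w * (z * a * z⁻¹) * w⁻¹ := by group
          _ = _ := by rw [hza]; group
      have e2 : (w * z) * (w * a * w⁻¹)⁻¹ * (w * z)⁻¹ = a := by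
        calc (w * z) * (w * a * w⁻¹)⁻¹ * (w * z)⁻¹ = (z * w) * (w * a * w⁻¹)⁻¹ * (z * w)⁻¹ := by rw [hwz]
          _ = z * (w * w) * a⁻¹ * (w * w)⁻¹ * z⁻¹ := by group
          _ = (z * a * z⁻¹)⁻¹ := by rw [hww]; group
          _ = a := by rw [hza, inv_inv]
      have e3 : (w * z) * (a * (w * a * w⁻¹)⁻¹) * (w * z)⁻¹ = a * (w * a * w⁻¹)⁻¹ := by
        calc (w * z) * (a * (w * a * w⁻¹)⁻¹) * (w * z)⁻¹
            = ((w * z) * a * (w * z)⁻¹) * ((w * z) * (w * a * w⁻¹)⁻¹ * (w * z)⁻¹) := by group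
          _ = (w * a * w⁻¹)⁻¹ * a := by rw [e1, e2]
          _ = a * (w * a * w⁻¹)⁻¹ := (hTab y hy _ ((T y).inv_mem hwa) a ha)
      calc a * (w * a * w⁻¹)⁻¹ * (w * z)
          = ((w * z) * (a * (w * a * w⁻¹)⁻¹) * (w * z)⁻¹) * (w * z) := by rw [e3]
        _ = _ := by group
    · intro v hv hav
      have hvw : v * w = w * v := hYc v hv w hw
      have e1 : (w * a * w⁻¹) * v = v * (w * a * w⁻¹) := by
        calc (w * a * w⁻¹) * v = w * a * (w⁻¹ * (v * w) * w⁻¹) := by group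
          _ = w * (a * v) * w⁻¹ := by rw [hvw]; group
          _ = (w * v) * a * w⁻¹ := by rw [hav]; group
          _ = _ := by rw [← hvw]; group
      have c1 : Commute a v := hav
      have c2 : Commute (w * a * w⁻¹) v := e1
      exact ⟨(c1.mul_left c2), (c1.mul_left c2.inv_left)⟩
  -- Case A
  have CA : ∀ y ∈ Y, ∀ y' ∈ Y, y ≠ 1 → y' ≠ 1 → y * y' * z ≠ 1 → ∀ a ∈ T y, ∀ b ∈ T y', Commute a b := by
    intro y hy y' hy' hy1 hy'1 hu a ha b hb
    obtain ⟨m, hm⟩ := hTodd y a ha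
    obtain ⟨k, hk⟩ := hTodd y' b hb
    apply comm_of_sq hm
    obtain ⟨a₁, ha₁, a₂, ha₂, haa, h1, h2, h3⟩ := L2 y hy y' hy' a ha
    rw [haa]
    apply Commute.mul_left
    · exact L1 y hy y' hy' y' hy' hy'1 a₁ ha₁ b hb h1 (hTc y' b hb)
    · apply Commute.symm
      apply comm_of_sq hk
      obtain ⟨b₁, hb₁, b₂, hb₂, hbb, g1, g2, g3⟩ := L2 y' hy' y hy b hb
      rw [hbb]
      have ha₂y : a₂ * y = y * a₂ := (h3 y hy (hTc y a ha)).2
      have hb₂y : b₂ * y' = y' * b₂ := (g3 y' hy' (hTc y' b hb)).2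
      apply Commute.mul_left
      · exact (L1 y hy y' hy' y hy hy1 a₂ ha₂ b₁ hb₁ ha₂y g1).symm
      · apply Commute.symm
        apply L1 y hy y' hy' (y * y' * z) (Y.mul_mem (Y.mul_mem hy hy') hzY) hu a₂ ha₂ b₂ hb₂
        · have c1 : Commute a₂ y := ha₂y
          have c2 : Commute a₂ (y' * z) := h2
          have := c1.mul_right c2
          rw [← mul_assoc] at this
          exact this
        · have c1 : Commute b₂ y' := hb₂y
          have c2 : Commute b₂ (y * z) := g2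
          have := c1.mul_right c2
          have e : y' * (y * z) = y * y' * z := by rw [← mul_assoc, hYc y' hy' y hy]
          rw [e] at this
          exact this
  have CB : ∀ y ∈ Y, ∀ y' ∈ Y, y ≠ 1 → y' ≠ 1 → ∀ a ∈ T y, ∀ b ∈ T y', Commute a b := by
    intro y hy y' hy' hy1 hy'1 a ha b hb
    by_cases hu : y * y' * z = 1
    · have hy'e : y' = y * z := by
        have : y' = y⁻¹ * z⁻¹ := by
          have h1 : y' = y⁻¹ * (y * y' * z) * z⁻¹ := by group
          rw [h1, hu]; group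
        rw [this, hYinv y hy, hYinv z hzY]
      obtain ⟨w, hw, hwn⟩ : ∃ w ∈ Y, w ∉ ({1, y, z, y * z} : Finset X) := by
        by_contra hcon
        push Not at hcon
        have h1 : (Y : Set X) ⊆ (({1, y, z, y * z} : Finset X) : Set X) := fun w hw => hcon w hw
        have h2 := Set.ncard_le_ncard h1 (Finset.finite_toSet _)
        rw [Set.ncard_coe_finset] at h2
        have h3 : Nat.card Y = (Y : Set X).ncard := rfl
        have h4 := Finset.card_le_four (a := (1 : X)) (b := y) (c := z) (d := y * z)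
        omega
      simp only [Finset.mem_insert, Finset.mem_singleton, not_or] at hwn
      obtain ⟨hw1, hwy, hwz, hwyz⟩ := hwn
      obtain ⟨m, hm⟩ := hTodd y a ha
      apply comm_of_sq hm
      obtain ⟨a₁, ha₁, a₂, ha₂, haa, h1, h2, h3⟩ := L2 y hy w hw a ha
      rw [haa]
      have hwz1 : w * z ≠ 1 := by
        intro h
        apply hwz
        rw [← hYinv z hzY]
        exact eq_inv_of_mul_eq_one_left h
      apply Commute.mul_left
      · apply CA w hw y' hy' hw1 hy'1 ?_ a₁ (hbal y hy w hw hw1 a₁ ha₁ h1) b hb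
        intro h
        apply hwy
        rw [hy'e] at h
        have : w * y = 1 := by
          calc w * y = w * (y * z) * z * (z * z)⁻¹ := by group
            _ = 1 := by rw [h, hY2 z hzY]; group
        rw [← hYinv y hy]
        exact eq_inv_of_mul_eq_one_left this
      · apply CA (w * z) (Y.mul_mem hw hzY) y' hy' hwz1 hy'1 ?_ a₂
          (hbal y hy (w * z) (Y.mul_mem hw hzY) hwz1 a₂ ha₂ h2) b hb
        intro h
        apply hwyz
        rw [hy'e] at h
        have hzy : z * y = y * z := hYc z hzY y hy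
        have : w * (y * z) = 1 := by
          calc w * (y * z) = w * (z * y) := by rw [hzy]
            _ = w * z * (y * z) * z * (z * z)⁻¹ := by group
            _ = 1 := by rw [h, hY2 z hzY]; group
        rw [← hYinv (y * z) (Y.mul_mem hy hzY)]
        exact eq_inv_of_mul_eq_one_left this
    · exact CA y hy y' hy' hy1 hy'1 hu a ha b hb
  set W : Subgroup X := ⨆ y : {y : X // y ∈ Y ∧ y ≠ 1}, (Cfsg.oddCore ↥(Subgroup.centralizer ({(y : X)} : Set X))).map (Subgroup.centralizer ({(y : X)} : Set X)).subtype with hW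
  have hWT : W = ⨆ y : {y : X // y ∈ Y ∧ y ≠ 1}, T y := rfl
  have hTW : ∀ y : {y : X // y ∈ Y ∧ y ≠ 1}, T y ≤ centralizer (W : Set X) := by
    intro y
    rw [Subgroup.le_centralizer_iff, hWT]
    apply iSup_le
    intro y' b hb
    rw [mem_centralizer_iff]
    intro a ha
    exact CB y.1 y.2.1 y'.1 y'.2.1 y.2.2 y'.2.2 a ha b hb
  have hWW : W ≤ centralizer (W : Set X) := by
    conv_lhs => rw [hWT]
    exact iSup_le hTW
  have hWodd : ∀ g ∈ W, g ∈ W ∧ ∃ m, g ^ (2 * m + 1) = 1 := by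
    intro g hg
    rw [hWT] at hg
    refine Subgroup.iSup_induction (C := fun g => g ∈ W ∧ ∃ m, g ^ (2 * m + 1) = 1) _ hg ?_ ?_ ?_
    · intro y t ht
      exact ⟨hWT ▸ Subgroup.mem_iSup_of_mem y ht, hTodd y t ht⟩
    · exact ⟨W.one_mem, 0, by simp⟩
    · rintro a b ⟨ha, m, hm⟩ ⟨hb, k, hk⟩
      refine ⟨W.mul_mem ha hb, 2 * m * k + m + k, ?_⟩
      have hc : Commute a b := (mem_centralizer_iff.1 (hWW hb) a ha)
      rw [hc.mul_pow, show 2 * (2 * m * k + m + k) + 1 = (2 * m + 1) * (2 * k + 1) by ring, pow_mul, hm,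
        one_pow, mul_comm (2 * m + 1), pow_mul, hk, one_pow, one_mul]
  constructor
  · rw [← Nat.not_even_iff_odd, even_iff_two_dvd]
    intro h2
    obtain ⟨t, ht⟩ := exists_prime_orderOf_dvd_card' (G := W) 2 h2
    obtain ⟨_, m, hm⟩ := hWodd t t.2
    have h3 : t ^ (2 * m + 1) = 1 := Subtype.ext hm
    have h4 := orderOf_dvd_of_pow_eq_one h3
    rw [ht] at h4
    omega
  · intro g hg
    rw [mem_normalizer_iff_conj_le]
    intro h hh
    rw [hWT] at hh
    refine Subgroup.iSup_induction (C := fun h => g * h * g⁻¹ ∈ W) _ hh ?_ ?_ ?_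
    · intro y t ht
      have hgy : g * y.1 * g⁻¹ ∈ Y := (Subgroup.mem_normalizer_iff.1 hg y.1).1 y.2.1
      have hgy1 : g * y.1 * g⁻¹ ≠ 1 := by
        intro h
        apply y.2.2
        have : y.1 = g⁻¹ * (g * y.1 * g⁻¹) * g := by group
        rw [this, h]; group
      rw [hWT]
      exact Subgroup.mem_iSup_of_mem (S := fun y : {y : X // y ∈ Y ∧ y ≠ 1} => T y)
        ⟨g * y.1 * g⁻¹, hgy, hgy1⟩ (core_conj 2 g y.1 t ht)
    · simp
    · intro a b ha hb
      have : g * (a * b) * g⁻¹ = (g * a * g⁻¹) * (g * b * g⁻¹) := by group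
      rw [this]
      exact W.mul_mem ha hb

end Cfsg.Agent.S2924
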