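import Cfsg.Statements.S2968
import Cfsg.Agent.Lib.Helper4_Iso

set_option autoImplicit false
open Cfsg

namespace Cfsg.Agent.S2968

open Cfsg.Agent.Lib.Helper4_Iso

/-- Let G be a finite group, p a prime, P a Sylow p-subgroup of G and x ∈ P an element of p-power order which is isolated in G (the only conjugate of x commuting with x is x itself). Then x lies in the centre of P, and the subgroup generated by x is both strongly closed and weakly closed in P with respect to G. -/
theorem result {G : Type*} [Group G] [Finite G] {p : ℕ} [Fact p.Prime] (P : Sylow p G) (x : G) (hxP : x ∈ (P : Subgroup G)) (hx : ∃ k : ℕ, orderOf x = p ^ k) (hiso : Cfsg.IsIsolated x) : x ∈ (P : Subgroup G) ⊓ Subgroup.centralizer ((P : Subgroup G) : Set G) ∧ Cfsg.IsStronglyClosed (Subgroup.zpowers x) (P : Subgroup G) ∧ Cfsg.IsWeaklyClosed (Subgroup.zpowers x) (P : Subgroup G) := by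
  have hc := central_of_isolated hiso P.2 hxP
  have hxz : Subgroup.zpowers x ≤ (P : Subgroup G) := by rwa [Subgroup.zpowers_le]
  refine ⟨⟨hxP, ?_⟩, ⟨hxz, ?_⟩, ⟨hxz, ?_⟩⟩
  · show x ∈ Subgroup.centralizer _
    rw [Subgroup.mem_centralizer_iff]
    intro r hr
    exact hc r hr
  · rintro _ ⟨k, rfl⟩ g hg
    simp only at hg ⊢
    set w := g * x ^ k * g⁻¹ with hw
    have hwy : w = (g * x * g⁻¹) ^ k := by rw [hw, conj_zpow]
    have hxK : x ∈ Subgroup.centralizer ({w} : Set G) :=
      Subgroup.mem_centralizer_singleton_iff.2 (hc w hg).symm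
    have hyK : g * x * g⁻¹ ∈ Subgroup.centralizer ({w} : Set G) := by
      rw [Subgroup.mem_centralizer_singleton_iff, hwy]
      exact ((Commute.refl (g * x * g⁻¹)).zpow_right k).eq
    obtain ⟨c, hcK, hcy⟩ := exists_conj_eq hx hiso hxK hyK
    have h1 : c * w * c⁻¹ = w := by
      rw [mul_inv_eq_iff_eq_mul]
      exact Subgroup.mem_centralizer_singleton_iff.1 hcK
    have h2 : c * w * c⁻¹ = x ^ k := by rw [hwy, ← conj_zpow, hcy]
    rw [← h1, h2]
    exact ⟨k, rfl⟩
  · intro g hg
    have h1 : g * x * g⁻¹ ∈ (P : Subgroup G) := hg ⟨x, Subgroup.mem_zpowers x, rfl⟩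
    have h2 := hiso g (hc _ h1).symm
    rw [MonoidHom.map_zpowers]
    congr 1

end Cfsg.Agent.S2968
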