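import Cfsg.Statements.S2970
import Cfsg.Agent.Lib.Helper4_Iso

set_option autoImplicit false
open Cfsg

namespace Cfsg.Agent.S2970

open Cfsg.Agent.Lib.Helper4_Iso

/-- Let G be a finite group, p a prime and x ∈ G an element of p-power order which is isolated in G. Then the image of x in any quotient G ⧸ N is isolated in G ⧸ N; and if x ≠ 1 and the Sylow p-subgroups of G are cyclic, then G has a normal p-complement. -/
theorem result {G : Type*} [Group G] [Finite G] {p : ℕ} [Fact p.Prime] (x : G) (hx : ∃ k : ℕ, orderOf x = p ^ k) (hiso : Cfsg.IsIsolated x) : (∀ (N : Subgroup G) [N.Normal], Cfsg.IsIsolated (QuotientGroup.mk x : G ⧸ N)) ∧ (x ≠ 1 → (∀ P : Sylow p G, IsCyclic ↥(P : Subgroup G)) → Cfsg.HasNormalPComplement p G) := by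
  have hpp : Fact p.Prime := inferInstance
  refine ⟨fun N _ => ?_, fun hx1 hcyc => ?_⟩
  · intro gb hcomm
    obtain ⟨g, rfl⟩ := QuotientGroup.mk_surjective gb
    set π := QuotientGroup.mk' N with hπ
    set K := (Subgroup.centralizer ({π (g * x * g⁻¹)} : Set (G ⧸ N))).comap π with hK
    have hxK : x ∈ K := by
      rw [hK, Subgroup.mem_comap, Subgroup.mem_centralizer_singleton_iff]
      exact hcomm
    have hyK : g * x * g⁻¹ ∈ K := by
      rw [hK, Subgroup.mem_comap, Subgroup.mem_centralizer_singleton_iff]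
    obtain ⟨k, hk, hkx⟩ := exists_conj_eq hx hiso hxK hyK
    have h1 : π k * π (g * x * g⁻¹) = π (g * x * g⁻¹) * π k :=
      Subgroup.mem_centralizer_singleton_iff.1 (Subgroup.mem_comap.1 hk)
    have h2 : π k * π (g * x * g⁻¹) * (π k)⁻¹ = π x := by
      rw [← map_inv, ← map_mul, ← map_mul, hkx]
    rw [h1, mul_inv_cancel_right] at h2
    exact h2
  · obtain ⟨P, hxP⟩ := (isPGroup_zpowers_of_orderOf hx).exists_le_sylow
    have hxP' : x ∈ (P : Subgroup G) := hxP (Subgroup.mem_zpowers x)
    obtain ⟨k, hk⟩ := hx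
    have hk0 : k ≠ 0 := by
      rintro rfl
      rw [pow_zero, orderOf_eq_one_iff] at hk
      exact hx1 hk
    obtain ⟨j, rfl⟩ := Nat.exists_eq_succ_of_ne_zero hk0
    have ho : orderOf (x ^ p ^ j) = p := by
      rw [orderOf_pow_of_dvd (pow_ne_zero _ hpp.1.ne_zero) (by rw [hk]; exact pow_dvd_pow _ (Nat.le_succ j)),
        hk, pow_succ, Nat.mul_div_cancel_left _ (pow_pos hpp.1.pos _)]
    have hNC := normalizer_le_centralizer_of_cyclic P (hcyc P) (Subgroup.pow_mem _ hxP' (p ^ j)) ho
      (fun g hg => by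
        have h1 : g * x * g⁻¹ ∈ (P : Subgroup G) := (Subgroup.mem_normalizer_iff.1 hg x).1 hxP'
        have h2 := hiso g (central_of_isolated hiso P.2 hxP' _ h1).symm
        rw [← conj_pow, h2])
    exact ⟨P, _, inferInstance, MonoidHom.ker_transferSylow_isComplement' P hNC⟩

end Cfsg.Agent.S2970
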