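import Cfsg.Statements.S2971
import Cfsg.Agent.Lib.Helper4_PSol
import Cfsg.Agent.Lib.Helper1_UniqueP

set_option autoImplicit false
open Cfsg

namespace Cfsg.Agent.S2971

open Cfsg.Agent.Lib.Helper4_PSol Cfsg.Agent.Lib.Helper4_Cop Cfsg.Agent.Lib.Helper4_Syl

theorem conj_pow_aux {G : Type*} [Group G] {g y : G} {u : ℕ} (h : g * y * g⁻¹ = y ^ u) (j : ℕ) :
    g ^ j * y * (g ^ j)⁻¹ = y ^ (u ^ j) := by
  induction j with
  | zero => simp
  | succ j ih =>
    calc g ^ (j + 1) * y * (g ^ (j + 1))⁻¹ = g ^ j * (g * y * g⁻¹) * (g ^ j)⁻¹ := by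
          rw [pow_succ]; group
      _ = g ^ j * y ^ u * (g ^ j)⁻¹ := by rw [h]
      _ = (g ^ j * y * (g ^ j)⁻¹) ^ u := by rw [conj_pow]
      _ = y ^ (u ^ (j + 1)) := by rw [ih, ← pow_mul, pow_succ]

/-- Let G be a finite group and p an odd prime such that G has p-rank at most 1 (no elementary abelian subgroup of order p²). If x ∈ G is an isolated element of order p, then x is central modulo the largest normal subgroup of G of order prime to p. -/
theorem result {G : Type*} [Group G] [Finite G] {p : ℕ} [Fact p.Prime] (hp : p ≠ 2) (hrk : Cfsg.PRankLE p 1 G) (x : G) (hx : orderOf x = p) (hiso : Cfsg.IsIsolated x) : Cfsg.InZStar p x := by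
  have hpp : Fact p.Prime := inferInstance
  obtain ⟨P, hxP⟩ := (isPGroup_zpowers hx).exists_le_sylow
  have hxP' : x ∈ (P : Subgroup G) := hxP (Subgroup.mem_zpowers x)
  have hPne : (P : Subgroup G) ≠ ⊥ := by
    intro h
    rw [h, Subgroup.mem_bot] at hxP'
    rw [hxP', orderOf_one] at hx
    exact hpp.1.one_lt.ne hx
  obtain ⟨z, hzP, hz, hzc⟩ := exists_central_orderOf_eq P.2 hPne
  -- every element of order dividing p in P is a power of z
  have huniq : ∀ y ∈ (P : Subgroup G), y ^ p = 1 → y ∈ Subgroup.zpowers z := by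
    intro y hy hyp
    have hcomm : ∀ a ∈ ({y, z} : Set G), ∀ b ∈ ({y, z} : Set G), a * b = b * a := by
      rintro a (rfl | rfl) b (rfl | rfl)
      · rfl
      · exact hzc _ hy
      · exact (hzc _ hy).symm
      · rfl
    have hA : IsMulCommutative (Subgroup.closure ({y, z} : Set G)) :=
      Subgroup.isMulCommutative_closure hcomm
    have hexp : ∀ a ∈ Subgroup.closure ({y, z} : Set G), a ^ p = 1 := by
      intro a ha
      induction ha using Subgroup.closure_induction with
      | mem a ha =>
        rcases ha with rfl | rfl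
        · exact hyp
        · rw [← hz]; exact pow_orderOf_eq_one _
      | one => simp
      | mul a b ha hb iha ihb =>
        have : Commute a b := by
          have := hA.is_comm.comm ⟨a, ha⟩ ⟨b, hb⟩
          exact congrArg Subtype.val this
        rw [this.mul_pow, iha, ihb, one_mul]
      | inv a _ iha => rw [inv_pow, iha, inv_one]
    have hcard := hrk _ hA hexp
    rw [pow_one] at hcard
    have hle : Subgroup.zpowers z ≤ Subgroup.closure ({y, z} : Set G) := by
      rw [Subgroup.zpowers_le]; exact Subgroup.subset_closure (by simp)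
    have heq := Subgroup.eq_of_le_of_card_ge hle (by rw [Nat.card_zpowers, hz]; exact hcard)
    rw [heq]; exact Subgroup.subset_closure (by simp)
  have hcyc : IsCyclic (P : Subgroup G) := by
    apply Cfsg.Agent.Lib.Helper1_UniqueP.isCyclic_of_unique P.2 (Or.inl hp)
    have key : ∀ H : Subgroup (P : Subgroup G), Nat.card H = p →
        H = (Subgroup.zpowers z).subgroupOf (P : Subgroup G) := by
      intro H hH
      apply Subgroup.eq_of_le_of_card_ge
      · intro h hh
        rw [Subgroup.mem_subgroupOf]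
        apply huniq _ h.2
        have := congrArg Subtype.val (congrArg Subtype.val (pow_card_eq_one' (G := H) (x := ⟨h, hh⟩)))
        rw [hH] at this
        simpa using this
      · rw [hH]
        have h1 : Nat.card ((Subgroup.zpowers z).subgroupOf (P : Subgroup G)) =
            Nat.card (Subgroup.zpowers z) :=
          Nat.card_congr (Subgroup.subgroupOfEquivOfLe (by rwa [Subgroup.zpowers_le])).toEquiv
        rw [h1, Nat.card_zpowers, hz]
    intro H K hH hK
    rw [key H hH, key K hK]
  obtain ⟨⟨y, hyP⟩, hy⟩ := hcyc.exists_generator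
  have hgen : ∀ w ∈ (P : Subgroup G), ∃ e : ℕ, w = y ^ e := by
    intro w hw
    have := hy ⟨w, hw⟩
    rw [← mem_powers_iff_mem_zpowers] at this
    obtain ⟨e, he⟩ := this
    exact ⟨e, by simpa using (congrArg Subtype.val he).symm⟩
  have hab : ∀ a ∈ (P : Subgroup G), ∀ b ∈ (P : Subgroup G), a * b = b * a := by
    intro a ha b hb
    obtain ⟨e, rfl⟩ := hgen a ha
    obtain ⟨f, rfl⟩ := hgen b hb
    rw [← pow_add, ← pow_add, add_comm]
  obtain ⟨n, hn⟩ := P.2 ⟨y, hyP⟩
  have hn' : y ^ p ^ n = 1 := by simpa using congrArg Subtype.val hn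
  have hNC : Subgroup.normalizer ((P : Subgroup G) : Set G) ≤
      Subgroup.centralizer ((P : Subgroup G) : Set G) := by
    intro g hg
    have hPC : (P : Subgroup G) ≤ Subgroup.centralizer ((P : Subgroup G) : Set G) := by
      intro a ha
      rw [Subgroup.mem_centralizer_iff]
      intro b hb
      exact hab b hb a ha
    obtain ⟨u, hu⟩ := hgen _ ((Subgroup.mem_normalizer_iff.1 hg y).1 hyP)
    obtain ⟨e, he⟩ := hgen x hxP'
    have hgx : g * x * g⁻¹ = x := by
      apply hiso
      exact hab _ hxP' _ ((Subgroup.mem_normalizer_iff.1 hg x).1 hxP')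
    have hxu : x ^ u = x ^ 1 := by
      rw [pow_one]
      conv_rhs => rw [← hgx]
      rw [he, ← conj_pow, hu, ← pow_mul, ← pow_mul, mul_comm]
    rw [pow_eq_pow_iff_modEq, hx] at hxu
    have h1 : ((p : ℕ) : ℤ) ∣ (u : ℤ) - 1 := by
      have := (Nat.modEq_iff_dvd.1 hxu.symm)
      simpa using this
    have h2 := dvd_sub_pow_of_dvd_sub h1 n
    have h3 : u ^ p ^ n ≡ 1 [MOD p ^ n] := by
      apply Nat.ModEq.symm
      rw [Nat.modEq_iff_dvd]
      have h4 : ((p : ℤ) ^ n) ∣ (u : ℤ) ^ p ^ n - 1 ^ p ^ n :=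
        (pow_dvd_pow _ (Nat.le_succ n)).trans h2
      simpa using h4
    have h5 : y ^ (u ^ p ^ n) = y := by
      have : y ^ (u ^ p ^ n) = y ^ 1 := by
        rw [pow_eq_pow_iff_modEq]
        exact h3.of_dvd (orderOf_dvd_of_pow_eq_one hn')
      rwa [pow_one] at this
    have h6 : g ^ p ^ n ∈ Subgroup.centralizer ((P : Subgroup G) : Set G) := by
      rw [Subgroup.mem_centralizer_iff]
      intro w hw
      obtain ⟨f, rfl⟩ := hgen w hw
      have h7 := conj_pow_aux hu (p ^ n)
      rw [h5] at h7
      have h8 : g ^ p ^ n * y = y * g ^ p ^ n := by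
        rw [mul_inv_eq_iff_eq_mul] at h7; exact h7
      exact ((Commute.pow_right (show Commute (g ^ p ^ n) y from h8) f).eq).symm
    obtain ⟨a, m, hm, ham⟩ := Nat.exists_eq_pow_mul_and_not_dvd (orderOf_pos g).ne' p hpp.1.ne_one
    have h9 : g ^ m ∈ (P : Subgroup G) := by
      have hpg : IsPGroup p (Subgroup.zpowers (g ^ m)) := by
        apply isPGroup_zpowers_of_pow (k := a)
        rw [← pow_mul, mul_comm, ← ham, pow_orderOf_eq_one]
      have := hpg.inf_normalizer_sylow P
      have h10 : g ^ m ∈ Subgroup.zpowers (g ^ m) ⊓ (P : Subgroup G) := by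
        rw [← this]
        exact ⟨Subgroup.mem_zpowers _, Subgroup.pow_mem _ hg _⟩
      exact h10.2
    exact mem_of_pow_mem_coprime h6 (hPC h9)
      (Nat.Coprime.pow_left n ((Nat.Prime.coprime_iff_not_dvd hpp.1).2 hm))
  have hcompl := MonoidHom.ker_transferSylow_isComplement' P hNC
  have hKc : (Nat.card (MonoidHom.transferSylow P hNC).ker).Coprime p := by
    have h1 := hcompl.index_eq_card
    rw [← h1]
    exact ((Nat.Prime.coprime_iff_not_dvd hpp.1).2 P.not_dvd_index).symm
  have hKle : (MonoidHom.transferSylow P hNC).ker ≤ pPrimeCore p G :=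
    le_sSup ⟨inferInstance, hKc⟩
  intro g
  apply hKle
  rw [MonoidHom.mem_ker, map_mul, map_mul, map_mul, map_inv, map_inv]
  have hc : ∀ a b : (P : Subgroup G), a * b = b * a := fun a b => Subtype.ext (hab _ a.2 _ b.2)
  rw [hc ((MonoidHom.transferSylow P hNC) g) _, mul_inv_cancel_right, mul_inv_cancel]

end Cfsg.Agent.S2971
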