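import Mathlib
import Cfsg.Statements.S3225

set_option autoImplicit false
open Cfsg

namespace Cfsg.Agent.S3225

/-- the sign homomorphism attached to a subgroup of index two -/
noncomputable def signHom {H : Type*} [Group H] (K : Subgroup H) (hK : K.index = 2) : H →* ℤˣ := by
  classical
  exact
  { toFun := fun s => if s ∈ K then 1 else -1
    map_one' := by simp [K.one_mem]
    map_mul' := by
      intro a b
      by_cases ha : a ∈ K <;> by_cases hb : b ∈ K <;>
        simp [Subgroup.mul_mem_iff_of_index_two hK, ha, hb] }

theorem signHom_apply_of_mem {H : Type*} [Group H] (K : Subgroup H) (hK : K.index = 2) (s : H)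
    (hs : s ∈ K) : signHom K hK s = 1 := by
  simp [signHom, hs]

theorem signHom_apply_of_not_mem {H : Type*} [Group H] (K : Subgroup H) (hK : K.index = 2) (s : H)
    (hs : s ∉ K) : signHom K hK s = -1 := by
  simp [signHom, hs]

/-- Let G be a finite group of even order with no subgroup of index 2, S a Sylow 2-subgroup of G and M a subgroup of index 2 in S such that, for some n ≥ 1, every element of S outside M has order greater than 2^(n−1). Then every element of S of order 2ⁿ is conjugate in G to an element of M. -/
theorem result {G : Type*} [Group G] [Finite G] (hev : Even (Nat.card G))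
    (hG : ∀ H : Subgroup G, H.index ≠ 2) (S : Sylow 2 G) (M : Subgroup G) (hMS : M ≤ (S : Subgroup G)) (hM : M.relIndex (S : Subgroup G) = 2)
    (n : ℕ) (hn : 1 ≤ n) (hord : ∀ y ∈ (S : Subgroup G), y ∉ M → 2 ^ (n - 1) < orderOf y)
    (x : G) (hx : x ∈ (S : Subgroup G)) (hxn : orderOf x = 2 ^ n) :
    ∃ g : G, g * x * g⁻¹ ∈ M := by
  classical
  by_contra hcon
  push Not at hcon
  have := Fact.mk Nat.prime_two
  have hM' : (M.subgroupOf (S : Subgroup G)).index = 2 := hM
  set ϕ := signHom (M.subgroupOf (S : Subgroup G)) hM' with hϕ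
  have : Fintype (Quotient (MulAction.orbitRel (Subgroup.zpowers x) (G ⧸ (S : Subgroup G)))) :=
    Fintype.ofFinite _
  have hV : MonoidHom.transfer ϕ x = -1 := by
    rw [MonoidHom.transfer_eq_prod_quotient_orbitRel_zpowers_quot]
    have key : ∀ (r : ℕ) (g : G) (hmem : g⁻¹ * x ^ r * g ∈ (S : Subgroup G)), r ∣ 2 ^ n →
        ϕ ⟨g⁻¹ * x ^ r * g, hmem⟩ = (-1) ^ r := by
      intro r g hmem hrdvd
      obtain ⟨j, hjn, hj⟩ := (Nat.dvd_prime_pow Nat.prime_two).1 hrdvd
      rcases Nat.eq_zero_or_pos j with rfl | hjpos
      · rw [pow_zero] at hj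
        subst hj
        have hnot : g⁻¹ * x ^ 1 * g ∉ M := by
          have := hcon g⁻¹
          rw [pow_one]
          simpa using this
        rw [signHom_apply_of_not_mem _ _ _ (fun h => hnot (Subgroup.mem_subgroupOf.1 h))]
        simp
      · have hin : g⁻¹ * x ^ r * g ∈ M := by
          by_contra hnot
          have h1 := hord _ hmem hnot
          have h2 : orderOf (g⁻¹ * x ^ r * g) = orderOf (x ^ r) := by
            have := (MulAut.conj g⁻¹).orderOf_eq (x ^ r)
            simpa using this
          have hr0 : r ≠ 0 := by rw [hj]; positivity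
          rw [h2, orderOf_pow_of_dvd hr0 (hxn ▸ hrdvd), hxn, hj,
            Nat.pow_div hjn (by norm_num)] at h1
          have : n - j ≤ n - 1 := by omega
          have := Nat.pow_le_pow_right (show 0 < 2 by norm_num) this
          omega
        rw [signHom_apply_of_mem _ _ _ (Subgroup.mem_subgroupOf.2 hin)]
        have hev : Even r := by
          rw [hj]
          exact (Nat.even_pow.2 ⟨even_two, by omega⟩)
        exact (hev.neg_one_pow).symm
    have hterm : ∀ q : Quotient (MulAction.orbitRel (Subgroup.zpowers x) (G ⧸ (S : Subgroup G))),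
        ϕ ⟨q.out.out⁻¹ * x ^ Function.minimalPeriod (x • ·) q.out * q.out.out,
            QuotientGroup.out_conj_pow_minimalPeriod_mem (S : Subgroup G) x q.out⟩
          = (-1) ^ Function.minimalPeriod (x • ·) q.out := by
      intro q
      apply key
      rw [← hxn]
      apply Function.IsPeriodicPt.minimalPeriod_dvd
      show (x • ·)^[orderOf x] q.out = q.out
      rw [smul_iterate, pow_orderOf_eq_one]
      exact one_smul _ _
    rw [Finset.prod_congr rfl (fun q _ => hterm q), Finset.prod_pow_eq_pow_sum,
      ← Subgroup.index_eq_sum_minimalPeriod]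
    have hodd : Odd (S : Subgroup G).index := by
      rw [← Nat.not_even_iff_odd, even_iff_two_dvd]
      exact S.not_dvd_index
    exact hodd.neg_one_pow
  apply hG (MonoidHom.transfer ϕ).ker
  rw [Subgroup.index_ker]
  have hrange : (MonoidHom.transfer ϕ).range = ⊤ := by
    rw [eq_top_iff]
    intro u _
    rcases Int.units_eq_one_or u with rfl | rfl
    · exact Subgroup.one_mem _
    · exact ⟨x, hV⟩
  rw [hrange, Nat.card_congr Subgroup.topEquiv.toEquiv]
  simp

end Cfsg.Agent.S3225
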