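import Mathlib
import Cfsg.Agent.Lib.Helper1_PNil
import Cfsg.Agent.S3225
import Cfsg.Statements.S3178

set_option autoImplicit false
open Cfsg

namespace Cfsg.Agent.S3178


theorem conj_iter {H : Type*} [Group H] (g x w : H) (hgw : g * w * g⁻¹ = w)
    (hgx : g * x * g⁻¹ = w * x) (j : ℕ) : g ^ j * x * (g ^ j)⁻¹ = w ^ j * x := by
  induction j with
  | zero => simp
  | succ j ihj =>
    calc g ^ (j + 1) * x * (g ^ (j + 1))⁻¹ = g * (g ^ j * x * (g ^ j)⁻¹) * g⁻¹ := by
          rw [pow_succ']; group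
      _ = g * (w ^ j * x) * g⁻¹ := by rw [ihj]
      _ = (g * w * g⁻¹) ^ j * (g * x * g⁻¹) := by rw [conj_pow]; group
      _ = w ^ j * (w * x) := by rw [hgw, hgx]
      _ = w ^ (j + 1) * x := by rw [pow_succ]; group

theorem eq_one_of_odd_pow {H : Type*} [Group H] (w : H) (hw2 : w ^ 2 = 1) (k : ℕ) (hk : Odd k)
    (hwk : w ^ k = 1) : w = 1 := by
  obtain ⟨r, rfl⟩ := hk
  rw [pow_succ, pow_mul, hw2, one_pow, one_mul] at hwk
  exact hwk

/-- odd-order element normalizing abelian M, centralizing involutions, centralizes M -/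
theorem centralizes_of_invol {H : Type*} [Group H] (M : Subgroup H)
    (hab : ∀ x ∈ M, ∀ y ∈ M, x * y = y * x)
    (g : H) (hg : ∀ x ∈ M, g * x * g⁻¹ ∈ M) (k : ℕ) (hk : Odd k) (hgk : g ^ k = 1)
    (hinv : ∀ x ∈ M, x ^ 2 = 1 → g * x * g⁻¹ = x) :
    ∀ e : ℕ, ∀ x ∈ M, x ^ (2 ^ e) = 1 → g * x * g⁻¹ = x := by
  intro e
  induction e with
  | zero =>
    intro x _ hx
    simp at hx
    subst hx
    simp
  | succ e ih =>
    intro x hx hxe
    have h2 : g * x ^ 2 * g⁻¹ = x ^ 2 :=
      ih (x ^ 2) (M.pow_mem hx 2) (by rw [← pow_mul, ← pow_succ']; exact hxe)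
    obtain ⟨w, hw⟩ : ∃ w, w = g * x * g⁻¹ * x⁻¹ := ⟨_, rfl⟩
    have hwM : w ∈ M := hw ▸ M.mul_mem (hg x hx) (M.inv_mem hx)
    have hw2 : w ^ 2 = 1 := by
      have h3 := hab _ (hg x hx) _ (M.inv_mem hx)
      calc w ^ 2 = (g * x * g⁻¹ * x⁻¹) * (g * x * g⁻¹ * x⁻¹) := by rw [hw, pow_two]
        _ = (g * x * g⁻¹ * x⁻¹) * (x⁻¹ * (g * x * g⁻¹)) := by rw [h3]
        _ = (g * x * g⁻¹) * (x ^ 2)⁻¹ * (g * x * g⁻¹) := by group
        _ = (g * x * g⁻¹) * (g * x ^ 2 * g⁻¹)⁻¹ * (g * x * g⁻¹) := by rw [h2]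
        _ = 1 := by group
    have hgw : g * w * g⁻¹ = w := hinv w hwM hw2
    have hgx : g * x * g⁻¹ = w * x := by rw [hw]; group
    have h4 := conj_iter g x w hgw hgx k
    rw [hgk] at h4
    have h5 : w ^ k = 1 := by
      have : w ^ k * x = 1 * x := by rw [← h4]; group
      exact mul_right_cancel this
    rw [hgx, eq_one_of_odd_pow w hw2 k hk h5, one_mul]

theorem normalizer_le_centralizer_of_odd {H : Type*} [Group H] [Finite H] (P : Sylow 2 H)
    (hab : ∀ x ∈ (P : Subgroup H), ∀ y ∈ (P : Subgroup H), x * y = y * x)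
    (hodd : ∀ g ∈ Subgroup.normalizer ((P : Subgroup H) : Set H), Odd (orderOf g) →
      ∀ x ∈ (P : Subgroup H), g * x * g⁻¹ = x) :
    Subgroup.normalizer ((P : Subgroup H) : Set H) ≤
      Subgroup.centralizer ((P : Subgroup H) : Set H) := by
  intro g hg
  have := Fact.mk Nat.prime_two
  obtain ⟨s, k, hk, hsk⟩ := Nat.exists_eq_two_pow_mul_odd (orderOf_pos g).ne'
  have hu : g ^ k ∈ Subgroup.centralizer ((P : Subgroup H) : Set H) := by
    have h1 : IsPGroup 2 (Subgroup.zpowers (g ^ k)) := by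
      have h2 : (g ^ k) ^ (2 ^ s) = 1 := by
        rw [← pow_mul, mul_comm, ← hsk, pow_orderOf_eq_one]
      obtain ⟨j, _, hj⟩ := (Nat.dvd_prime_pow Nat.prime_two).1 (orderOf_dvd_of_pow_eq_one h2)
      exact IsPGroup.of_card (n := j) (by rw [Nat.card_zpowers, hj])
    have h3 := h1.inf_normalizer_sylow P
    have h4 : g ^ k ∈ Subgroup.zpowers (g ^ k) ⊓ (P : Subgroup H) := by
      rw [← h3]
      exact ⟨Subgroup.mem_zpowers _, Subgroup.pow_mem _ hg k⟩
    rw [Subgroup.mem_centralizer_iff]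
    intro x hx
    exact hab x hx _ h4.2
  have hv : g ^ (2 ^ s) ∈ Subgroup.centralizer ((P : Subgroup H) : Set H) := by
    have h2 : (g ^ (2 ^ s)) ^ k = 1 := by
      rw [← pow_mul, ← hsk, pow_orderOf_eq_one]
    have h3 : Odd (orderOf (g ^ (2 ^ s))) := Odd.of_dvd_nat hk (orderOf_dvd_of_pow_eq_one h2)
    rw [Subgroup.mem_centralizer_iff]
    intro x hx
    have := hodd _ (Subgroup.pow_mem _ hg _) h3 x hx
    calc x * g ^ (2 ^ s) = (g ^ (2 ^ s) * x * (g ^ (2 ^ s))⁻¹) * g ^ (2 ^ s) := by rw [this]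
      _ = g ^ (2 ^ s) * x := by group
  have hcop : Nat.Coprime (2 ^ s) k := by
    apply Nat.Coprime.pow_left
    exact (Nat.coprime_two_left).2 hk
  have hb := Nat.gcd_eq_gcd_ab (2 ^ s) k
  rw [hcop] at hb
  have : g = (g ^ (2 ^ s)) ^ (Nat.gcdA (2 ^ s) k) * (g ^ k) ^ (Nat.gcdB (2 ^ s) k) := by
    rw [← zpow_natCast, ← zpow_natCast, ← zpow_mul, ← zpow_mul, ← zpow_add, ← hb]
    simp
  rw [this]
  exact Subgroup.mul_mem _ (Subgroup.zpow_mem _ hv _) (Subgroup.zpow_mem _ hu _)


theorem npc_of_abelian_type {H : Type*} [Group H] [Finite H] (P : Sylow 2 H) (y b : H)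
    (hy : y ∈ (P : Subgroup H)) (hbP : b ∈ (P : Subgroup H)) (hyb : Commute y b) (m : ℕ)
    (hm : 2 ≤ m) (hyo : orderOf y = 2 ^ m) (hb2 : b ^ 2 = 1) (hbny : b ∉ Subgroup.zpowers y)
    (hgen : ∀ x ∈ (P : Subgroup H), ∃ i : ℕ, x = y ^ i ∨ x = y ^ i * b) :
    HasNormalPComplement 2 H := by
  have := Fact.mk Nat.prime_two
  obtain ⟨z, hz⟩ : ∃ z, z = y ^ (2 ^ (m - 1)) := ⟨_, rfl⟩
  have hz2 : z ^ 2 = 1 := by
    rw [hz, ← pow_mul, ← pow_succ, Nat.sub_add_cancel (by omega), ← hyo, pow_orderOf_eq_one]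
  have hz1 : z ≠ 1 := by
    rw [hz]
    intro h
    have h1 := orderOf_dvd_of_pow_eq_one h
    rw [hyo] at h1
    have := (Nat.pow_dvd_pow_iff_le_right (by norm_num)).1 h1
    omega
  have hcyc : ∀ i : ℕ, (y ^ i) ^ 2 = 1 → y ^ i = 1 ∨ y ^ i = z := by
    intro i hi
    rw [← pow_mul] at hi
    have h1 := orderOf_dvd_of_pow_eq_one hi
    rw [hyo] at h1
    have h2 : 2 ^ (m - 1) ∣ i := by
      have : 2 ^ m = 2 ^ (m - 1) * 2 := by rw [← pow_succ, Nat.sub_add_cancel (by omega)]
      rw [this] at h1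
      exact Nat.dvd_of_mul_dvd_mul_right (by norm_num) h1
    obtain ⟨r, rfl⟩ := h2
    rw [pow_mul, ← hz]
    rcases Nat.even_or_odd r with ⟨t, rfl⟩ | ⟨t, rfl⟩
    · left; rw [← two_mul, pow_mul, hz2, one_pow]
    · right; rw [pow_succ, pow_mul, hz2, one_pow, one_mul]
  have hab : ∀ x ∈ (P : Subgroup H), ∀ x' ∈ (P : Subgroup H), x * x' = x' * x := by
    intro x hx x' hx'
    obtain ⟨i, rfl | rfl⟩ := hgen x hx <;> obtain ⟨j, rfl | rfl⟩ := hgen x' hx'
    · exact (Commute.refl y).pow_pow i j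
    · exact Commute.mul_right ((Commute.refl y).pow_pow i j) (hyb.pow_left i)
    · exact Commute.mul_left ((Commute.refl y).pow_pow i j) (hyb.symm.pow_right j)
    · exact Commute.mul_left
        (Commute.mul_right ((Commute.refl y).pow_pow i j) (hyb.pow_left i))
        (Commute.mul_right (hyb.symm.pow_right j) (Commute.refl b))
  have hsq : ∀ x ∈ (P : Subgroup H), ∃ i : ℕ, x ^ 2 = (y ^ i) ^ 2 ∧ (x = y ^ i ∨ x = y ^ i * b) := by
    intro x hx
    obtain ⟨i, rfl | rfl⟩ := hgen x hx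
    · exact ⟨i, rfl, Or.inl rfl⟩
    · refine ⟨i, ?_, Or.inr rfl⟩
      rw [(hyb.pow_left i).mul_pow, hb2, mul_one]
  have hexp : ∀ x ∈ (P : Subgroup H), x ^ (2 ^ m) = 1 := by
    intro x hx
    obtain ⟨i, h, _⟩ := hsq x hx
    have h1 : 2 ^ m = 2 * 2 ^ (m - 1) := by rw [← pow_succ', Nat.sub_add_cancel (by omega)]
    rw [h1, pow_mul, h, ← pow_mul, ← h1, ← pow_mul, mul_comm, pow_mul, ← hyo, pow_orderOf_eq_one,
      one_pow]
  have hinvs : ∀ x ∈ (P : Subgroup H), x ^ 2 = 1 → x = 1 ∨ x = z ∨ x = b ∨ x = z * b := by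
    intro x hx hx2
    obtain ⟨i, h, h'⟩ := hsq x hx
    rw [hx2] at h
    rcases hcyc i h.symm with h1 | h1 <;> rcases h' with h2 | h2 <;> rw [h1] at h2
    · left; exact h2
    · right; right; left; rw [h2, one_mul]
    · right; left; exact h2
    · right; right; right; exact h2
  have hN : Subgroup.normalizer ((P : Subgroup H) : Set H) ≤
      Subgroup.centralizer ((P : Subgroup H) : Set H) := by
    apply normalizer_le_centralizer_of_odd P hab
    intro g hg hgodd x hx
    have hgk : g ^ orderOf g = 1 := pow_orderOf_eq_one g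
    have hgP : ∀ x ∈ (P : Subgroup H), g * x * g⁻¹ ∈ (P : Subgroup H) :=
      fun x hx => (Subgroup.mem_normalizer_iff.1 hg x).1 hx
    have hgz : g * z * g⁻¹ = z := by
      have hw : y ^ (2 ^ (m - 2)) ∈ (P : Subgroup H) := Subgroup.pow_mem _ hy _
      have hw2 : (y ^ (2 ^ (m - 2))) ^ 2 = z := by
        rw [hz, ← pow_mul, ← pow_succ]
        congr 2
        omega
      obtain ⟨i, h, _⟩ := hsq _ (hgP _ hw)
      rw [conj_pow, hw2, ← pow_mul] at h
      have h3 : (y ^ (i * 2)) ^ 2 = 1 := by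
        rw [← h, conj_pow, hz2]
        group
      rcases hcyc _ h3 with h4 | h4
      · exfalso
        apply hz1
        rw [h4] at h
        have : z = g⁻¹ * (g * z * g⁻¹) * g := by group
        rw [this, h]
        group
      · rw [h, h4]
    have hgb : g * b * g⁻¹ = b := by
      have h1 : (g * b * g⁻¹) ^ 2 = 1 := by
        rw [conj_pow, hb2]
        group
      rcases hinvs _ (hgP b hbP) h1 with h | h | h | h
      · exfalso
        apply hbny
        have : b = g⁻¹ * (g * b * g⁻¹) * g := by group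
        rw [this, h]
        simp
      · exfalso
        apply hbny
        have : b = g⁻¹ * (g * b * g⁻¹) * g := by group
        rw [this, h, ← hgz]
        have : g⁻¹ * (g * z * g⁻¹) * g = z := by group
        rw [this, hz]
        exact Subgroup.pow_mem _ (Subgroup.mem_zpowers y) _
      · exact h
      · exfalso
        have h4 := conj_iter g b z hgz h (orderOf g)
        rw [hgk] at h4
        have h5 : z ^ orderOf g = 1 := by
          have : z ^ orderOf g * b = 1 * b := by rw [← h4]; group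
          exact mul_right_cancel this
        exact hz1 (eq_one_of_odd_pow z hz2 _ hgodd h5)
    have hinv : ∀ x ∈ (P : Subgroup H), x ^ 2 = 1 → g * x * g⁻¹ = x := by
      intro x hx hx2
      rcases hinvs x hx hx2 with rfl | rfl | rfl | rfl
      · group
      · exact hgz
      · exact hgb
      · calc g * (z * b) * g⁻¹ = (g * z * g⁻¹) * (g * b * g⁻¹) := by group
          _ = z * b := by rw [hgz, hgb]
    exact centralizes_of_invol P hab g hgP _ hgodd hgk hinv m x hx (hexp x hx)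
  exact ⟨P, (MonoidHom.transferSylow P hN).ker, inferInstance,
    MonoidHom.ker_transferSylow_isComplement' P hN⟩


theorem transfer_neg_one {G : Type*} [Group G] [Finite G] (S : Sylow 2 G) (M : Subgroup G)
    (hM' : (M.subgroupOf (S : Subgroup G)).index = 2)
    (n : ℕ) (hord : ∀ y ∈ (S : Subgroup G), y ∉ M → 2 ^ (n - 1) < orderOf y)
    (x : G) (hxn : orderOf x = 2 ^ n) (hcon : ∀ g : G, g * x * g⁻¹ ∉ M) :
    MonoidHom.transfer (S3225.signHom (M.subgroupOf (S : Subgroup G)) hM') x = -1 := by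
  classical
  have := Fact.mk Nat.prime_two
  set ϕ := S3225.signHom (M.subgroupOf (S : Subgroup G)) hM' with hϕ
  have : Fintype (Quotient (MulAction.orbitRel (Subgroup.zpowers x) (G ⧸ (S : Subgroup G)))) :=
    Fintype.ofFinite _
  rw [MonoidHom.transfer_eq_prod_quotient_orbitRel_zpowers_quot]
  have key : ∀ (r : ℕ) (g : G) (hmem : g⁻¹ * x ^ r * g ∈ (S : Subgroup G)), r ∣ 2 ^ n →
      ϕ ⟨g⁻¹ * x ^ r * g, hmem⟩ = (-1) ^ r := by
    intro r g hmem hrdvd
    obtain ⟨j, hjn, hj⟩ := (Nat.dvd_prime_pow Nat.prime_two).1 hrdvd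
    rcases Nat.eq_zero_or_pos j with rfl | hjpos
    · rw [pow_zero] at hj
      subst hj
      have hnot : g⁻¹ * x ^ 1 * g ∉ M := by
        have := hcon g⁻¹
        rw [pow_one]
        simpa using this
      rw [S3225.signHom_apply_of_not_mem _ _ _ (fun h => hnot (Subgroup.mem_subgroupOf.1 h))]
      simp
    · have hin : g⁻¹ * x ^ r * g ∈ M := by
        by_contra hnot
        have h1 := hord _ hmem hnot
        have h2 : orderOf (g⁻¹ * x ^ r * g) = orderOf (x ^ r) := by
          have := (MulAut.conj g⁻¹).orderOf_eq (x ^ r)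
          simpa using this
        have hr0 : r ≠ 0 := by rw [hj]; positivity
        rw [h2, orderOf_pow_of_dvd hr0 (hxn ▸ hrdvd), hxn, hj,
          Nat.pow_div hjn (by norm_num)] at h1
        have : n - j ≤ n - 1 := by omega
        have := Nat.pow_le_pow_right (show 0 < 2 by norm_num) this
        omega
      rw [S3225.signHom_apply_of_mem _ _ _ (Subgroup.mem_subgroupOf.2 hin)]
      have hev : Even r := by
        rw [hj]
        exact (Nat.even_pow.2 ⟨even_two, by omega⟩)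
      exact (hev.neg_one_pow).symm
  have hterm : ∀ q : Quotient (MulAction.orbitRel (Subgroup.zpowers x) (G ⧸ (S : Subgroup G))),
      ϕ ⟨q.out.out⁻¹ * x ^ Function.minimalPeriod (x • ·) q.out * q.out.out,
          QuotientGroup.out_conj_pow_minimalPeriod_mem (S : Subgroup G) x q.out⟩
        = (-1) ^ Function.minimalPeriod (x • ·) q.out := by
    intro q
    apply key
    rw [← hxn]
    apply Function.IsPeriodicPt.minimalPeriod_dvd
    show (x • ·)^[orderOf x] q.out = q.out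
    rw [smul_iterate, pow_orderOf_eq_one]
    exact one_smul _ _
  rw [Finset.prod_congr rfl (fun q _ => hterm q), Finset.prod_pow_eq_pow_sum,
    ← Subgroup.index_eq_sum_minimalPeriod]
  have hodd : Odd (S : Subgroup G).index := by
    rw [← Nat.not_even_iff_odd, even_iff_two_dvd]
    exact S.not_dvd_index
  exact hodd.neg_one_pow


/-- Groups with a modular Sylow 2-subgroup have a normal 2-complement. Let S, of order 2^(n+1) with n ≥ 3, be a Sylow 2-subgroup of a finite group G, and suppose S contains an element a of order 2^n and an involution b with b a b⁻¹ = a^(2^(n-1) + 1); so S is the non-abelian 2-group with a cyclic subgroup of index 2 that is neither dihedral, semidihedral nor generalized quaternion. Then G has a normal 2-complement. -/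
theorem result {G : Type*} [Group G] [Finite G]
    (S : Sylow 2 G) (n : ℕ) (hn : 3 ≤ n) (hS : Nat.card ↥(S : Subgroup G) = 2 ^ (n + 1))
    (a b : G) (ha : a ∈ (S : Subgroup G)) (hb : b ∈ (S : Subgroup G))
    (hao : orderOf a = 2 ^ n) (hbo : orderOf b = 2) (hrel : b * a * b⁻¹ = a ^ (2 ^ (n - 1) + 1)) :
    Cfsg.HasNormalPComplement 2 G := by
  classical
  have := Fact.mk Nat.prime_two
  obtain ⟨z, hz⟩ : ∃ z, z = a ^ (2 ^ (n - 1)) := ⟨_, rfl⟩
  have hb2 : b ^ 2 = 1 := by rw [← hbo, pow_orderOf_eq_one]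
  have hbinv : b⁻¹ = b := by
    apply inv_eq_of_mul_eq_one_left
    rw [← pow_two, hb2]
  have hz2 : z ^ 2 = 1 := by
    rw [hz, ← pow_mul, ← pow_succ, Nat.sub_add_cancel (by omega), ← hao, pow_orderOf_eq_one]
  have hz1 : z ≠ 1 := by
    rw [hz]
    intro h
    have h1 := orderOf_dvd_of_pow_eq_one h
    rw [hao] at h1
    have := (Nat.pow_dvd_pow_iff_le_right (by norm_num)).1 h1
    omega
  have haz : Commute a z := hz ▸ (Commute.refl a).pow_right _
  have hrel' : b * a * b⁻¹ = a * z := by rw [hrel, pow_succ', hz]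
  have hzeven : ∀ r : ℕ, 1 ≤ r → z ^ (2 ^ r) = 1 := by
    intro r hr
    obtain ⟨r', rfl⟩ : ∃ r', r = r' + 1 := ⟨r - 1, by omega⟩
    rw [pow_succ', pow_mul, hz2, one_pow]
  have hbz : b * z * b⁻¹ = z := by
    calc b * z * b⁻¹ = (b * a * b⁻¹) ^ (2 ^ (n - 1)) := by rw [conj_pow, hz]
      _ = z := by rw [hrel', haz.mul_pow, ← hz, hzeven _ (by omega), mul_one]
  have hbzc : Commute b z := by
    show b * z = z * b
    calc b * z = (b * z * b⁻¹) * b := by group
      _ = z * b := by rw [hbz]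
  have hbai : ∀ i : ℕ, b * a ^ i * b⁻¹ = a ^ i * z ^ i := by
    intro i
    rw [← conj_pow, hrel', haz.mul_pow]
  have hzi : ∀ i : ℕ, (Even i ∧ z ^ i = 1) ∨ (Odd i ∧ z ^ i = z) := by
    intro i
    rcases Nat.even_or_odd i with h | h
    · left
      refine ⟨h, ?_⟩
      obtain ⟨t, rfl⟩ := h
      rw [← two_mul, pow_mul, hz2, one_pow]
    · right
      refine ⟨h, ?_⟩
      obtain ⟨t, rfl⟩ := h
      rw [pow_succ, pow_mul, hz2, one_pow, one_mul]
  have hbA : b ∉ Subgroup.zpowers a := by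
    intro h
    obtain ⟨k, hk⟩ := Subgroup.mem_zpowers_iff.1 h
    apply hz1
    have h1 : b * a * b⁻¹ = a := by
      rw [← hk]
      group
    rw [hrel'] at h1
    exact mul_left_cancel (h1.trans (mul_one a).symm)
  have hAS : Subgroup.zpowers a ≤ (S : Subgroup G) := by
    rw [Subgroup.zpowers_le]
    exact ha
  have hAidx : ((Subgroup.zpowers a).subgroupOf (S : Subgroup G)).index = 2 := by
    have h1 := ((Subgroup.zpowers a).subgroupOf (S : Subgroup G)).index_mul_card
    rw [hS, Nat.card_congr (Subgroup.subgroupOfEquivOfLe hAS).toEquiv, Nat.card_zpowers, hao,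
      pow_succ'] at h1
    exact Nat.eq_of_mul_eq_mul_right (by positivity) h1
  have hgenS : ∀ x ∈ (S : Subgroup G), ∃ i : ℕ, x = a ^ i ∨ x = a ^ i * b := by
    intro x hx
    have hpow : ∀ w ∈ Subgroup.zpowers a, ∃ i : ℕ, w = a ^ i := by
      intro w hw
      rw [← mem_powers_iff_mem_zpowers] at hw
      obtain ⟨i, hi⟩ := Submonoid.mem_powers_iff _ _ |>.1 hw
      exact ⟨i, hi.symm⟩
    by_cases hxA : x ∈ Subgroup.zpowers a
    · obtain ⟨i, hi⟩ := hpow x hxA
      exact ⟨i, Or.inl hi⟩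
    · have h1 := Subgroup.mul_mem_iff_of_index_two hAidx (a := (⟨x, hx⟩ : (S : Subgroup G)))
        (b := ⟨b, hb⟩)
      have h2 : x * b ∈ Subgroup.zpowers a := by
        have : (⟨x, hx⟩ : (S : Subgroup G)) * ⟨b, hb⟩ ∈
            (Subgroup.zpowers a).subgroupOf (S : Subgroup G) := by
          rw [h1]
          constructor
          · intro h; exact absurd (Subgroup.mem_subgroupOf.1 h) hxA
          · intro h; exact absurd (Subgroup.mem_subgroupOf.1 h) hbA
        exact Subgroup.mem_subgroupOf.1 this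
      obtain ⟨i, hi⟩ := hpow _ h2
      refine ⟨i, Or.inr ?_⟩
      rw [← hi, mul_assoc, ← pow_two, hb2, mul_one]
  have hkey : ∀ x ∈ (S : Subgroup G), ∃ i : ℕ, (x = a ^ i ∨ x = a ^ i * b) ∧
      x ^ (2 ^ (n - 1)) = z ^ i ∧ b * x * b⁻¹ = x * z ^ i := by
    intro x hx
    obtain ⟨i, rfl | rfl⟩ := hgenS x hx
    · refine ⟨i, Or.inl rfl, ?_, hbai i⟩
      rw [← pow_mul, mul_comm, pow_mul, ← hz]
    · refine ⟨i, Or.inr rfl, ?_, ?_⟩
      · have h1 : (a ^ i * b) ^ 2 = (a ^ i) ^ 2 * z ^ i := by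
          calc (a ^ i * b) ^ 2 = a ^ i * (b * a ^ i * b⁻¹) * b ^ 2 := by rw [pow_two, pow_two]; group
            _ = (a ^ i) ^ 2 * z ^ i := by rw [hbai, hb2, pow_two]; group
        have h2 : 2 ^ (n - 1) = 2 * 2 ^ (n - 2) := by
          rw [← pow_succ']
          congr 1
          omega
        have h3 : Commute ((a ^ i) ^ 2) (z ^ i) := ((haz.pow_pow i i).pow_left 2)
        rw [h2, pow_mul, h1, h3.mul_pow, ← pow_mul, ← h2, ← pow_mul, ← pow_mul, mul_comm i,
          mul_comm i, pow_mul, pow_mul z, ← hz, hzeven _ (by omega), one_pow, mul_one]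
      · calc b * (a ^ i * b) * b⁻¹ = (b * a ^ i * b⁻¹) * b := by group
          _ = a ^ i * (z ^ i * b) := by rw [hbai, mul_assoc]
          _ = a ^ i * (b * z ^ i) := by rw [(hbzc.pow_right i).eq]
          _ = a ^ i * b * z ^ i := by rw [mul_assoc]
  obtain ⟨M, hMdef⟩ : ∃ M : Subgroup G, M = (S : Subgroup G) ⊓ Subgroup.centralizer {b} := ⟨_, rfl⟩
  have hMS : M ≤ (S : Subgroup G) := hMdef ▸ inf_le_left
  have hMc : ∀ x ∈ (S : Subgroup G), (x ∈ M ↔ b * x * b⁻¹ = x) := by
    intro x hx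
    rw [hMdef, Subgroup.mem_inf, Subgroup.mem_centralizer_singleton_iff]
    constructor
    · rintro ⟨_, h⟩
      rw [← h]
      group
    · intro h
      refine ⟨hx, ?_⟩
      calc x * b = (b * x * b⁻¹) * b := by rw [h]
        _ = b * x := by group
  have hMi : ∀ x ∈ (S : Subgroup G), ∀ i : ℕ, b * x * b⁻¹ = x * z ^ i → (x ∈ M ↔ Even i) := by
    intro x hx i hi
    rw [hMc x hx, hi]
    rcases hzi i with ⟨h1, h2⟩ | ⟨h1, h2⟩
    · rw [h2, mul_one]
      exact ⟨fun _ => h1, fun _ => rfl⟩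
    · rw [h2]
      constructor
      · intro h
        exact absurd (mul_left_cancel (h.trans (mul_one x).symm)) hz1
      · intro h
        exact absurd h (Nat.not_even_iff_odd.2 h1)
  have hMpow : ∀ x ∈ (S : Subgroup G), (x ∈ M ↔ x ^ (2 ^ (n - 1)) = 1) := by
    intro x hx
    obtain ⟨i, _, h1, h2⟩ := hkey x hx
    rw [hMi x hx i h2, h1]
    rcases hzi i with ⟨h3, h4⟩ | ⟨h3, h4⟩
    · rw [h4]
      exact ⟨fun _ => rfl, fun _ => h3⟩
    · rw [h4]
      exact ⟨fun h => absurd h (Nat.not_even_iff_odd.2 h3), fun h => absurd h hz1⟩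
  have haM : a ∉ M := by
    rw [hMpow a ha, ← hz]
    exact hz1
  have hM' : (M.subgroupOf (S : Subgroup G)).index = 2 := by
    rw [Subgroup.index_eq_two_iff]
    refine ⟨⟨a, ha⟩, ?_⟩
    intro x
    obtain ⟨i, _, _, h2⟩ := hkey x x.2
    have h3 : b * ((x : G) * a) * b⁻¹ = ((x : G) * a) * z ^ (i + 1) := by
      calc b * ((x : G) * a) * b⁻¹ = (b * x * b⁻¹) * (b * a * b⁻¹) := by group
        _ = (x : G) * (z ^ i * a) * z := by rw [h2, hrel']; group
        _ = (x : G) * (a * z ^ i) * z := by rw [(haz.pow_right i).eq]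
        _ = ((x : G) * a) * z ^ (i + 1) := by rw [pow_succ]; group
    have h4 := hMi x x.2 i h2
    have h5 := hMi ((x : G) * a) (Subgroup.mul_mem _ x.2 ha) (i + 1) h3
    rw [Subgroup.mem_subgroupOf, Subgroup.mem_subgroupOf]
    show Xor ((x : G) * a ∈ M) ((x : G) ∈ M)
    rw [h4, h5]
    rcases Nat.even_or_odd i with h | h
    · right
      exact ⟨h, by rw [Nat.not_even_iff_odd]; exact h.add_one⟩
    · left
      exact ⟨h.add_one, by rw [Nat.not_even_iff_odd]; exact h⟩
  have hord : ∀ y ∈ (S : Subgroup G), y ∉ M → orderOf y = 2 ^ n := by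
    intro y hy hyM
    obtain ⟨i, _, h1, _⟩ := hkey y hy
    have h2 : ¬ y ^ (2 ^ (n - 1)) = 1 := by rwa [← hMpow y hy]
    have h3 : y ^ (2 ^ (n - 1 + 1)) = 1 := by
      rw [pow_succ, pow_mul, h1]
      rcases hzi i with ⟨_, h4⟩ | ⟨_, h4⟩
      · rw [h4, one_pow]
      · rw [h4, hz2]
    have := orderOf_eq_prime_pow h2 h3
    rwa [Nat.sub_add_cancel (by omega)] at this
  have hord' : ∀ y ∈ (S : Subgroup G), y ∉ M → 2 ^ (n - 1) < orderOf y := by
    intro y hy hyM
    rw [hord y hy hyM]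
    exact Nat.pow_lt_pow_right (by norm_num) (by omega)
  obtain ⟨V, hV⟩ : ∃ V : G →* ℤˣ,
      V = MonoidHom.transfer (S3225.signHom (M.subgroupOf (S : Subgroup G)) hM') := ⟨_, rfl⟩
  have hVS : ∀ x ∈ (S : Subgroup G), x ∉ M → V x = -1 := by
    intro x hx hxM
    rw [hV]
    apply transfer_neg_one S M hM' n hord' x (hord x hx hxM)
    intro g hg
    have h1 := (hMpow _ (hMS hg)).1 hg
    rw [conj_pow] at h1
    apply hxM
    rw [hMpow x hx]
    have : x ^ (2 ^ (n - 1)) = g⁻¹ * (g * x ^ (2 ^ (n - 1)) * g⁻¹) * g := by group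
    rw [this, h1]
    group
  have hVM : ∀ x ∈ M, V x = 1 := by
    intro x hx
    have h1 : x * a ∉ M := by
      have h2 := Subgroup.mul_mem_iff_of_index_two hM' (a := (⟨x, hMS hx⟩ : (S : Subgroup G)))
        (b := ⟨a, ha⟩)
      intro h
      have h3 : (⟨x, hMS hx⟩ : (S : Subgroup G)) * ⟨a, ha⟩ ∈ M.subgroupOf (S : Subgroup G) :=
        Subgroup.mem_subgroupOf.2 h
      rw [h2] at h3
      exact haM (Subgroup.mem_subgroupOf.1 (h3.1 (Subgroup.mem_subgroupOf.2 hx)))
    have h2 := hVS _ (Subgroup.mul_mem _ (hMS hx) ha) h1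
    rw [map_mul, hVS a ha haM] at h2
    rcases Int.units_eq_one_or (V x) with h | h
    · exact h
    · rw [h] at h2
      exact absurd h2 (by decide)
  have hKidx : V.ker.index = 2 := by
    rw [Subgroup.index_ker]
    have hrange : V.range = ⊤ := by
      rw [eq_top_iff]
      intro u _
      rcases Int.units_eq_one_or u with rfl | rfl
      · exact Subgroup.one_mem _
      · exact ⟨a, hVS a ha haM⟩
    rw [hrange, Nat.card_congr Subgroup.topEquiv.toEquiv]
    simp
  have hMK : M ≤ V.ker := fun x hx => MonoidHom.mem_ker.2 (hVM x hx)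
  have hP1 : IsPGroup 2 (M.subgroupOf V.ker) := (S.2.to_le hMS).comap_subtype
  have hP2 : ¬ 2 ∣ (M.subgroupOf V.ker).index := by
    have h1 := Subgroup.relIndex_mul_index hMK
    have h2 := Subgroup.relIndex_mul_index hMS
    have h3 : M.relIndex (S : Subgroup G) = 2 := hM'
    rw [hKidx] at h1
    rw [h3] at h2
    have h4 : (M.subgroupOf V.ker).index = (S : Subgroup G).index := by
      show M.relIndex V.ker = _
      omega
    rw [h4]
    exact S.not_dvd_index
  have ha2M : a ^ 2 ∈ M := by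
    rw [hMpow _ (Subgroup.pow_mem _ ha 2), ← pow_mul, mul_comm, pow_mul, ← hz, hz2]
  have hbM : b ∈ M := by
    rw [hMc b hb]
    group
  have hnpc : HasNormalPComplement 2 V.ker := by
    apply npc_of_abelian_type (hP1.toSylow hP2) (⟨a ^ 2, hMK ha2M⟩ : V.ker) ⟨b, hMK hbM⟩ ?_ ?_ ?_
      (n - 1) (by omega) ?_ ?_ ?_ ?_
    · exact Subgroup.mem_subgroupOf.2 ha2M
    · exact Subgroup.mem_subgroupOf.2 hbM
    · apply Subtype.ext
      show a ^ 2 * b = b * a ^ 2
      have := (hMc _ (hMS ha2M)).1 ha2M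
      calc a ^ 2 * b = (b * a ^ 2 * b⁻¹) * b := by rw [this]
        _ = b * a ^ 2 := by group
    · rw [Subgroup.orderOf_mk, orderOf_pow_of_dvd (by norm_num) (by rw [hao]; exact dvd_pow_self 2 (by omega)),
        hao]
      have : 2 ^ n = 2 * 2 ^ (n - 1) := by rw [← pow_succ', Nat.sub_add_cancel (by omega)]
      rw [this]
      simp
    · apply Subtype.ext
      exact hb2
    · intro h
      obtain ⟨k, hk⟩ := Subgroup.mem_zpowers_iff.1 h
      apply hbA
      have h1 := congrArg Subtype.val hk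
      simp only [Subgroup.coe_zpow] at h1
      rw [← h1]
      exact Subgroup.zpow_mem _ (Subgroup.pow_mem _ (Subgroup.mem_zpowers a) 2) k
    · intro x hx
      have hxM : (x : G) ∈ M := Subgroup.mem_subgroupOf.1 hx
      obtain ⟨i, h1, _, h2⟩ := hkey x (hMS hxM)
      obtain ⟨r, hr⟩ := (hMi x (hMS hxM) i h2).1 hxM
      refine ⟨r, ?_⟩
      rcases h1 with h1 | h1
      · left
        apply Subtype.ext
        show (x : G) = (a ^ 2) ^ r
        rw [h1, hr, ← two_mul, pow_mul]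
      · right
        apply Subtype.ext
        show (x : G) = (a ^ 2) ^ r * b
        rw [h1, hr, ← two_mul, pow_mul]
  obtain ⟨N, hN⟩ := Cfsg.Agent.Lib.Helper1_PNil.hasNormalPComplement_iff.1 hnpc
  exact Cfsg.Agent.Lib.Helper1_PNil.hasNormalPComplement_iff.2
    ⟨_, Cfsg.Agent.Lib.Helper1_PNil.IsNPC.map_subtype inferInstance ⟨1, by rw [hKidx, pow_one]⟩ hN⟩

end Cfsg.Agent.S3178
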