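import Cfsg.Statements.S4037
import Cfsg.Agent.Lib.Helper1_Kazarin

set_option autoImplicit false
open Cfsg

namespace Cfsg.Agent.S4037

/-- If an element x of a finite group G has a conjugacy class of prime-power size, then the normal closure of x in G (the subgroup generated by the conjugacy class of x) is solvable. -/
theorem result {G : Type*} [Group G] [Finite G]
    (x : G) {p : ℕ} (hp : p.Prime) (k : ℕ) (hx : (ConjClasses.mk x).carrier.ncard = p ^ k) :
    Group.IsSolvable ↥(Subgroup.normalClosure ({x} : Set G)) := by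
  haveI := Fact.mk hp
  haveI := Cfsg.pCore_normal p G
  rw [Cfsg.Agent.Lib.Helper1_Kazarin.ncard_carrier] at hx
  set S : Set G := Group.conjugatesOfSet ({x} : Set G) with hS
  have hidx : ∀ s ∈ S, (Subgroup.centralizer ({s} : Set G)).index = p ^ k := by
    intro s hs
    rw [hS, Group.mem_conjugatesOfSet_iff] at hs
    obtain ⟨v, hv, hc⟩ := hs
    rw [Set.mem_singleton_iff] at hv
    subst hv
    rw [← Cfsg.Agent.Lib.Helper2_BlockOm.index_centralizer_conj hc]
    exact hx
  set π := QuotientGroup.mk' (Cfsg.pCore p G) with hπ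
  have hcomm : ∀ s ∈ S, ∀ t ∈ S, π s * π t = π t * π s := by
    intro s hs t ht
    have h1 := Cfsg.Agent.Lib.Helper1_Kazarin.comm_mem_pCore (hidx s hs) (hidx t ht)
    rw [← QuotientGroup.eq_one_iff] at h1
    have h2 : π s * π t * (π s)⁻¹ * (π t)⁻¹ = 1 := by
      rw [← map_inv, ← map_inv, ← map_mul, ← map_mul, ← map_mul]
      exact h1
    calc π s * π t = (π s * π t * (π s)⁻¹ * (π t)⁻¹) * (π t * π s) := by group
      _ = π t * π s := by rw [h2, one_mul]
  have hN : Subgroup.normalClosure ({x} : Set G) = Subgroup.closure S := rfl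
  have h1 : ∀ t ∈ S, Subgroup.closure S ≤ (Subgroup.centralizer ({π t} : Set (G ⧸ Cfsg.pCore p G))).comap π := by
    intro t ht
    rw [Subgroup.closure_le]
    intro s hs
    rw [SetLike.mem_coe, Subgroup.mem_comap, Subgroup.mem_centralizer_singleton_iff]
    exact hcomm s hs t ht
  have h2 : ∀ n ∈ Subgroup.closure S,
      Subgroup.closure S ≤ (Subgroup.centralizer ({π n} : Set (G ⧸ Cfsg.pCore p G))).comap π := by
    intro n hn
    rw [Subgroup.closure_le]
    intro t ht
    rw [SetLike.mem_coe, Subgroup.mem_comap, Subgroup.mem_centralizer_singleton_iff]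
    have := h1 t ht hn
    rw [Subgroup.mem_comap, Subgroup.mem_centralizer_singleton_iff] at this
    exact this.symm
  rw [hN]
  set f : ↥(Subgroup.closure S) →* (G ⧸ Cfsg.pCore p G) := π.comp (Subgroup.closure S).subtype with hf
  haveI : Group.IsSolvable ↥f.range := by
    apply Group.isSolvable_of_comm
    rintro ⟨_, a, rfl⟩ ⟨_, b, rfl⟩
    apply Subtype.ext
    have := h2 b b.2 a.2
    rw [Subgroup.mem_comap, Subgroup.mem_centralizer_singleton_iff] at this
    exact this
  haveI : Group.IsSolvable ↥f.ker := by
    have h3 : IsPGroup p (Cfsg.pCore p G) := Cfsg.Agent.Lib.Helper4_Core.pCore_isPGroup p G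
    suffices h4 : IsPGroup p ↥f.ker by
      haveI := h4.isNilpotent
      infer_instance
    apply h3.of_injective ((Subgroup.closure S).subtype.comp f.ker.subtype |>.codRestrict _ ?_)
    · intro a b hab
      have := congrArg Subtype.val hab
      exact Subtype.ext (Subtype.ext this)
    · intro z
      have := z.2
      rw [MonoidHom.mem_ker] at this
      exact (QuotientGroup.eq_one_iff _).mp this
  exact Group.isSolvable_of_ker_le_range f.ker.subtype f.rangeRestrict (by
    rw [MonoidHom.ker_rangeRestrict, Subgroup.range_subtype])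

end Cfsg.Agent.S4037
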