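import Cfsg.Statements.S3200
import Cfsg.Agent.S4037
import Cfsg.Agent.S0003
import Cfsg.Agent.S0004
import Cfsg.Agent.S0005
import Cfsg.Agent.Lib.Helper4_Syl

set_option autoImplicit false
open Cfsg

namespace Cfsg.Agent.S3200

open scoped Pointwise
open Cfsg.Agent.Lib.Helper4_Syl

universe u

theorem card_odd {H : Type*} [Group H] [Finite H] (S : Sylow 2 H) (C : Subgroup H)
    (hSC : Subgroup.IsComplement' (S : Subgroup H) C) : (Nat.card C).Coprime 2 := by
  haveI : Fact (Nat.Prime 2) := ⟨Nat.prime_two⟩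
  rw [← hSC.symm.index_eq_card, Nat.coprime_comm, Nat.Prime.coprime_iff_not_dvd Nat.prime_two]
  exact S.not_dvd_index

theorem quot {H : Type*} [Group H] [Finite H] (S : Sylow 2 H) (C : Subgroup H)
    (hC : IsMulCommutative ↥C) (hSC : Subgroup.IsComplement' (S : Subgroup H) C)
    (N : Subgroup H) [N.Normal] :
    ∃ (P : Sylow 2 (H ⧸ N)) (D : Subgroup (H ⧸ N)),
      IsMulCommutative ↥D ∧ Subgroup.IsComplement' (P : Subgroup (H ⧸ N)) D := by
  haveI : Fact (Nat.Prime 2) := ⟨Nat.prime_two⟩
  refine ⟨S.mapSurjective (QuotientGroup.mk'_surjective N), C.map (QuotientGroup.mk' N),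
    inferInstance, ?_⟩
  apply Subgroup.isComplement'_of_disjoint_and_mul_eq_univ
  · apply Subgroup.disjoint_of_coprime_natCard
    obtain ⟨k, hk⟩ := IsPGroup.iff_card.mp
      (S.mapSurjective (QuotientGroup.mk'_surjective N)).isPGroup'
    rw [hk]
    apply Nat.Coprime.pow_left
    exact (Nat.Coprime.coprime_dvd_left (Subgroup.card_map_dvd _ _) (card_odd S C hSC)).symm
  · rw [Set.eq_univ_iff_forall]
    intro y
    obtain ⟨h, rfl⟩ := QuotientGroup.mk'_surjective N y
    obtain ⟨⟨⟨s, hs⟩, ⟨c, hc⟩⟩, hsc⟩ := hSC.2 h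
    have hsc' : s * c = h := hsc
    refine ⟨QuotientGroup.mk' N s, ⟨s, hs, rfl⟩, QuotientGroup.mk' N c, ⟨c, hc, rfl⟩, ?_⟩
    show QuotientGroup.mk' N s * QuotientGroup.mk' N c = _
    rw [← map_mul, hsc']

theorem solv : ∀ (n : ℕ) (H : Type u) [Group H] [Finite H], Nat.card H = n → ∀ (S : Sylow 2 H)
    (C : Subgroup H), IsMulCommutative ↥C → Subgroup.IsComplement' (S : Subgroup H) C →
    Group.IsSolvable H := by
  intro n
  induction n using Nat.strong_induction_on with
  | _ n ih =>
    intro H _ _ hn S C hC hSC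
    haveI : Fact (Nat.Prime 2) := ⟨Nat.prime_two⟩
    obtain ⟨k, hk⟩ := IsPGroup.iff_card.mp S.isPGroup'
    by_cases hCbot : C = ⊥
    · have h1 := hSC.card_mul_card
      rw [hCbot, Subgroup.card_bot, mul_one, hk] at h1
      have h2 : IsPGroup 2 H := IsPGroup.of_card h1.symm
      haveI := h2.isNilpotent
      infer_instance
    · obtain ⟨⟨x, hx⟩, hx0⟩ := (Subgroup.ne_bot_iff_exists_ne_one).mp hCbot
      have hx1 : x ≠ 1 := fun h => hx0 (Subtype.ext h)
      have hle : C ≤ Subgroup.centralizer ({x} : Set H) := by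
        intro c hc
        rw [Subgroup.mem_centralizer_singleton_iff]
        have := hC.is_comm.comm (⟨c, hc⟩ : C) ⟨x, hx⟩
        simpa using congrArg Subtype.val this
      have hdvd : (Subgroup.centralizer ({x} : Set H)).index ∣ 2 ^ k := by
        rw [← hk, ← hSC.index_eq_card]
        exact Subgroup.index_dvd_of_le hle
      obtain ⟨j, -, hj⟩ := (Nat.dvd_prime_pow Nat.prime_two).mp hdvd
      have hNs : Group.IsSolvable ↥(Subgroup.normalClosure ({x} : Set H)) :=
        Cfsg.Agent.S4037.result x Nat.prime_two j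
          (by rw [Cfsg.Agent.Lib.Helper1_Kazarin.ncard_carrier]; exact hj)
      set N := Subgroup.normalClosure ({x} : Set H) with hN
      have hxN : x ∈ N := Subgroup.subset_normalClosure (Set.mem_singleton x)
      have hlt : Nat.card (H ⧸ N) < n := by
        rw [← hn, ← N.card_mul_index]
        show N.index < _
        have h1 : 1 < Nat.card N := by
          rw [Finite.one_lt_card_iff_nontrivial]
          exact ⟨⟨⟨x, hxN⟩, 1, fun h => hx1 (congrArg Subtype.val h)⟩⟩
        have h2 : 0 < N.index := Nat.pos_of_ne_zero Subgroup.index_ne_zero_of_finite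
        nlinarith
      obtain ⟨P, D, hD, hPD⟩ := quot S C hC hSC N
      haveI := ih _ hlt (H ⧸ N) rfl P D hD hPD
      exact Group.isSolvable_of_ker_le_range N.subtype (QuotientGroup.mk' N) (by simp)

/-- Let H be a finite group in which a Sylow 2-subgroup has an abelian complement (an abelian subgroup meeting it trivially whose product with it is all of H). Then H is solvable, and every subgroup and every quotient group of H again has a Sylow 2-subgroup with an abelian complement. -/
theorem result {H : Type*} [Group H] [Finite H]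
    (S : Sylow 2 H) (C : Subgroup H) (hC : IsMulCommutative ↥C) (hSC : Subgroup.IsComplement' (S : Subgroup H) C) :
    Group.IsSolvable H ∧
    (∀ L : Subgroup H, ∃ (P : Sylow 2 ↥L) (D : Subgroup ↥L), IsMulCommutative ↥D ∧ Subgroup.IsComplement' (P : Subgroup ↥L) D) ∧
    (∀ (N : Subgroup H) [N.Normal], ∃ (P : Sylow 2 (H ⧸ N)) (D : Subgroup (H ⧸ N)),
      IsMulCommutative ↥D ∧ Subgroup.IsComplement' (P : Subgroup (H ⧸ N)) D) := by
  haveI : Fact (Nat.Prime 2) := ⟨Nat.prime_two⟩
  have hsolv : Group.IsSolvable H := solv _ H rfl S C hC hSC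
  refine ⟨hsolv, ?_, fun N _ => quot S C hC hSC N⟩
  intro L
  obtain ⟨P⟩ : Nonempty (Sylow 2 L) := inferInstance
  obtain ⟨a, ha⟩ := IsPGroup.iff_card.mp P.isPGroup'
  obtain ⟨k, hk⟩ := IsPGroup.iff_card.mp S.isPGroup'
  have hidx : (P : Subgroup L).index.Coprime 2 := by
    rw [Nat.coprime_comm, Nat.Prime.coprime_iff_not_dvd Nat.prime_two]
    exact P.not_dvd_index
  have hcop : (P : Subgroup L).index.Coprime (Nat.card (P : Subgroup L)) := by
    rw [ha]; exact Nat.Coprime.pow_right a hidx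
  have hcard : Nat.card L = (P : Subgroup L).index * Nat.card (P : Subgroup L) := by
    rw [mul_comm, Subgroup.card_mul_index]
  obtain ⟨D, hD⟩ := Cfsg.Agent.S0003.result (G := L) _ _ hcard hcop
  refine ⟨P, D, ?_, Subgroup.isComplement'_of_coprime (by rw [hD, mul_comm, ← hcard])
    (by rw [hD]; exact hcop.symm)⟩
  set K := D.map L.subtype with hK
  have hKcard : Nat.card K = (P : Subgroup L).index := by
    rw [hK, Subgroup.card_map_of_injective L.subtype_injective, hD]
  have hG : Nat.card H = Nat.card C * Nat.card (S : Subgroup H) := by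
    rw [mul_comm]; exact hSC.card_mul_card.symm
  have hmn : (Nat.card C).Coprime (Nat.card (S : Subgroup H)) := by
    rw [hk]; exact Nat.Coprime.pow_right k (card_odd S C hSC)
  obtain ⟨H₁, hH₁, hKH⟩ := Cfsg.Agent.S0005.result _ _ hG hmn K
    (by rw [hKcard, hk]; exact Nat.Coprime.pow_right k hidx)
  obtain ⟨g, hg⟩ := Cfsg.Agent.S0004.result _ _ hG hmn C H₁ rfl hH₁
  have hcomm : ∀ x ∈ K, ∀ y ∈ K, x * y = y * x := by
    intro x hx y hy
    have hx' := hKH hx
    have hy' := hKH hy
    rw [← hg, mem_conj_smul] at hx' hy'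
    have := hC.is_comm.comm (⟨_, hx'⟩ : C) ⟨_, hy'⟩
    have h2 : (g⁻¹ * x * g) * (g⁻¹ * y * g) = (g⁻¹ * y * g) * (g⁻¹ * x * g) := by
      simpa using congrArg Subtype.val this
    calc x * y = g * ((g⁻¹ * x * g) * (g⁻¹ * y * g)) * g⁻¹ := by group
      _ = g * ((g⁻¹ * y * g) * (g⁻¹ * x * g)) * g⁻¹ := by rw [h2]
      _ = y * x := by group
  refine ⟨⟨fun x y => ?_⟩⟩
  apply Subtype.ext
  apply Subtype.ext
  exact hcomm _ ⟨x, x.2, rfl⟩ _ ⟨y, y.2, rfl⟩

end Cfsg.Agent.S3200
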