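import Mathlib
import Cfsg.Agent.Lib.helper6_Cyclic
import Cfsg.Statements.S3554

set_option autoImplicit false
open Cfsg

namespace Cfsg.Agent.S3554

/-- Let G act faithfully and transitively on a finite set and suppose G has a non-trivial cyclic normal subgroup. Then some element of G of prime order fixes no point. -/
theorem result {G Ω : Type*} [Group G] [Finite G] [MulAction G Ω] [FaithfulSMul G Ω] [Finite Ω]
    (htrans : MulAction.IsPretransitive G Ω) (C : Subgroup G) (hC : C.Normal) (hC1 : C ≠ ⊥) (hcyc : IsCyclic ↥C) :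
    ∃ g : G, (orderOf g).Prime ∧ ∀ ω : Ω, g • ω ≠ ω := by
  classical
  have hCnt : Nontrivial C := (Subgroup.nontrivial_iff_ne_bot C).2 hC1
  obtain ⟨p, hp, hpdvd⟩ : ∃ p, p.Prime ∧ p ∣ Nat.card C :=
    Nat.exists_prime_and_dvd (by have := Finite.one_lt_card (α := C); omega)
  have := Fact.mk hp
  obtain ⟨c, hc⟩ := exists_prime_orderOf_dvd_card' p hpdvd
  have hc' : orderOf (c : G) = p := by rw [Subgroup.orderOf_coe]; exact hc
  refine ⟨c, by rw [hc']; exact hp, ?_⟩
  intro ω hω
  have hzfix : ∀ k : ℤ, (c : G) ^ k • ω = ω := by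
    intro k
    have : (c : G) ^ k ∈ MulAction.stabilizer G ω :=
      (MulAction.stabilizer G ω).zpow_mem (MulAction.mem_stabilizer_iff.2 hω) k
    exact this
  have hall : ∀ ω' : Ω, (c : G) • ω' = ω' := by
    intro ω'
    obtain ⟨g, rfl⟩ := MulAction.exists_smul_eq G ω ω'
    have h1 : g⁻¹ * c * g ∈ Subgroup.zpowers (c : G) := by
      apply Cfsg.Agent.Lib.helper6_Cyclic.mem_zpowers_of_pow_orderOf' C c.2
      · have := hC.conj_mem c c.2 g⁻¹
        simpa using this
      · have : g⁻¹ * c * g = g⁻¹ * c * g⁻¹⁻¹ := by simp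
        rw [this, conj_pow, pow_orderOf_eq_one]; simp
    obtain ⟨k, hk⟩ := h1
    have h2 : (c : G) * g = g * (c : G) ^ k := by
      simp only at hk
      rw [hk]; group
    rw [← mul_smul, h2, mul_smul, hzfix]
  have h1 : (c : G) = 1 := FaithfulSMul.eq_of_smul_eq_smul (α := Ω) (by
    intro a; rw [hall a, one_smul])
  rw [h1, orderOf_one] at hc'
  exact hp.one_lt.ne hc'

end Cfsg.Agent.S3554
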