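import Cfsg.Statements.S3808
import Cfsg.Agent.Lib.Helper1_ExtraIdx
import Cfsg.Agent.Lib.Helper1_SZ

set_option autoImplicit false
open Cfsg

namespace Cfsg.Agent.S3808

open Subgroup Cfsg.Agent.Lib.Helper1_ExtraIdx

/-- Let S be a finite p-group with an extraspecial subgroup Q of index p. Then either Z(S) = Z(Q), or S = Q·Z(S) and Z(S) has order p². -/
theorem result {S : Type*} [Group S] [Finite S] (p : ℕ) [Fact p.Prime] (hS : IsPGroup p S) (Q : Subgroup S) (hQ : Cfsg.IsExtraspecial p ↥Q) (hQi : Q.index = p) :
    Subgroup.center S = (Subgroup.center ↥Q).map Q.subtype ∨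
      (Q ⊔ Subgroup.center S = ⊤ ∧ Nat.card (Subgroup.center S) = p ^ 2) := by
  haveI hQn := normal_of_index_p hS Q hQi
  have hZle := center_map_le_center hS Q hQ hQi
  have hinf : center S ⊓ Q = (center Q).map Q.subtype := by
    apply le_antisymm
    · rintro z ⟨hz, hzQ⟩
      refine ⟨⟨z, hzQ⟩, ?_, rfl⟩
      rw [SetLike.mem_coe, mem_center_iff]
      intro y
      exact Subtype.ext (mem_center_iff.mp hz y)
    · apply le_inf hZle
      rintro _ ⟨z, -, rfl⟩
      exact z.2
  by_cases hle : center S ≤ Q
  · left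
    rw [← hinf]; exact (inf_eq_left.mpr hle).symm
  · right
    have htop : Q ⊔ center S = ⊤ := by
      apply eq_top_of_lt Q _ hQi
      exact lt_of_le_of_ne le_sup_left (fun h => hle (h ▸ le_sup_right))
    refine ⟨htop, ?_⟩
    have h1 : Q.relIndex (center S) = p := by
      have := Subgroup.relIndex_sup_right (center S) Q
      rw [sup_comm, htop, Subgroup.relIndex_top_right, hQi] at this
      exact this.symm
    have h2 : Nat.card (center S ⊓ Q : Subgroup S) * Q.relIndex (center S) = Nat.card (center S) := by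
      rw [← Subgroup.inf_relIndex_left]
      exact Cfsg.Agent.Lib.Helper1_SZ.card_mul_relIndex inf_le_left
    rw [hinf, Subgroup.card_map_of_injective Q.subtype_injective, hQ.2, h1] at h2
    rw [← h2, sq]

end Cfsg.Agent.S3808
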