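import Cfsg.Statements.S3809
import Cfsg.Agent.Lib.Helper1_ExtraIdx
import Cfsg.Agent.S0095

set_option autoImplicit false
open Cfsg

namespace Cfsg.Agent.S3809

open Subgroup Cfsg.Agent.Lib.Helper1_ExtraIdx
open scoped commutatorElement

/-- Let S be a finite p-group with an extraspecial subgroup of index p. Then S has order p^(2+2n) for some n ≥ 1, derived length at most 3, and exponent dividing p³. -/
theorem result {S : Type*} [Group S] [Finite S] (p : ℕ) [Fact p.Prime] (hS : IsPGroup p S) (Q : Subgroup S) (hQ : Cfsg.IsExtraspecial p ↥Q) (hQi : Q.index = p) :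
    (∃ n : ℕ, 1 ≤ n ∧ Nat.card S = p ^ (2 + 2 * n)) ∧ derivedSeries S 3 = ⊥ ∧ ∀ x : S, x ^ (p ^ 3) = 1 := by
  haveI hQn := normal_of_index_p hS Q hQi
  have hp : p.Prime := Fact.out
  obtain ⟨n, hn, hcard⟩ := Cfsg.Agent.S0095.result hQ
  have hquot : Nat.card (S ⧸ Q) = p := hQi
  refine ⟨⟨n, hn, ?_⟩, ?_, ?_⟩
  · rw [← Subgroup.card_mul_index Q, hcard, hQi, ← pow_succ]; congr 1; ring
  · have hcyc : IsCyclic (S ⧸ Q) := isCyclic_of_prime_card hquot
    have h1 : derivedSeries S 1 ≤ Q := by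
      rw [derivedSeries_one, _root_.commutator_def, commutator_le]
      intro a _ b _
      haveI : IsMulCommutative (S ⧸ Q) := hcyc.isMulCommutative
      rw [← QuotientGroup.eq_one_iff]
      have h5 : ((⁅a, b⁆ : S) : S ⧸ Q) = ⁅(a : S ⧸ Q), (b : S ⧸ Q)⁆ := rfl
      rw [h5, commutatorElement_eq_one_iff_mul_comm]
      exact mul_comm' _ _
    have h2 : derivedSeries S 2 ≤ (center Q).map Q.subtype := by
      have : derivedSeries S 2 = ⁅derivedSeries S 1, derivedSeries S 1⁆ := rfl
      rw [this]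
      refine (commutator_mono h1 h1).trans ?_
      have h3 : ⁅Q, Q⁆ = (commutator Q).map Q.subtype := by
        rw [_root_.commutator_def, map_commutator, ← MonoidHom.range_eq_map, Subgroup.range_subtype]
      rw [h3, hQ.1.2.2]
    have h3 : derivedSeries S 3 = ⁅derivedSeries S 2, derivedSeries S 2⁆ := rfl
    rw [h3, eq_bot_iff]
    refine (commutator_mono h2 h2).trans ?_
    rw [commutator_le]
    rintro _ ⟨a, ha, rfl⟩ _ ⟨b, hb, rfl⟩
    rw [mem_bot, commutatorElement_eq_one_iff_mul_comm]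
    exact congrArg Subtype.val (mem_center_iff.mp hb a)
  · intro x
    have h1 : x ^ p ∈ Q := by
      rw [← QuotientGroup.eq_one_iff, QuotientGroup.mk_pow, ← hquot]
      exact pow_card_eq_one'
    have h2 : (⟨x ^ p, h1⟩ : Q) ^ p ∈ center Q := by
      rw [← hQ.1.2.1]
      exact (Cfsg.Agent.S0012.result p hQ.1.1).2 _
    have h3 : ((⟨(⟨x ^ p, h1⟩ : Q) ^ p, h2⟩ : center Q)) ^ p = 1 := by
      have h6 := hQ.2
      have h7 : ∀ z : center Q, z ^ Nat.card (center Q) = 1 := fun z => pow_card_eq_one'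
      rw [h6] at h7
      exact h7 _
    have h4 := congrArg (fun z : center Q => ((z : Q) : S)) h3
    simp only [SubgroupClass.coe_pow, OneMemClass.coe_one] at h4
    rw [show p ^ 3 = p * p * p by ring, pow_mul, pow_mul]
    exact h4

end Cfsg.Agent.S3809
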