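import Cfsg.Statements.S3824

import Cfsg.Agent.Lib.CharBurnside
import Cfsg.Agent.Lib.Helper7_Index
set_option autoImplicit false
open Cfsg

namespace Cfsg.Agent.S3824

open Cfsg.Agent.Lib.CharBurnside Cfsg.Agent.Lib.Helper7_Index

universe u

theorem aux (n : ℕ) : ∀ (G : Type u) [Group G] [Finite G], Nat.card G = n →
    ∀ A : Subgroup G, IsMulCommutative A → (∃ k : ℕ, A.index = 2 ^ k) → Group.IsSolvable G := by
  induction n using Nat.strong_induction_on with
  | _ n ih =>
    intro G _ _ hn A hA hidx
    obtain ⟨k, hk⟩ := hidx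
    by_cases hsub : Subsingleton G
    · infer_instance
    haveI : Nontrivial G := not_subsingleton_iff_nontrivial.mp hsub
    by_cases hsimple : IsSimpleGroup G
    · haveI := Fintype.ofFinite G
      by_cases hAbot : A = ⊥
      · have h1 : Nat.card G = 2 ^ k := by
          rw [← hk, hAbot, Subgroup.index_bot]
        haveI : Fact (Nat.Prime 2) := ⟨Nat.prime_two⟩
        have h2 : IsPGroup 2 G := IsPGroup.of_card h1
        haveI := h2.isNilpotent
        infer_instance
      · obtain ⟨g, hgA, hg⟩ := (Subgroup.bot_or_exists_ne_one A).resolve_left hAbot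
        have hle : A ≤ Subgroup.centralizer ({g} : Set G) := by
          intro x hx
          rw [Subgroup.mem_centralizer_singleton_iff]
          exact congrArg Subtype.val (mul_comm' (⟨x, hx⟩ : A) ⟨g, hgA⟩)
        have h1 := Subgroup.index_dvd_of_le hle
        rw [hk] at h1
        obtain ⟨j, _, hj⟩ := (Nat.dvd_prime_pow Nat.prime_two).mp h1
        have hprime := prime_card_of_prime_power_class 2 j Nat.prime_two g hg hj
        haveI : Fact (Nat.card G).Prime := ⟨hprime⟩
        haveI : IsCyclic G := isCyclic_of_prime_card rfl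
        exact Group.isSolvable_of_comm (fun x y => IsCyclic.commutative.is_comm.comm x y)
    · have hex : ∃ N : Subgroup G, N.Normal ∧ N ≠ ⊥ ∧ N ≠ ⊤ := by
        by_contra hcon
        push Not at hcon
        apply hsimple
        exact ⟨fun N hN => by
          by_cases h0 : N = ⊥
          · exact Or.inl h0
          · exact Or.inr (hcon N hN h0)⟩
      obtain ⟨N, hN, hN0, hN1⟩ := hex
      have hmul := N.card_mul_index
      have hidx1 : N.index ≠ 1 := fun h => hN1 (Subgroup.index_eq_one.mp h)
      have hcard1 : Nat.card N ≠ 1 := fun h => hN0 (Subgroup.card_eq_one.mp h)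
      have hidx0 : N.index ≠ 0 := Subgroup.FiniteIndex.index_ne_zero
      have hcard0 : Nat.card N ≠ 0 := Nat.card_pos.ne'
      have hlt1 : Nat.card N < n := by
        rw [← hn, ← hmul]
        exact lt_mul_of_one_lt_right (Nat.pos_of_ne_zero hcard0) (by omega)
      have hlt2 : N.index < n := by
        rw [← hn, ← hmul]
        exact lt_mul_of_one_lt_left (Nat.pos_of_ne_zero hidx0) (by omega)
      haveI h1 : Group.IsSolvable N := by
        refine ih _ hlt1 N rfl (A.subgroupOf N) inferInstance ?_
        have h3 : A.relIndex N ∣ 2 ^ k := hk ▸ relIndex_normal_dvd_index A N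
        obtain ⟨j, _, hj⟩ := (Nat.dvd_prime_pow Nat.prime_two).mp h3
        exact ⟨j, hj⟩
      haveI h2 : Group.IsSolvable (G ⧸ N) := by
        refine ih _ hlt2 (G ⧸ N) (by rw [Subgroup.index]) (A.map (QuotientGroup.mk' N))
          inferInstance ?_
        have h3 : (A.map (QuotientGroup.mk' N)).index ∣ 2 ^ k :=
          hk ▸ Subgroup.index_map_dvd A (QuotientGroup.mk'_surjective N)
        obtain ⟨j, _, hj⟩ := (Nat.dvd_prime_pow Nat.prime_two).mp h3
        exact ⟨j, hj⟩
      exact (Group.isSolvable_iff_subgroup_quotient N).mpr ⟨h1, h2⟩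

/-- Every finite group having an abelian subgroup whose index is a power of 2 is solvable. -/
theorem result {G : Type*} [Group G] [Finite G]
    (A : Subgroup G) (hA : IsMulCommutative A) (hidx : ∃ k : ℕ, A.index = 2 ^ k) : Group.IsSolvable G := by
  exact aux _ G rfl A hA hidx

end Cfsg.Agent.S3824
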