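import Cfsg.Statements.S3825
import Cfsg.Agent.S4023

set_option autoImplicit false
open Cfsg

namespace Cfsg.Agent.S3825

open scoped commutatorElement

/-- Let U be a subgroup of a finite group H and w an involution of H normalizing U and commuting with exactly two elements of U, the identity and y. If V is a non-cyclic elementary abelian 2-subgroup of U containing y which is normal in U and invariant under w, then V is a Sylow 2-subgroup of U, V has order 4, and U/V is abelian. -/
theorem result {H : Type*} [Group H] [Finite H] (U : Subgroup H) (w : H) (hw : orderOf w = 2)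
    (hwU : w ∈ Subgroup.normalizer (U : Set H)) (y : H) (hy : y ≠ 1) (hyU : y ∈ U)
    (hfix : ∀ u ∈ U, w * u * w⁻¹ = u ↔ (u = 1 ∨ u = y))
    (V : Subgroup H) (hVU : V ≤ U) (hVn : (V.subgroupOf U).Normal) (hVw : ∀ v ∈ V, w * v * w⁻¹ ∈ V)
    (hVe : Cfsg.IsElementaryAbelian 2 V) (hVc : ¬ IsCyclic ↥V) (hyV : y ∈ V) :
    ¬ 2 ∣ V.relIndex U ∧ Nat.card ↥V = 4 ∧ ⁅U, U⁆ ≤ V := by
  have hw2 : w * w = 1 := by
    have := pow_orderOf_eq_one w
    rwa [hw, sq] at this
  have hwi : w⁻¹ = w := inv_eq_of_mul_eq_one_left hw2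
  have hcm : ∀ a b : H, w * (a * b) * w⁻¹ = (w * a * w⁻¹) * (w * b * w⁻¹) := by
    intro a b; group
  have hcc : ∀ a : H, w * (w * a * w⁻¹) * w⁻¹ = a := by
    intro a
    rw [hwi]
    calc w * (w * a * w) * w = (w * w) * a * (w * w) := by group
      _ = a := by rw [hw2, one_mul, mul_one]
  have hV2 : ∀ v ∈ V, v * v = 1 := by
    intro v hv
    have := hVe.2 v hv
    rwa [sq] at this
  have hVi : ∀ v ∈ V, v⁻¹ = v := fun v hv => inv_eq_of_mul_eq_one_left (hV2 v hv)
  have hVk : ∀ a ∈ V, ∀ b ∈ V, a * b = b * a := by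
    intro a ha b hb
    haveI := hVe.1
    exact congrArg Subtype.val (mul_comm' (⟨a, ha⟩ : ↥V) ⟨b, hb⟩)
  have hyf : w * y * w⁻¹ = y := (hfix y hyU).2 (Or.inr rfl)
  -- step b
  have hb : ∀ v ∈ V, v ≠ 1 → v ≠ y → w * v * w⁻¹ = v * y := by
    intro v hv hv1 hvy
    have hcv := hVw v hv
    have h1 : w * (v * (w * v * w⁻¹)) * w⁻¹ = v * (w * v * w⁻¹) := by
      rw [hcm, hcc]
      exact hVk _ hcv _ hv
    rcases (hfix _ (hVU (mul_mem hv hcv))).1 h1 with h | h
    · exfalso
      have h2 : w * v * w⁻¹ = v := by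
        exact (inv_eq_of_mul_eq_one_right h).symm.trans (hVi v hv)
      rcases (hfix v (hVU hv)).1 h2 with h3 | h3
      · exact hv1 h3
      · exact hvy h3
    · calc w * v * w⁻¹ = v⁻¹ * (v * (w * v * w⁻¹)) := by group
        _ = v * y := by rw [h, hVi v hv]
  obtain ⟨v', hv', hv'1, hv'y⟩ : ∃ v' ∈ V, v' ≠ 1 ∧ v' ≠ y := by
    by_contra hcon
    push_neg at hcon
    apply hVc
    refine ⟨⟨⟨y, hyV⟩, ?_⟩⟩
    intro v
    by_cases hv1 : (v : H) = 1
    · have : v = 1 := Subtype.ext hv1
      rw [this]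
      exact (Subgroup.zpowers (⟨y, hyV⟩ : ↥V)).one_mem
    · have : v = ⟨y, hyV⟩ := Subtype.ext (hcon v v.2 hv1)
      rw [this]
      exact Subgroup.mem_zpowers _
  have hcv' := hb v' hv' hv'1 hv'y
  have hyy := hV2 y hyV
  have hzy : ∀ s ∈ Subgroup.zpowers y, s = 1 ∨ s = y := by
    intro s hs
    obtain ⟨k, rfl⟩ := Subgroup.mem_zpowers_iff.1 hs
    have hy2 : y ^ (2 : ℤ) = 1 := by
      rw [zpow_ofNat, sq]; exact hyy
    rcases Int.even_or_odd' k with ⟨m, rfl | rfl⟩
    · left
      rw [zpow_mul, hy2, one_zpow]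
    · right
      rw [zpow_add, zpow_mul, hy2, one_zpow, one_mul, zpow_one]
  have hzV : Subgroup.zpowers y ≤ V := (Subgroup.zpowers_le).2 hyV
  have hVeq : V = Subgroup.zpowers v' ⊔ Subgroup.zpowers y := by
    apply le_antisymm
    · intro v hv
      by_cases hv1 : v = 1
      · rw [hv1]; exact one_mem _
      by_cases hvy : v = y
      · rw [hvy]
        exact (le_sup_right : Subgroup.zpowers y ≤ _) (Subgroup.mem_zpowers y)
      have hcv := hb v hv hv1 hvy
      have h1 : w * (v * v') * w⁻¹ = v * v' := by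
        rw [hcm, hcv, hcv']
        calc v * y * (v' * y) = v * (y * v') * y := by group
          _ = v * (v' * y) * y := by rw [hVk y hyV v' hv']
          _ = v * v' * (y * y) := by group
          _ = v * v' := by rw [hyy, mul_one]
      have hv'm : v' ∈ Subgroup.zpowers v' ⊔ Subgroup.zpowers y :=
        (le_sup_left : Subgroup.zpowers v' ≤ _) (Subgroup.mem_zpowers v')
      have hym : y ∈ Subgroup.zpowers v' ⊔ Subgroup.zpowers y :=
        (le_sup_right : Subgroup.zpowers y ≤ _) (Subgroup.mem_zpowers y)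
      rcases (hfix _ (hVU (mul_mem hv hv'))).1 h1 with h | h
      · have : v = v' := by
          rw [← hVi v' hv']
          exact eq_inv_of_mul_eq_one_left h
        rw [this]; exact hv'm
      · have : v = y * v' := by
          rw [← h, mul_assoc, hV2 v' hv', mul_one]
        rw [this]; exact mul_mem hym hv'm
    · exact sup_le ((Subgroup.zpowers_le).2 hv') hzV
  have hcard : Nat.card ↥V = 4 := by
    haveI : Fact (Nat.Prime 2) := ⟨Nat.prime_two⟩
    have ho' : orderOf v' = 2 := orderOf_eq_prime (hVe.2 v' hv') hv'1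
    have hoy : orderOf y = 2 := orderOf_eq_prime (hVe.2 y hyV) hy
    have hn : v' ∈ Subgroup.normalizer ((Subgroup.zpowers y : Subgroup H) : Set H) := by
      apply Cfsg.Agent.S4023.norm_of_conj
      intro s hs
      rw [hVk v' hv' s (hzV hs), mul_inv_cancel_right]
      exact hs
    have hnot : v' ∉ Subgroup.zpowers y := by
      intro h
      rcases hzy v' h with h | h
      · exact hv'1 h
      · exact hv'y h
    have := Cfsg.Agent.S4023.card_adjoin (p := 2) ho' hnot hn
    rw [← hVeq, Nat.card_zpowers, hoy] at this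
    exact this
  -- the induced automorphism of the quotient
  have hUw : ∀ u ∈ U, w * u * w⁻¹ ∈ U := fun u hu => ((Subgroup.mem_normalizer_iff).1 hwU u).1 hu
  let ψ : ↥U →* ↥U := MonoidHom.mk' (fun u => ⟨w * (u : H) * w⁻¹, hUw u u.2⟩) (by
    intro a b
    apply Subtype.ext
    exact hcm a b)
  have hψV : V.subgroupOf U ≤ (V.subgroupOf U).comap ψ := by
    intro u hu
    rw [Subgroup.mem_comap, Subgroup.mem_subgroupOf]
    exact hVw _ (Subgroup.mem_subgroupOf.1 hu)
  let φ : (↥U ⧸ V.subgroupOf U) →* (↥U ⧸ V.subgroupOf U) :=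
    QuotientGroup.map (V.subgroupOf U) (V.subgroupOf U) ψ hψV
  have hφmk : ∀ u : ↥U, φ (QuotientGroup.mk u) = QuotientGroup.mk (ψ u) := fun u => rfl
  have hinv : Function.Involutive φ := by
    intro q
    obtain ⟨u, rfl⟩ := QuotientGroup.mk_surjective q
    rw [hφmk, hφmk]
    congr 1
    apply Subtype.ext
    exact hcc u
  have hfpf : MonoidHom.FixedPointFree φ := by
    intro q hq
    obtain ⟨u, rfl⟩ := QuotientGroup.mk_surjective q
    rw [hφmk] at hq
    have h1 : (u : H)⁻¹ * (w * (u : H) * w⁻¹) ∈ V := by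
      have := (QuotientGroup.eq).1 hq.symm
      exact Subgroup.mem_subgroupOf.1 this
    set v := (u : H)⁻¹ * (w * (u : H) * w⁻¹) with hv
    have hcu : w * (u : H) * w⁻¹ = (u : H) * v := by rw [hv]; group
    have h2 : v * (w * v * w⁻¹) = 1 := by
      have h3 := hcc (u : H)
      rw [hcu, hcm, hcu, mul_assoc] at h3
      exact mul_eq_left.1 h3
    have h4 : w * v * w⁻¹ = v := by
      exact (inv_eq_of_mul_eq_one_right h2).symm.trans (hVi v h1)
    have huV : (u : H) ∈ V := by
      rcases (hfix v (hVU h1)).1 h4 with h5 | h5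
      · rw [h5, mul_one] at hcu
        rcases (hfix u u.2).1 hcu with h6 | h6
        · rw [h6]; exact one_mem _
        · rw [h6]; exact hyV
      · rw [h5] at hcu
        have h6 : w * ((u : H) * v') * w⁻¹ = (u : H) * v' := by
          rw [hcm, hcu, hcv']
          calc (u : H) * y * (v' * y) = (u : H) * (y * v') * y := by group
            _ = (u : H) * (v' * y) * y := by rw [hVk y hyV v' hv']
            _ = (u : H) * v' * (y * y) := by group
            _ = (u : H) * v' := by rw [hyy, mul_one]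
        have h7 : (u : H) * v' ∈ V := by
          rcases (hfix _ (mul_mem u.2 (hVU hv'))).1 h6 with h8 | h8
          · rw [h8]; exact one_mem _
          · rw [h8]; exact hyV
        have h9 := mul_mem h7 (inv_mem hv')
        rwa [mul_inv_cancel_right] at h9
    exact (QuotientGroup.eq_one_iff u).2 (Subgroup.mem_subgroupOf.2 huV)
  refine ⟨?_, hcard, ?_⟩
  · have hodd := hfpf.odd_card_of_involutive hinv
    intro h2
    have h3 : V.relIndex U = Nat.card (↥U ⧸ V.subgroupOf U) := rfl
    rw [h3] at h2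
    exact (Nat.not_even_iff_odd.2 hodd) (even_iff_two_dvd.2 h2)
  · rw [Subgroup.commutator_le]
    intro a ha b hb'
    have hcomm := hfpf.commute_all_of_involutive hinv
      (QuotientGroup.mk (⟨a, ha⟩ : ↥U)) (QuotientGroup.mk (⟨b, hb'⟩ : ↥U))
    have h1 : (QuotientGroup.mk (⁅(⟨a, ha⟩ : ↥U), ⟨b, hb'⟩⁆) : ↥U ⧸ V.subgroupOf U) = 1 := by
      rw [commutatorElement_def, QuotientGroup.mk_mul, QuotientGroup.mk_mul, QuotientGroup.mk_mul,
        QuotientGroup.mk_inv, QuotientGroup.mk_inv, hcomm.eq]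
      group
    have h2 := (QuotientGroup.eq_one_iff _).1 h1
    exact Subgroup.mem_subgroupOf.1 h2

end Cfsg.Agent.S3825
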