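import Cfsg.Statements.S3861

import Mathlib
import Cfsg.Agent.Lib.Helper7_BaerSuzuki
import Cfsg.Agent.Lib.Helper7_Lift
import Cfsg.Agent.Lib.Helper7_Nilp
import Cfsg.Agent.S3863
set_option autoImplicit false
open Cfsg

namespace Cfsg.Agent.S3861

open Cfsg.Agent.Lib.Helper7_Conj Cfsg.Agent.Lib.Helper7_BaerSuzuki Cfsg.Agent.Lib.Helper7_Lift
open Cfsg.Agent.Lib.Helper7_Nilp Cfsg.Agent.Lib.Helper7_Class

universe u

/-- Two involutions generate a 2-group when no nontrivial odd order element is real. -/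
theorem two_involutions {G : Type u} [Group G] [Finite G]
    (hyp : ∀ x : G, x ≠ 1 → Odd (orderOf x) → ¬ IsConj x x⁻¹) (s t : G)
    (hs : orderOf s = 2) (ht : orderOf t = 2) :
    IsPGroup 2 (Subgroup.closure ({s, t} : Set G)) := by
  have hs2 : s * s = 1 := by rw [← pow_two, ← hs, pow_orderOf_eq_one]
  have ht2 : t * t = 1 := by rw [← pow_two, ← ht, pow_orderOf_eq_one]
  have hsinv : s⁻¹ = s := inv_eq_of_mul_eq_one_left hs2
  have htinv : t⁻¹ = t := inv_eq_of_mul_eq_one_left ht2
  set u := s * t with hu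
  have hsu : s * u * s⁻¹ = u⁻¹ := by
    rw [hu, mul_inv_rev, hsinv, htinv, ← mul_assoc, hs2, one_mul]
  obtain ⟨a, m, hm, hum⟩ := Nat.exists_eq_pow_mul_and_not_dvd (orderOf_pos u).ne' 2 (by norm_num)
  have hw : orderOf (u ^ (2 ^ a)) = m :=
    orderOf_pow_of_eq_mul (hum.trans (mul_comm _ _)) (pow_pos (by norm_num) a).ne'
  have hw1 : u ^ (2 ^ a) = 1 := by
    by_contra hne
    apply hyp _ hne (by rw [hw]; exact Nat.odd_iff.2 (by omega))
    rw [isConj_iff]
    refine ⟨s, ?_⟩
    rw [← conj_pow, hsu, inv_pow]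
  have hupg : IsPGroup 2 (Subgroup.zpowers u) := by
    obtain ⟨k, -, hk⟩ := (Nat.dvd_prime_pow Nat.prime_two).1 (orderOf_dvd_of_pow_eq_one hw1)
    exact IsPGroup.of_card (n := k) (by rw [Nat.card_zpowers, hk])
  have hspg : IsPGroup 2 (Subgroup.zpowers s) :=
    IsPGroup.of_card (n := 1) (by rw [Nat.card_zpowers, hs, pow_one])
  have hnorm : Subgroup.zpowers s ≤ Subgroup.normalizer ((Subgroup.zpowers u : Subgroup G) : Set G) := by
    rw [Subgroup.zpowers_le, mem_normalizer_iff_cj, MonoidHom.map_zpowers]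
    have : (MulAut.conj s).toMonoidHom u = u⁻¹ := hsu
    rw [this, Subgroup.zpowers_inv]
  have hsup := hspg.to_sup_of_normal_right' hupg hnorm
  apply hsup.to_le
  rw [Subgroup.closure_le]
  rintro z (rfl | rfl)
  · exact Subgroup.mem_sup_left (Subgroup.mem_zpowers _)
  · have : z = s * u := by rw [hu, ← mul_assoc, hs2, one_mul]
    rw [this]
    exact Subgroup.mul_mem_sup (Subgroup.mem_zpowers _) (Subgroup.mem_zpowers _)

/-- The hypothesis passes to quotients by normal 2-subgroups. -/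
theorem hyp_quotient {G : Type u} [Group G] [Finite G]
    (hyp : ∀ x : G, x ≠ 1 → Odd (orderOf x) → ¬ IsConj x x⁻¹) (N : Subgroup G) [N.Normal]
    (hN : IsPGroup 2 N) :
    ∀ x : G ⧸ N, x ≠ 1 → Odd (orderOf x) → ¬ IsConj x x⁻¹ := by
  intro y hy1 hyodd hreal
  obtain ⟨k, hk⟩ := IsPGroup.iff_card.1 hN
  have hcop : (Nat.card N).Coprime (orderOf y) := by
    rw [hk]; exact Nat.Coprime.pow_left k (Nat.coprime_two_left.2 hyodd)
  obtain ⟨x, rfl, hxy⟩ := exists_lift_orderOf_dvd N y hcop
  obtain ⟨c, hc⟩ := isConj_iff.1 hreal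
  obtain ⟨g, rfl⟩ := QuotientGroup.mk'_surjective N c
  have hcop2 : (Nat.card (Subgroup.zpowers x)).Coprime (Nat.card N) := by
    rw [Nat.card_zpowers]
    exact (Nat.Coprime.coprime_dvd_right hxy hcop).symm
  have hz' : QuotientGroup.mk' N g ∈ Subgroup.normalizer
      (((Subgroup.zpowers x).map (QuotientGroup.mk' N) : Subgroup (G ⧸ N)) : Set (G ⧸ N)) := by
    rw [MonoidHom.map_zpowers, mem_normalizer_iff_cj, MonoidHom.map_zpowers]
    have : (MulAut.conj (QuotientGroup.mk' N g)).toMonoidHom (QuotientGroup.mk' N x) =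
        (QuotientGroup.mk' N x)⁻¹ := hc
    rw [this, Subgroup.zpowers_inv]
  obtain ⟨d, hd, hdg⟩ := normalizer_lift N (Subgroup.zpowers x) hcop2 (Or.inl inferInstance) g hz'
  have hd1 : QuotientGroup.mk' N d = 1 := (QuotientGroup.eq_one_iff d).2 hd
  set g' := d⁻¹ * g with hg'
  have h1 : g' * x * g'⁻¹ ∈ Subgroup.zpowers x :=
    (Subgroup.mem_normalizer_iff.1 hdg x).1 (Subgroup.mem_zpowers x)
  have h2 : g' * x * g'⁻¹ * x ∈ N := by
    rw [← QuotientGroup.eq_one_iff]
    have : QuotientGroup.mk' N (g' * x * g'⁻¹ * x) = 1 := by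
      rw [hg', map_mul, map_mul, map_mul, map_inv, map_mul, map_inv, hd1, inv_one, one_mul, hc]
      group
    exact this
  have h3 : g' * x * g'⁻¹ * x ∈ Subgroup.zpowers x ⊓ N :=
    Subgroup.mem_inf.2 ⟨mul_mem h1 (Subgroup.mem_zpowers x), h2⟩
  rw [Subgroup.inf_eq_bot_of_coprime hcop2, Subgroup.mem_bot] at h3
  have hx1 : x ≠ 1 := by
    rintro rfl
    exact hy1 (map_one _)
  apply hyp x hx1 (Odd.of_dvd_nat hyodd hxy)
  rw [isConj_iff]
  exact ⟨g', eq_inv_of_mul_eq_one_left h3⟩

theorem normal_sylow_two_aux : ∀ (n : ℕ) (G : Type u) [Group G] [Finite G], Nat.card G = n →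
    (∀ x : G, x ≠ 1 → Odd (orderOf x) → ¬ IsConj x x⁻¹) → ∀ P : Sylow 2 G,
    (P : Subgroup G).Normal := by
  intro n
  induction n using Nat.strong_induction_on with
  | _ n ih =>
    intro G _ _ hn hyp P
    by_cases h2 : 2 ∣ Nat.card G
    · obtain ⟨t, ht⟩ := exists_prime_orderOf_dvd_card' 2 h2
      let K : Set G := {s | orderOf s = 2}
      have hKinv : ∀ g : G, ∀ x ∈ K, g * x * g⁻¹ ∈ K := by
        intro g x hx
        show orderOf _ = 2
        rw [orderOf_conj]; exact hx
      obtain ⟨hNn, hNp⟩ := baer_suzuki_set (p := 2) K hKinv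
        (fun x hx y hy => two_involutions hyp x y hx hy)
      set N := Subgroup.closure K with hN
      haveI := hNn
      have htN : t ∈ N := Subgroup.subset_closure ht
      have hNcard : 1 < Nat.card N := by
        rw [Subgroup.one_lt_card_iff_ne_bot]
        intro hbot
        rw [hbot, Subgroup.mem_bot] at htN
        rw [htN, orderOf_one] at ht
        omega
      have hlt : Nat.card (G ⧸ N) < n := by
        rw [← hn, ← Subgroup.card_mul_index N]
        have : 0 < N.index := Nat.pos_of_ne_zero (Subgroup.FiniteIndex.index_ne_zero)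
        show N.index < _
        nlinarith
      have hq := ih _ hlt (G ⧸ N) rfl (hyp_quotient hyp N hNp)
        (P.mapSurjective (QuotientGroup.mk'_surjective N))
      rw [Sylow.coe_mapSurjective] at hq
      have hNP : N ≤ P := hNp.le_sylow_of_normal P
      have h3 := hq.comap (QuotientGroup.mk' N)
      rwa [Subgroup.comap_map_eq, QuotientGroup.ker_mk', sup_eq_left.2 hNP] at h3
    · have hbot : (P : Subgroup G) = ⊥ := by
        obtain ⟨k, hk⟩ := IsPGroup.iff_card.1 P.isPGroup'
        rcases Nat.eq_zero_or_pos k with rfl | hk0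
        · rw [pow_zero] at hk
          exact Subgroup.card_eq_one.1 hk
        · exfalso
          apply h2
          refine dvd_trans ?_ (Subgroup.card_subgroup_dvd_card (P : Subgroup G))
          rw [hk]
          exact dvd_pow_self 2 hk0.ne'
      rw [hbot]
      infer_instance

/-- A finite group G has no non-identity element of odd order that is conjugate to its inverse if and only if the Sylow 2-subgroups of G are normal. -/
theorem result {G : Type*} [Group G] [Finite G] (P : Sylow 2 G) : (∀ x : G, x ≠ 1 → Odd (orderOf x) → ¬ IsConj x x⁻¹) ↔ (P : Subgroup G).Normal := by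
  constructor
  · intro hyp
    exact normal_sylow_two_aux _ G rfl hyp P
  · intro hP x hx1 hodd hreal
    obtain ⟨t, ⟨j, hj⟩, ht⟩ := Cfsg.Agent.S3863.exists_two_elt_inverting x hreal
    have htP : t ∈ (P : Subgroup G) := mem_sylow_of_orderOf_of_normal P hP hj
    have h1 : t * (x * t⁻¹ * x⁻¹) ∈ (P : Subgroup G) :=
      mul_mem htP (hP.conj_mem _ (inv_mem htP) x)
    have h2 : t * (x * t⁻¹ * x⁻¹) = (x ^ 2)⁻¹ := by
      have : t * (x * t⁻¹ * x⁻¹) = (t * x * t⁻¹) * x⁻¹ := by group
      rw [this, ht]; group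
    rw [h2] at h1
    have h3 : x ^ 2 ∈ (P : Subgroup G) := by simpa using inv_mem h1
    have h4 : x ∈ (P : Subgroup G) := by
      apply mem_of_pow_mem_of_coprime _ x (a := 2) (b := orderOf x)
        (Nat.coprime_two_left.2 hodd) h3
      rw [pow_orderOf_eq_one]; exact one_mem _
    obtain ⟨k, hk⟩ := (IsPGroup.iff_orderOf.1 P.isPGroup') ⟨x, h4⟩
    rw [Subgroup.orderOf_mk] at hk
    apply hx1
    rw [← orderOf_eq_one_iff]
    rcases Nat.eq_zero_or_pos k with rfl | hk0
    · simpa using hk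
    · exfalso
      rw [hk] at hodd
      exact (Nat.not_even_iff_odd.2 hodd) ((Nat.even_pow.2 ⟨even_two, hk0.ne'⟩))

end Cfsg.Agent.S3861
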