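import Cfsg.Statements.S3870
import Cfsg.Agent.Lib.Helper4_Syl

set_option autoImplicit false
open Cfsg

namespace Cfsg.Agent.S3870

open Cfsg.Agent.Lib.Helper4_Syl
open scoped Pointwise

/-- Let G be a finite simple group whose Sylow p-subgroups are not normal but such that every proper subgroup of G has a normal Sylow p-subgroup. Then any two distinct Sylow p-subgroups of G intersect trivially, and for every Sylow p-subgroup P the normalizer of every non-identity subgroup of P lies in the normalizer of P. -/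
theorem result {G : Type*} [Group G] [Finite G] [IsSimpleGroup G] {p : ℕ} [Fact p.Prime]
    (hnc : ¬ Cfsg.IsPClosed p G) (hsub : ∀ H : Subgroup G, H ≠ ⊤ → Cfsg.IsPClosed p ↥H) :
    (∀ P Q : Sylow p G, P ≠ Q → (P : Subgroup G) ⊓ (Q : Subgroup G) = ⊥) ∧
      ∀ (P : Sylow p G) (R : Subgroup G), R ≤ P → R ≠ ⊥ →
        Subgroup.normalizer (R : Set G) ≤ Subgroup.normalizer ((P : Subgroup G) : Set G) := by
  have hA : ∀ D : Subgroup G, IsPGroup p D → D ≠ ⊥ → Subgroup.normalizer (D : Set G) ≠ ⊤ := by
    intro D hD hD1 htop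
    have hDn : D.Normal := Subgroup.normalizer_eq_top_iff.1 htop
    rcases hDn.eq_bot_or_eq_top with h | h
    · exact hD1 h
    · apply hnc
      intro P
      have hT : IsPGroup p (⊤ : Subgroup G) := h ▸ hD
      have : (⊤ : Subgroup G) = (P : Subgroup G) := P.3 hT le_top
      rw [← this]; infer_instance
  have hB : ∀ H : Subgroup G, H ≠ ⊤ →
      ∃ U : Subgroup G, IsPGroup p U ∧ ∀ A ≤ H, IsPGroup p A → A ≤ U := by
    intro H hH
    obtain ⟨S⟩ : Nonempty (Sylow p H) := inferInstance
    have hS := hsub H hH S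
    refine ⟨(S : Subgroup H).map H.subtype, S.2.map _, ?_⟩
    intro A hA hAp
    obtain ⟨Q, hQ⟩ := (hAp.comap_subtype (K := H)).exists_le_sylow
    haveI := Sylow.unique_of_normal S hS
    have : Q = S := Subsingleton.elim _ _
    rw [← Subgroup.map_subgroupOf_eq_of_le hA]
    exact Subgroup.map_mono (this ▸ hQ)
  have hTI : ∀ n : ℕ, ∀ P Q : Sylow p G, P ≠ Q →
      Nat.card G - Nat.card ((P : Subgroup G) ⊓ (Q : Subgroup G) : Subgroup G) = n →
      (P : Subgroup G) ⊓ (Q : Subgroup G) = ⊥ := by
    intro n
    induction n using Nat.strong_induction_on with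
    | _ n ih =>
      intro P Q hPQ hn
      by_contra hD1
      set D := (P : Subgroup G) ⊓ (Q : Subgroup G) with hD
      have hDp : IsPGroup p D := P.2.to_le inf_le_left
      obtain ⟨U, hU, hUall⟩ := hB _ (hA D hDp hD1)
      obtain ⟨R', hR'⟩ := hU.exists_le_sylow
      have key : ∀ P' : Sylow p G, D ≤ P' → D ≠ P' → R' = P' := by
        intro P' hDP' hne
        by_contra hRP
        obtain ⟨x, hxP, hxD, hxN⟩ := exists_mem_normalizer_not_mem P'.2 hDP' hne
        have hle : (P' : Subgroup G) ⊓ Subgroup.normalizer (D : Set G) ≤ R' :=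
          (hUall _ inf_le_right (P'.2.to_le inf_le_left)).trans hR'
        have hlt : D < (R' : Subgroup G) ⊓ (P' : Subgroup G) := by
          refine lt_of_le_of_ne (le_inf (le_trans (le_inf hDP' Subgroup.le_normalizer) hle) hDP') ?_
          intro he
          apply hxD
          rw [he]
          exact ⟨hle ⟨hxP, hxN⟩, hxP⟩
        have hc1 : Nat.card D < Nat.card ((R' : Subgroup G) ⊓ (P' : Subgroup G) : Subgroup G) :=
          Set.ncard_lt_ncard (s := (D : Set G))
            (t := (((R' : Subgroup G) ⊓ (P' : Subgroup G) : Subgroup G) : Set G))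
            (SetLike.coe_ssubset_coe.2 hlt) (Set.toFinite _)
        have hc2 : Nat.card ((R' : Subgroup G) ⊓ (P' : Subgroup G) : Subgroup G) ≤ Nat.card G :=
          Subgroup.card_le_card_group _
        have := ih _ (by omega) R' P' hRP rfl
        rw [this] at hlt
        exact not_lt_bot hlt
      have hne1 : D ≠ P := by
        intro he
        have h1 : (P : Subgroup G) ≤ Q := he ▸ inf_le_right
        exact hPQ (Sylow.ext (P.3 Q.2 h1).symm)
      have hne2 : D ≠ Q := by
        intro he
        have h1 : (Q : Subgroup G) ≤ P := he ▸ inf_le_left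
        exact hPQ (Sylow.ext (Q.3 P.2 h1))
      exact hPQ ((key P inf_le_left hne1).symm.trans (key Q inf_le_right hne2))
  refine ⟨fun P Q hPQ => hTI _ P Q hPQ rfl, ?_⟩
  intro P R hRP hR1 g hg
  by_contra hgP
  have hne : P ≠ g • P := fun h => hgP (Sylow.smul_eq_iff_mem_normalizer.1 h.symm)
  have h1 := hTI _ P (g • P) hne rfl
  apply hR1
  rw [eq_bot_iff, ← h1]
  refine le_inf hRP ?_
  intro y hy
  show y ∈ MulAut.conj g • (P : Subgroup G)
  rw [mem_conj_smul]
  have := conj_mem_of_mem_normalizer (inv_mem hg) hy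
  rw [inv_inv] at this
  exact hRP this

end Cfsg.Agent.S3870
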