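import Cfsg.Statements.S3889

set_option autoImplicit false
open Cfsg

namespace Cfsg.Agent.S3889


/-- A finite abelian group that is the union of a family of proper subgroups any two of which intersect trivially is elementary abelian: its exponent is a prime. -/
theorem result {G : Type*} [CommGroup G] [Finite G] (𝓑 : Set (Subgroup G)) (hprop : ∀ B ∈ 𝓑, B ≠ ⊤)
    (hcov : ∀ g : G, ∃ B ∈ 𝓑, g ∈ B) (hdisj : ∀ B ∈ 𝓑, ∀ C ∈ 𝓑, B ≠ C → B ⊓ C = ⊥) :
    (Monoid.exponent G).Prime := by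
  classical
  have hnt : Nontrivial G := by
    by_contra hnt
    rw [not_nontrivial_iff_subsingleton] at hnt
    obtain ⟨B, hB, -⟩ := hcov 1
    exact hprop B hB (Subsingleton.elim _ _)
  -- key: elements in different components
  have key : ∀ B ∈ 𝓑, ∀ x ∈ B, x ≠ 1 → ∀ y : G, y ∉ B → orderOf y ∣ orderOf x := by
    intro B hB x hxB hx1 y hyB
    obtain ⟨D, hD, hyD⟩ := hcov y
    obtain ⟨C, hC, hxyC⟩ := hcov (x * y)
    have hCD : C ≠ D := by
      rintro rfl
      have hxC : x ∈ C := by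
        have := mul_mem hxyC (inv_mem hyD)
        simpa using this
      have hBC : B = C := by
        by_contra hne
        have h1 : x ∈ B ⊓ C := Subgroup.mem_inf.2 ⟨hxB, hxC⟩
        rw [hdisj B hB C hC hne, Subgroup.mem_bot] at h1
        exact hx1 h1
      exact hyB (hBC ▸ hyD)
    have h1 : y ^ orderOf x ∈ C ⊓ D := by
      refine Subgroup.mem_inf.2 ⟨?_, pow_mem hyD _⟩
      have := pow_mem hxyC (orderOf x)
      rwa [mul_pow, pow_orderOf_eq_one, one_mul] at this
    rw [hdisj C hC D hD hCD, Subgroup.mem_bot] at h1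
    exact orderOf_dvd_of_pow_eq_one h1
  have key2 : ∀ B ∈ 𝓑, ∀ x ∈ B, x ≠ 1 → ∀ y : G, y ∉ B → orderOf y = orderOf x := by
    intro B hB x hxB hx1 y hyB
    apply Nat.dvd_antisymm (key B hB x hxB hx1 y hyB)
    obtain ⟨D, hD, hyD⟩ := hcov y
    have hy1 : y ≠ 1 := by rintro rfl; exact hyB (one_mem B)
    apply key D hD y hyD hy1 x
    intro hxD
    have hBD : B = D := by
      by_contra hne
      have h1 : x ∈ B ⊓ D := Subgroup.mem_inf.2 ⟨hxB, hxD⟩
      rw [hdisj B hB D hD hne, Subgroup.mem_bot] at h1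
      exact hx1 h1
    exact hyB (hBD ▸ hyD)
  have key3 : ∀ x y : G, x ≠ 1 → y ≠ 1 → orderOf y = orderOf x := by
    intro x y hx1 hy1
    obtain ⟨B, hB, hxB⟩ := hcov x
    by_cases hyB : y ∈ B
    · obtain ⟨z, hz⟩ : ∃ z : G, z ∉ B := by
        by_contra hcon
        push Not at hcon
        exact hprop B hB (eq_top_iff.2 (fun z _ => hcon z))
      rw [← key2 B hB x hxB hx1 z hz, ← key2 B hB y hyB hy1 z hz]
    · exact key2 B hB x hxB hx1 y hyB
  obtain ⟨p, hp, hpd⟩ := Nat.exists_prime_and_dvd (Finite.one_lt_card (α := G)).ne'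
  haveI : Fact p.Prime := ⟨hp⟩
  obtain ⟨x, hx⟩ := exists_prime_orderOf_dvd_card' p hpd
  have hx1 : x ≠ 1 := by
    rintro rfl
    rw [orderOf_one] at hx
    exact hp.one_lt.ne hx
  have : Monoid.exponent G = p := (Monoid.exponent_eq_prime_iff hp).2
    (fun g hg => by rw [key3 x g hx1 hg, hx])
  rw [this]; exact hp

end Cfsg.Agent.S3889
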