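import Cfsg.Statements.S3917
import Cfsg.Agent.S4023

set_option autoImplicit false
open Cfsg

namespace Cfsg.Agent.S3917

theorem card_ker_pow {G : Type*} [CommGroup G] [Fintype G] [DecidableEq G] (d : ℕ) :
    Nat.card ↥(powMonoidHom d : G →* G).ker = (Finset.univ.filter (fun a : G => a ^ d = 1)).card := by
  have h1 : Nat.card ↥(powMonoidHom d : G →* G).ker = Nat.card {a : G // a ^ d = 1} :=
    Nat.card_congr (Equiv.subtypeEquivRight (fun a => by rw [MonoidHom.mem_ker]; rfl))
  rw [h1, Nat.card_eq_fintype_card, Fintype.card_subtype]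

/-- Say that a group has self-centralizing non-cyclic subgroups when every non-cyclic subgroup H satisfies C_G(H) ≤ H. A finite abelian group with self-centralizing non-cyclic subgroups is cyclic or elementary abelian of order p² for a prime p. -/
theorem result {G : Type*} [CommGroup G] [Finite G] (hX : (∀ H : Subgroup G, ¬ IsCyclic ↥H → Subgroup.centralizer (H : Set G) ≤ H)) :
    IsCyclic G ∨ ∃ p : ℕ, p.Prime ∧ Nat.card G = p ^ 2 ∧ Monoid.exponent G = p := by
  classical
  by_contra hcon
  push_neg at hcon
  obtain ⟨hnc, hno⟩ := hcon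
  have hall : ∀ H : Subgroup G, ¬ IsCyclic ↥H → H = ⊤ := by
    intro H hH
    rw [eq_top_iff]
    intro x _
    apply hX H hH
    rw [Subgroup.mem_centralizer_iff]
    intro h _
    exact mul_comm _ _
  haveI : Fintype G := Fintype.ofFinite G
  have hex : ∃ n : ℕ, 0 < n ∧ n < (Finset.univ.filter (fun a : G => a ^ n = 1)).card := by
    by_contra h
    push_neg at h
    exact hnc (isCyclic_of_card_pow_eq_one_le h)
  obtain ⟨hn0, hn⟩ := Nat.find_spec hex
  have hmin : ∀ d, 0 < d → d < Nat.find hex →
      (Finset.univ.filter (fun a : G => a ^ d = 1)).card ≤ d := by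
    intro d hd hdn
    have h1 := Nat.find_min hex hdn
    push_neg at h1
    exact h1 hd
  generalize Nat.find hex = n at hn0 hn hmin
  have hKnc : ¬ IsCyclic ↥(powMonoidHom n : G →* G).ker := by
    intro hc
    have h1 := IsCyclic.card_pow_eq_one_le (α := ↥(powMonoidHom n : G →* G).ker) hn0
    have h2 : (Finset.univ.filter (fun a : ↥(powMonoidHom n : G →* G).ker => a ^ n = 1)) =
        Finset.univ := by
      apply Finset.filter_true_of_mem
      intro a _
      apply Subtype.ext
      have := a.2
      rw [MonoidHom.mem_ker] at this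
      exact this
    rw [h2, Finset.card_univ, ← Nat.card_eq_fintype_card, card_ker_pow] at h1
    omega
  have hKtop := hall _ hKnc
  have hpow : ∀ a : G, a ^ n = 1 := by
    intro a
    have h1 : a ∈ (powMonoidHom n : G →* G).ker := by rw [hKtop]; trivial
    rw [MonoidHom.mem_ker] at h1
    exact h1
  have hcardG : n < Nat.card G := by
    have h1 := card_ker_pow (G := G) n
    rw [hKtop, Subgroup.card_top] at h1
    omega
  have hn1 : n ≠ 1 := by
    rintro rfl
    have h1 : (Finset.univ.filter (fun a : G => a ^ 1 = 1)) = {1} := by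
      ext a; simp
    rw [h1] at hn
    simp at hn
  obtain ⟨p, hp, d, rfl⟩ := Nat.exists_prime_and_dvd hn1
  have hd0 : 0 < d := Nat.pos_of_ne_zero (by rintro rfl; simp at hn0)
  have hd1 : d = 1 := by
    by_contra hd1
    have hd2 : 2 ≤ d := by omega
    have hp2 := hp.two_le
    have hlt1 : p < p * d := by nlinarith
    have hlt2 : d < p * d := by nlinarith
    have h1 : Nat.card ↥(powMonoidHom p : G →* G).ker ≤ p := by
      rw [card_ker_pow]; convert hmin p hp.pos hlt1
    have h2 : Nat.card ↥(powMonoidHom d : G →* G).ker ≤ d := by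
      rw [card_ker_pow]; convert hmin d hd0 hlt2
    have h3 := (powMonoidHom p : G →* G).ker.card_mul_index
    rw [Subgroup.index_ker] at h3
    have h4 : (powMonoidHom p : G →* G).range ≤ (powMonoidHom d : G →* G).ker := by
      rintro _ ⟨a, rfl⟩
      rw [MonoidHom.mem_ker]
      show (a ^ p) ^ d = 1
      rw [← pow_mul]; exact hpow a
    have h5 := Subgroup.card_le_of_le h4
    have h6 : Nat.card G ≤ p * d := by
      rw [← h3]
      exact Nat.mul_le_mul h1 (h5.trans h2)
    omega
  subst hd1
  rw [mul_one] at hpow hcardG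
  haveI : Fact p.Prime := ⟨hp⟩
  haveI : Nontrivial G := by
    rw [← Finite.one_lt_card_iff_nontrivial]
    have := hp.two_le
    omega
  obtain ⟨x, hx⟩ := exists_ne (1 : G)
  have hox : orderOf x = p := orderOf_eq_prime (hpow x) hx
  obtain ⟨y, hy⟩ : ∃ y : G, y ∉ Subgroup.zpowers x := by
    by_contra h
    push_neg at h
    have h1 : Subgroup.zpowers x = ⊤ := by rw [eq_top_iff]; intro a _; exact h a
    have h2 := Nat.card_zpowers x
    rw [h1, Subgroup.card_top, hox] at h2
    omega
  have hy1 : y ≠ 1 := fun h => hy (h ▸ (Subgroup.zpowers x).one_mem)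
  have hoy : orderOf y = p := orderOf_eq_prime (hpow y) hy1
  have hcE := Cfsg.Agent.S4023.card_adjoin (S := Subgroup.zpowers x) hoy hy
    (by rw [Subgroup.normalizer_eq_top]; trivial)
  rw [Nat.card_zpowers, hox] at hcE
  have hEnc : ¬ IsCyclic ↥(Subgroup.zpowers y ⊔ Subgroup.zpowers x : Subgroup G) := by
    intro hc
    obtain ⟨g, hg⟩ := IsCyclic.exists_ofOrder_eq_natCard
      (α := ↥(Subgroup.zpowers y ⊔ Subgroup.zpowers x : Subgroup G))
    rw [hcE, ← Subgroup.orderOf_coe] at hg
    have h1 := orderOf_le_of_pow_eq_one hp.pos (hpow (g : G))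
    have := hp.two_le
    nlinarith
  have hEtop := hall _ hEnc
  rw [hEtop, Subgroup.card_top] at hcE
  refine hno p hp (by rw [hcE, sq]) ?_
  have h1 : Monoid.exponent G ∣ p := Monoid.exponent_dvd_of_forall_pow_eq_one hpow
  rcases (Nat.dvd_prime hp).1 h1 with h2 | h2
  · rw [Monoid.exp_eq_one_iff] at h2
    exact absurd h2 (not_subsingleton G)
  · exact h2

end Cfsg.Agent.S3917
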