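import Cfsg.Statements.S3986

import Mathlib
import Cfsg.Agent.Lib.Helper7_Class
set_option autoImplicit false
open Cfsg

namespace Cfsg.Agent.S3986

open Cfsg.Agent.Lib.Helper7_Class

theorem mem_of_prime_power_elts {G : Type*} [Group G] [Finite G] (C : Subgroup G) (p : ℕ)
    (h : ∀ y : G, (∃ q b : ℕ, q.Prime ∧ q ≠ p ∧ orderOf y = q ^ b) → y ∈ C) :
    ∀ y : G, (orderOf y).Coprime p → y ∈ C := by
  intro y
  induction hn : orderOf y using Nat.strong_induction_on generalizing y with
  | _ n ih =>
    intro hcop
    by_cases h1 : n = 1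
    · have : y = 1 := orderOf_eq_one_iff.1 (hn.trans h1)
      rw [this]; exact one_mem C
    · obtain ⟨q, hq, hqd⟩ := Nat.exists_prime_and_dvd h1
      have hn0 : n ≠ 0 := hn ▸ (orderOf_pos y).ne'
      obtain ⟨b, m, hm, hnm⟩ := Nat.exists_eq_pow_mul_and_not_dvd hn0 q hq.ne_one
      have hb : b ≠ 0 := by
        rintro rfl
        rw [pow_zero, one_mul] at hnm
        exact hm (hnm ▸ hqd)
      have hm0 : m ≠ 0 := by
        rintro rfl
        rw [mul_zero] at hnm
        exact hn0 hnm
      have hqp : q ≠ p := by
        rintro rfl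
        have := Nat.Coprime.eq_one_of_dvd hcop.symm hqd
        exact hq.ne_one this
      have hx : orderOf (y ^ m) = q ^ b := by
        rw [orderOf_pow, hn, hnm, Nat.gcd_eq_right (Dvd.intro_left _ rfl)]
        exact Nat.mul_div_cancel _ (Nat.pos_of_ne_zero hm0)
      have hy' : orderOf (y ^ (q ^ b)) = m := by
        rw [orderOf_pow, hn, hnm, Nat.gcd_eq_right (Dvd.intro _ rfl)]
        exact Nat.mul_div_cancel_left _ (pow_pos hq.pos b)
      have h2 : y ^ m ∈ C := h _ ⟨q, b, hq, hqp, hx⟩
      have hlt : m < n := by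
        rw [hnm]
        have : 1 < q ^ b := Nat.one_lt_pow hb hq.one_lt
        nlinarith [Nat.pos_of_ne_zero hm0]
      have h3 : y ^ (q ^ b) ∈ C :=
        ih m hlt _ hy' (Nat.Coprime.coprime_dvd_left (hnm ▸ Dvd.intro_left _ rfl) hcop)
      exact mem_of_pow_mem_of_coprime C y
        (Nat.Coprime.pow_right b ((Nat.Prime.coprime_iff_not_dvd hq).2 hm).symm) h2 h3

/-- Let p be a prime and G a finite group. Then some Sylow p-subgroup of G is a direct factor of G (it is normal and has a normal complement) if and only if every element of p-power order commutes with every element whose order is a power of a prime other than p. -/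
theorem result {G : Type*} [Group G] [Finite G] (p : ℕ) [Fact p.Prime] : (∃ (P : Sylow p G) (K : Subgroup G), (P : Subgroup G).Normal ∧ K.Normal ∧ (P : Subgroup G) ⊓ K = ⊥ ∧ (P : Subgroup G) ⊔ K = ⊤) ↔ ∀ x y : G, (∃ a : ℕ, orderOf x = p ^ a) → (∃ q b : ℕ, q.Prime ∧ q ≠ p ∧ orderOf y = q ^ b) → x * y = y * x := by
  have hp : p.Prime := Fact.out
  constructor
  · rintro ⟨P, K, hPn, hKn, hinf, hsup⟩ x y ⟨a, ha⟩ ⟨q, b, hq, hqp, hy⟩
    have hxP : x ∈ (P : Subgroup G) := by
      have hpg : IsPGroup p (Subgroup.zpowers x) :=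
        IsPGroup.of_card (n := a) (by rw [Nat.card_zpowers, ha])
      obtain ⟨P', hP'⟩ := hpg.exists_le_sylow
      have : P' = P := by
        haveI := Sylow.unique_of_normal P hPn
        exact Subsingleton.elim _ _
      exact this ▸ hP' (Subgroup.mem_zpowers x)
    have hyK : y ∈ K := by
      have h1 : K.index ∣ Nat.card (P : Subgroup G) := by
        rw [← Subgroup.relIndex_top_right, ← hsup, Subgroup.relIndex_sup_right]
        exact Subgroup.relIndex_dvd_card _ _
      obtain ⟨n, hn⟩ := IsPGroup.iff_card.1 P.isPGroup'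
      rw [hn] at h1
      have hcop : (q ^ b).Coprime K.index := by
        apply Nat.Coprime.coprime_dvd_right h1
        exact Nat.Coprime.pow _ _ ((Nat.coprime_primes hq hp).2 hqp)
      apply mem_of_pow_mem_of_coprime K y hcop
      · rw [← hy, pow_orderOf_eq_one]; exact one_mem K
      · exact Subgroup.pow_index_mem K y
    exact Subgroup.commute_of_normal_of_disjoint _ _ hPn hKn (disjoint_iff.2 hinf) x y hxP hyK
  · intro h
    obtain ⟨P⟩ : Nonempty (Sylow p G) := inferInstance
    have hC : ∀ y : G, (orderOf y).Coprime p →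
        y ∈ Subgroup.centralizer ((P : Subgroup G) : Set G) := by
      apply mem_of_prime_power_elts
      intro y hy
      rw [Subgroup.mem_centralizer_iff]
      intro x hx
      obtain ⟨k, hk⟩ := (IsPGroup.iff_orderOf.1 P.isPGroup') ⟨x, hx⟩
      rw [Subgroup.orderOf_mk] at hk
      exact h x y ⟨k, hk⟩ hy
    have hPn : (P : Subgroup G).Normal := by
      rw [← Subgroup.normalizer_eq_top_iff, ← Subgroup.index_eq_one,
        Nat.eq_one_iff_not_exists_prime_dvd]
      intro r hr hrd
      haveI : Fact r.Prime := ⟨hr⟩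
      by_cases hrp : r = p
      · subst hrp
        exact P.not_dvd_index (hrd.trans (Subgroup.index_dvd_of_le Subgroup.le_normalizer))
      · obtain ⟨R⟩ : Nonempty (Sylow r G) := inferInstance
        have hR : (R : Subgroup G) ≤ Subgroup.normalizer ((P : Subgroup G) : Set G) := by
          intro y hy
          apply Subgroup.centralizer_le_normalizer
          apply hC
          obtain ⟨k, hk⟩ := (IsPGroup.iff_orderOf.1 R.isPGroup') ⟨y, hy⟩
          rw [Subgroup.orderOf_mk] at hk
          rw [hk]
          exact Nat.Coprime.pow_left _ ((Nat.coprime_primes hr hp).2 hrp)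
        exact R.not_dvd_index (hrd.trans (Subgroup.index_dvd_of_le hR))
    haveI := hPn
    obtain ⟨K, hK⟩ := Subgroup.exists_right_complement'_of_coprime P.card_coprime_index
    have hKC : K ≤ Subgroup.centralizer ((P : Subgroup G) : Set G) := by
      intro y hy
      apply hC
      have h1 : orderOf y ∣ Nat.card K := by
        have := orderOf_dvd_natCard (⟨y, hy⟩ : K)
        rwa [Subgroup.orderOf_mk] at this
      have h2 : (P : Subgroup G).index = Nat.card K := hK.symm.index_eq_card
      rw [← h2] at h1
      apply Nat.Coprime.coprime_dvd_left h1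
      rw [Nat.coprime_comm, Nat.Prime.coprime_iff_not_dvd hp]
      exact P.not_dvd_index
    have hKn : K.Normal := by
      rw [← Subgroup.normalizer_eq_top_iff, eq_top_iff, ← hK.sup_eq_top]
      refine sup_le ?_ Subgroup.le_normalizer
      refine le_trans ?_ (Subgroup.centralizer_le_normalizer _)
      exact Subgroup.le_centralizer_iff.1 hKC
    exact ⟨P, K, hPn, hKn, disjoint_iff.1 hK.disjoint, hK.sup_eq_top⟩

end Cfsg.Agent.S3986
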