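import Cfsg.Statements.S4035

import Mathlib
import Cfsg.Agent.S3986
import Cfsg.Agent.Lib.Helper7_Union
import Cfsg.Agent.Lib.Helper7_Nilp
import Cfsg.Agent.Lib.Helper7_TI
set_option autoImplicit false
open Cfsg

namespace Cfsg.Agent.S4035

open Cfsg.Agent.Lib.Helper7_Conj Cfsg.Agent.Lib.Helper7_Class Cfsg.Agent.Lib.Helper7_Union
open Cfsg.Agent.Lib.Helper7_Nilp Cfsg.Agent.Lib.Helper7_TI

/-- Let G be a finite group and p a prime such that p divides the size of no conjugacy class of p-regular elements (elements of order prime to p). Then G is the internal direct product of a Sylow p-subgroup P and a normal subgroup H of order prime to p: P is normal, P ⊓ H = 1 and PH = G. -/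
theorem result {G : Type*} [Group G] [Finite G] {p : ℕ} [Fact p.Prime]
    (h : ∀ x : G, (orderOf x).Coprime p → ¬ p ∣ (ConjClasses.mk x).carrier.ncard) (P : Sylow p G) :
    (P : Subgroup G).Normal ∧ ∃ H : Subgroup G, H.Normal ∧ ¬ p ∣ Nat.card H ∧
      (P : Subgroup G) ⊓ H = ⊥ ∧ (P : Subgroup G) ⊔ H = ⊤ := by
  have hp : p.Prime := Fact.out
  -- class size is the index of the centralizer
  have hidx : ∀ x : G, (orderOf x).Coprime p → ¬ p ∣ (Subgroup.centralizer ({x} : Set G)).index := by
    intro x hx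
    have h1 := h x hx
    rw [index_centralizer_eq_card_class]
    have h2 : Nat.card {y : G // IsConj x y} = (ConjClasses.mk x).carrier.ncard := by
      rw [← Nat.card_coe_set_eq]
      apply Nat.card_congr
      apply Equiv.subtypeEquivRight
      intro y
      rw [ConjClasses.mem_carrier_iff_mk_eq, ConjClasses.mk_eq_mk_iff_isConj]
      exact isConj_comm
    rwa [h2]
  -- a p-element centralizing a p'-element x lies in a Sylow subgroup of G inside C(x)
  have hsyl : ∀ x u : G, (orderOf x).Coprime p → (∃ k : ℕ, orderOf u = p ^ k) → Commute x u →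
      ∃ Q : Sylow p G, u ∈ Q ∧ (Q : Subgroup G) ≤ Subgroup.centralizer ({x} : Set G) := by
    rintro x u hx ⟨k, hk⟩ hxu
    set C := Subgroup.centralizer ({x} : Set G) with hC
    have huC : u ∈ C := mem_centralizer_singleton_iff.2 hxu
    have hpg : IsPGroup p (Subgroup.zpowers (⟨u, huC⟩ : C)) :=
      IsPGroup.of_card (n := k) (by rw [Nat.card_zpowers, Subgroup.orderOf_mk, hk])
    obtain ⟨S, hS⟩ := hpg.exists_le_sylow
    have hSp : IsPGroup p ((S : Subgroup C).map C.subtype) := S.isPGroup'.map _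
    have hSi : ¬ p ∣ ((S : Subgroup C).map C.subtype).index := by
      rw [Subgroup.index_map_subtype]
      intro hd
      rcases (Nat.Prime.dvd_mul hp).1 hd with h1 | h1
      · exact S.not_dvd_index h1
      · exact hidx x hx h1
    refine ⟨hSp.toSylow hSi, ?_, ?_⟩
    · exact ⟨⟨u, huC⟩, hS (Subgroup.mem_zpowers _), rfl⟩
    · exact Subgroup.map_subtype_le _
  -- P C(P) = G
  set M : Subgroup G := (P : Subgroup G) ⊔ Subgroup.centralizer ((P : Subgroup G) : Set G) with hM
  have hMtop : M = ⊤ := by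
    by_contra hne
    obtain ⟨g, hg⟩ := exists_not_mem_conj M hne
    obtain ⟨k, m, hm, hgm⟩ := Nat.exists_eq_pow_mul_and_not_dvd (orderOf_pos g).ne' p hp.ne_one
    have hm0 : m ≠ 0 := by
      rintro rfl
      rw [mul_zero] at hgm
      exact (orderOf_pos g).ne' hgm
    have hu : orderOf (g ^ m) = p ^ k := orderOf_pow_of_eq_mul hgm hm0
    have hx : orderOf (g ^ (p ^ k)) = m :=
      orderOf_pow_of_eq_mul (hgm.trans (mul_comm _ _)) (pow_pos hp.pos k).ne'
    have hcop : m.Coprime p := ((Nat.Prime.coprime_iff_not_dvd hp).2 hm).symm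
    obtain ⟨Q, huQ, hQC⟩ := hsyl (g ^ (p ^ k)) (g ^ m) (by rw [hx]; exact hcop) ⟨k, hu⟩
      ((Commute.refl g).pow_pow _ _)
    obtain ⟨c, rfl⟩ := MulAction.exists_smul_eq G P Q
    apply hg c
    have h1 : (c⁻¹ * g * c) ^ m ∈ M := by
      have : (c⁻¹ * g * c) ^ m = c⁻¹ * g ^ m * c := by
        have := conj_pow (a := c⁻¹) (b := g) (i := m)
        simpa using this
      rw [this]
      exact Subgroup.mem_sup_left ((mem_sylow_smul c _ P).1 huQ)
    have h2 : (c⁻¹ * g * c) ^ (p ^ k) ∈ M := by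
      have : (c⁻¹ * g * c) ^ (p ^ k) = c⁻¹ * g ^ (p ^ k) * c := by
        have := conj_pow (a := c⁻¹) (b := g) (i := p ^ k)
        simpa using this
      rw [this]
      apply Subgroup.mem_sup_right
      rw [Subgroup.mem_centralizer_iff]
      intro y hy
      have hy' : c * y * c⁻¹ ∈ ((c • P : Sylow p G) : Subgroup G) := by
        apply (mem_sylow_smul c _ P).2
        have : c⁻¹ * (c * y * c⁻¹) * c = y := by group
        rw [this]; exact hy
      have h3 : g ^ (p ^ k) * (c * y * c⁻¹) = (c * y * c⁻¹) * g ^ (p ^ k) :=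
        (Subgroup.mem_centralizer_iff.1 (hQC hy')) _ rfl
      calc y * (c⁻¹ * g ^ (p ^ k) * c) = c⁻¹ * ((c * y * c⁻¹) * g ^ (p ^ k)) * c := by group
        _ = c⁻¹ * (g ^ (p ^ k) * (c * y * c⁻¹)) * c := by rw [h3]
        _ = c⁻¹ * g ^ (p ^ k) * c * y := by group
    exact mem_of_pow_mem_of_coprime M _ (Nat.Coprime.pow_right k hcop) h1 h2
  have hPn : (P : Subgroup G).Normal := by
    rw [← Subgroup.normalizer_eq_top_iff, eq_top_iff, ← hMtop]
    exact sup_le Subgroup.le_normalizer (Subgroup.centralizer_le_normalizer _)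
  refine ⟨hPn, ?_⟩
  haveI := Sylow.unique_of_normal P hPn
  obtain ⟨P', K, -, hKn, hinf, hsup⟩ := (Cfsg.Agent.S3986.result (G := G) p).2 (by
    rintro x y ⟨a, ha⟩ ⟨q, b, hq, hqp, hy⟩
    have hycop : (orderOf y).Coprime p := by
      rw [hy]; exact Nat.Coprime.pow_left b ((Nat.coprime_primes hq hp).2 hqp)
    obtain ⟨Q, -, hQC⟩ := hsyl y 1 hycop ⟨0, by simp⟩ (Commute.one_right y)
    have hQP : Q = P := Subsingleton.elim _ _
    have hxP : x ∈ (P : Subgroup G) := mem_sylow_of_orderOf_of_normal P hPn ha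
    exact ((Subgroup.mem_centralizer_iff.1 (hQC (hQP ▸ hxP))) y rfl).symm)
  have hP' : P' = P := Subsingleton.elim _ _
  subst hP'
  refine ⟨K, hKn, ?_, hinf, hsup⟩
  have h1 : (P' : Subgroup G).index = Nat.card K := by
    rw [← Subgroup.relIndex_top_right, ← hsup, sup_comm, Subgroup.relIndex_sup_right,
      ← Subgroup.inf_relIndex_right, hinf, Subgroup.relIndex_bot_left]
  rw [← h1]
  exact P'.not_dvd_index

end Cfsg.Agent.S4035
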