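import Cfsg.Statements.S3987
import Cfsg.Agent.S4035
import Cfsg.Agent.Lib.Helper1_Kazarin
import Cfsg.Agent.Lib.Helper7_Nilp
import Cfsg.Agent.Lib.Helper7_Idx
import Cfsg.Agent.Lib.Helper2_PPart

set_option autoImplicit false
open Cfsg

namespace Cfsg.Agent.S3987

open Cfsg.Agent.Lib.Helper7_Nilp

theorem comm_of_index {G : Type*} [Group G] [Finite G] (x y : G)
    (h : (Subgroup.centralizer ({x * y} : Set G)).index =
      (Subgroup.centralizer ({x} : Set G)).index * (Subgroup.centralizer ({y} : Set G)).index) :
    x * y = y * x := by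
  set D := Subgroup.centralizer ({x} : Set G) ⊓ Subgroup.centralizer ({y} : Set G) with hD
  have hle : D ≤ Subgroup.centralizer ({x * y} : Set G) := by
    intro g hg
    have h1 : g * x = x * g := Subgroup.mem_centralizer_singleton_iff.mp hg.1
    have h2 : g * y = y * g := Subgroup.mem_centralizer_singleton_iff.mp hg.2
    rw [Subgroup.mem_centralizer_singleton_iff, ← mul_assoc, h1, mul_assoc, h2, mul_assoc]
  have h1 : D.index ≤ (Subgroup.centralizer ({x * y} : Set G)).index := by
    rw [h]; exact Subgroup.index_inf_le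
  have h2 := Subgroup.relIndex_mul_index hle
  have h3 : 0 < (Subgroup.centralizer ({x * y} : Set G)).index :=
    Nat.pos_of_ne_zero Subgroup.index_ne_zero_of_finite
  have h4 : D.relIndex (Subgroup.centralizer ({x * y} : Set G)) = 1 := by
    have h5 : D.relIndex (Subgroup.centralizer ({x * y} : Set G)) ≠ 0 := by
      intro e
      rw [e, zero_mul] at h2
      exact Subgroup.index_ne_zero_of_finite h2.symm
    by_contra h6
    have h7 : 2 ≤ D.relIndex (Subgroup.centralizer ({x * y} : Set G)) := by omega
    nlinarith
  have h5 := Subgroup.relIndex_eq_one.mp h4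
  have h6 : x * y ∈ Subgroup.centralizer ({x * y} : Set G) := by
    rw [Subgroup.mem_centralizer_singleton_iff]
  have h7 := Subgroup.mem_centralizer_singleton_iff.mp (h5 h6).1
  have h8 : x * (y * x) = x * (x * y) := by rw [← mul_assoc, h7]
  exact (mul_left_cancel h8).symm

/-- Let p be a prime and G a finite group. Then some Sylow p-subgroup of G is a direct factor of G (normal with a normal complement) if and only if for every element x of p-power order and every element y whose order is a power of a prime other than p, the conjugacy class of x y has as many elements as the product of the sizes of the classes of x and of y. -/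
theorem result {G : Type*} [Group G] [Finite G] (p : ℕ) [Fact p.Prime] : (∃ (P : Sylow p G) (K : Subgroup G), (P : Subgroup G).Normal ∧ K.Normal ∧ (P : Subgroup G) ⊓ K = ⊥ ∧ (P : Subgroup G) ⊔ K = ⊤) ↔ ∀ x y : G, (∃ a : ℕ, orderOf x = p ^ a) → (∃ q b : ℕ, q.Prime ∧ q ≠ p ∧ orderOf y = q ^ b) → (Subgroup.centralizer ({x * y} : Set G)).index = (Subgroup.centralizer ({x} : Set G)).index * (Subgroup.centralizer ({y} : Set G)).index := by
  have hp : p.Prime := Fact.out
  constructor
  · rintro ⟨P, K, hPn, hKn, hinf, hsup⟩ x y ⟨a, ha⟩ ⟨q, b, hq, hqp, hb⟩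
    have hxP : x ∈ (P : Subgroup G) := mem_sylow_of_orderOf_of_normal P hPn ha
    obtain ⟨j, hj⟩ : ∃ j : ℕ, K.index = p ^ j := by
      have h1 : K.index = K.relIndex (P : Subgroup G) := by
        rw [← Subgroup.relIndex_top_right, ← hsup, Subgroup.relIndex_sup_right]
      have h2 : K.relIndex (P : Subgroup G) ∣ Nat.card (P : Subgroup G) := Subgroup.relIndex_dvd_card _ _
      obtain ⟨k, hk⟩ := IsPGroup.iff_card.mp P.isPGroup'
      rw [hk] at h2
      obtain ⟨j, -, hj⟩ := (Nat.dvd_prime_pow hp).mp h2
      exact ⟨j, h1.trans hj⟩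
    have hyK : y ∈ K := by
      rw [← QuotientGroup.eq_one_iff, ← orderOf_eq_one_iff]
      have h1 : orderOf (y : G ⧸ K) ∣ q ^ b := by
        rw [← hb]
        exact orderOf_map_dvd (QuotientGroup.mk' K) y
      have h2 : orderOf (y : G ⧸ K) ∣ p ^ j := by
        rw [← hj, Subgroup.index_eq_card]
        exact orderOf_dvd_natCard _
      exact Nat.eq_one_of_dvd_coprimes
        (Nat.Coprime.pow _ _ ((Nat.coprime_primes hq hp).mpr hqp)) h1 h2
    have hcomm : ∀ u ∈ (P : Subgroup G), ∀ k ∈ K, u * k = k * u := fun u hu k hk =>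
      (Subgroup.commute_of_normal_of_disjoint _ _ hPn hKn (disjoint_iff.mpr hinf) u k hu hk).eq
    have hKx : K ≤ Subgroup.centralizer ({x} : Set G) := by
      intro k hk
      rw [Subgroup.mem_centralizer_singleton_iff]
      exact (hcomm x hxP k hk).symm
    have hPy : (P : Subgroup G) ≤ Subgroup.centralizer ({y} : Set G) := by
      intro u hu
      rw [Subgroup.mem_centralizer_singleton_iff]
      exact hcomm u hu y hyK
    have hcop : ((Subgroup.centralizer ({x} : Set G)).index).Coprime
        (Subgroup.centralizer ({y} : Set G)).index := by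
      have h1 : (Subgroup.centralizer ({x} : Set G)).index ∣ p ^ j := hj ▸ Subgroup.index_dvd_of_le hKx
      have h2 : ¬ p ∣ (Subgroup.centralizer ({y} : Set G)).index := fun h =>
        P.not_dvd_index (h.trans (Subgroup.index_dvd_of_le hPy))
      exact Nat.Coprime.coprime_dvd_left h1
        (Nat.Coprime.pow_left _ ((Nat.Prime.coprime_iff_not_dvd hp).mpr h2))
    rw [← Cfsg.Agent.Lib.Helper7_Idx.index_inf_of_coprime _ _ hcop]
    congr 1
    apply le_antisymm
    · intro g hg
      have hg' : g * (x * y) = (x * y) * g := Subgroup.mem_centralizer_singleton_iff.mp hg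
      obtain ⟨i, k, hi, hk⟩ := Cfsg.Agent.Lib.Helper2_PPart.isPPart_eq_pow hp (g := x * y) rfl
        (show Commute x y from hcomm x hxP y hyK) ⟨a, ha⟩ (by
          rw [hb]
          intro h
          exact hqp ((Nat.prime_dvd_prime_iff_eq hp hq).mp (hp.dvd_of_dvd_pow h)).symm)
      have c1 : g * x = x * g := by
        conv_lhs => rw [hi]
        conv_rhs => rw [hi]
        exact (Commute.pow_right (show Commute g (x * y) from hg') i).eq
      have c2 : g * y = y * g := by
        conv_lhs => rw [hk]
        conv_rhs => rw [hk]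
        exact (Commute.pow_right (show Commute g (x * y) from hg') k).eq
      exact Subgroup.mem_inf.mpr ⟨Subgroup.mem_centralizer_singleton_iff.mpr c1,
        Subgroup.mem_centralizer_singleton_iff.mpr c2⟩
    · intro g hg
      have h1 : g * x = x * g := Subgroup.mem_centralizer_singleton_iff.mp hg.1
      have h2 : g * y = y * g := Subgroup.mem_centralizer_singleton_iff.mp hg.2
      rw [Subgroup.mem_centralizer_singleton_iff, ← mul_assoc, h1, mul_assoc, h2, mul_assoc]
  · intro h
    obtain ⟨P⟩ : Nonempty (Sylow p G) := inferInstance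
    have hc : ∀ x : G, (orderOf x).Coprime p → ¬ p ∣ (ConjClasses.mk x).carrier.ncard := by
      intro x hx
      rw [Cfsg.Agent.Lib.Helper1_Kazarin.ncard_carrier]
      have hPx : (P : Subgroup G) ≤ Subgroup.centralizer ({x} : Set G) := by
        intro u hu
        obtain ⟨a, ha⟩ := IsPGroup.iff_orderOf.mp P.isPGroup' ⟨u, hu⟩
        have ha' : orderOf u = p ^ a := by rw [← ha]; exact (Subgroup.orderOf_mk u hu).symm
        have h1 : x ∈ Subgroup.centralizer ({u} : Set G) := by
          apply mem_of_prime_power_parts (Subgroup.centralizer ({u} : Set G)) (fun q => q ≠ p)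
          · rintro y ⟨q, b, hq, hqp, hy⟩
            rw [Subgroup.mem_centralizer_singleton_iff]
            exact (comm_of_index u y (h u y ⟨a, ha'⟩ ⟨q, b, hq, hqp, hy⟩)).symm
          · rintro q hq hqd rfl
            exact hq.one_lt.ne' (Nat.eq_one_of_dvd_coprimes hx hqd dvd_rfl)
        rw [Subgroup.mem_centralizer_singleton_iff] at h1 ⊢
        exact h1.symm
      exact fun hd => P.not_dvd_index (hd.trans (Subgroup.index_dvd_of_le hPx))
    obtain ⟨hPn, H, hHn, -, h1, h2⟩ := Cfsg.Agent.S4035.result hc P
    exact ⟨P, H, hPn, hHn, h1, h2⟩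

end Cfsg.Agent.S3987
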