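import Mathlib
import Cfsg.Agent.S3633
import Cfsg.Statements.S4002

set_option autoImplicit false
open Cfsg

namespace Cfsg.Agent.S4002

/-- If the set of element orders of a finite group G is {1, 2, …, n} with n ≥ 7, then G is not solvable. -/
theorem result {G : Type*} [Group G] [Finite G] (n : ℕ) (hn : 7 ≤ n) (h : Set.range (orderOf : G → ℕ) = {k : ℕ | 1 ≤ k ∧ k ≤ n}) : ¬ Group.IsSolvable G := by
  classical
  have main : ∀ p q r : ℕ, p.Prime → q.Prime → r.Prime → p < q → q < r → r ≤ n → n < p * q →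
      ¬ Group.IsSolvable G := by
    intro p q r hp hq hr hpq hqr hrn hn'
    have hdiv : ∀ k : ℕ, 1 ≤ k → k ≤ n → k ∣ Nat.card G := by
      intro k h1 h2
      have : k ∈ Set.range (orderOf : G → ℕ) := by rw [h]; exact ⟨h1, h2⟩
      obtain ⟨x, rfl⟩ := this
      exact orderOf_dvd_natCard x
    have hno : ∀ k : ℕ, n < k → ¬ ∃ x : G, orderOf x = k := by
      rintro k hk ⟨x, hx⟩
      have : k ∈ Set.range (orderOf : G → ℕ) := ⟨x, hx⟩
      rw [h] at this
      exact absurd this.2 (by omega)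
    have h1 : p * q < p * r := Nat.mul_lt_mul_of_pos_left hqr hp.pos
    have h2 : p * q < q * r := by
      calc p * q = q * p := mul_comm _ _
        _ < q * r := Nat.mul_lt_mul_of_pos_left (hpq.trans hqr) hq.pos
    exact S3633.not_solvable_of_coclique p q r hp hq hr hpq.ne (hpq.trans hqr).ne hqr.ne
      (hdiv p hp.one_lt.le (by omega)) (hdiv q hq.one_lt.le (by omega)) (hdiv r hr.one_lt.le hrn)
      (hno _ hn') (hno _ (by omega)) (hno _ (by omega))
  by_cases h14 : n ≤ 14
  · exact main 3 5 7 (by norm_num) (by norm_num) (by norm_num) (by norm_num) (by norm_num) hn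
      (by omega)
  by_cases h31 : n ≤ 31
  · exact main 5 7 11 (by norm_num) (by norm_num) (by norm_num) (by norm_num) (by norm_num)
      (by omega) (by omega)
  obtain ⟨m, hm⟩ : ∃ m, m = n / 8 := ⟨_, rfl⟩
  have hm4 : 4 ≤ m := by omega
  obtain ⟨p, hp, hp1, hp2⟩ := Nat.exists_prime_lt_and_le_two_mul m (by omega)
  obtain ⟨q, hq, hq1, hq2⟩ := Nat.exists_prime_lt_and_le_two_mul (2 * m) (by omega)
  obtain ⟨r, hr, hr1, hr2⟩ := Nat.exists_prime_lt_and_le_two_mul (4 * m) (by omega)
  refine main p q r hp hq hr (by omega) (by omega) (by omega) ?_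
  have h1 : (m + 1) * (2 * m + 1) ≤ p * q := Nat.mul_le_mul hp1 hq1
  have h2 : (m + 1) * 8 ≤ (m + 1) * (2 * m + 1) := Nat.mul_le_mul_left _ (by omega)
  omega

end Cfsg.Agent.S4002
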