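import Cfsg.Statements.S4027

import Mathlib
import Cfsg.Agent.S3861
set_option autoImplicit false
open Cfsg

namespace Cfsg.Agent.S4027

open Cfsg.Agent.Lib.Helper7_Conj Cfsg.Agent.Lib.Helper7_Class

/-- Let G be a finite group in which every element x of odd order satisfies N_G(⟨x⟩) = C_G(x). Then the Sylow 2-subgroups of G are normal. -/
theorem result {G : Type*} [Group G] [Finite G]
    (hirr : ∀ x : G, (∀ r : ℕ, r.Prime → r ∣ orderOf x → r ≠ 2) →
      Subgroup.normalizer ((Subgroup.zpowers x : Subgroup G) : Set G) ≤ Subgroup.centralizer {x}) (P : Sylow 2 G) :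
    (P : Subgroup G).Normal := by
  apply (Cfsg.Agent.S3861.result P).1
  intro x hx1 hodd hreal
  obtain ⟨g, hg⟩ := isConj_iff.1 hreal
  have hgN : g ∈ Subgroup.normalizer ((Subgroup.zpowers x : Subgroup G) : Set G) := by
    rw [mem_normalizer_iff_cj, MonoidHom.map_zpowers]
    have : (MulAut.conj g).toMonoidHom x = x⁻¹ := hg
    rw [this, Subgroup.zpowers_inv]
  have hgC := hirr x (by
    rintro r hr hrx rfl
    exact (Nat.not_even_iff_odd.2 hodd) (even_iff_two_dvd.2 hrx)) hgN
  have h1 : x * g = g * x := (Subgroup.mem_centralizer_iff.1 hgC) x rfl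
  have h2 : x = x⁻¹ := by
    rw [← hg, ← h1]; group
  have h3 : x ^ 2 = 1 := by
    rw [pow_two]; nth_rewrite 1 [h2]; group
  apply hx1
  have h4 : x ∈ (⊥ : Subgroup G) := by
    apply mem_of_pow_mem_of_coprime _ x (a := 2) (b := orderOf x) (Nat.coprime_two_left.2 hodd)
    · rw [h3]; exact one_mem _
    · rw [pow_orderOf_eq_one]; exact one_mem _
  exact h4

end Cfsg.Agent.S4027
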