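import Cfsg.Statements.S4028
import Cfsg.Agent.S4023
import Cfsg.Agent.Lib.Helper4_PSol
import Cfsg.Agent.Lib.Helper4_Cop
import Cfsg.Agent.Lib.Helper4_Syl

set_option autoImplicit false
open Cfsg

namespace Cfsg.Agent.S4028

open scoped Pointwise
open Cfsg.Agent.Lib.Helper4_Cop Cfsg.Agent.Lib.Helper4_Syl Cfsg.Agent.Lib.Helper4_PSol

/-- Let G be a finite group with Sylow 2-subgroup P. Then N_G(⟨x⟩) = C_G(x) holds for every 2-element x of G if and only if N_P(⟨y⟩) = C_P(y) holds for every y ∈ P (computed inside P). -/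
theorem result {G : Type*} [Group G] [Finite G] (P : Sylow 2 G) :
    (∀ x : G, (∀ r : ℕ, r.Prime → r ∣ orderOf x → r = 2) →
      Subgroup.normalizer ((Subgroup.zpowers x : Subgroup G) : Set G) ≤ Subgroup.centralizer {x}) ↔
    (∀ y : ↥(P : Subgroup G), Subgroup.normalizer ((Subgroup.zpowers y : Subgroup ↥(P : Subgroup G)) : Set ↥(P : Subgroup G)) ≤
        Subgroup.centralizer {y}) := by
  haveI : Fact (Nat.Prime 2) := ⟨Nat.prime_two⟩
  constructor
  · intro h y u hu
    have hy2 : ∀ r : ℕ, r.Prime → r ∣ orderOf (y : G) → r = 2 := by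
      intro r hr hd
      obtain ⟨k, hk⟩ := P.2 y
      have h1 : orderOf (y : G) ∣ 2 ^ k := by
        rw [Subgroup.orderOf_coe]; exact orderOf_dvd_of_pow_eq_one hk
      exact (Nat.prime_dvd_prime_iff_eq hr Nat.prime_two).1 (hr.dvd_of_dvd_pow (hd.trans h1))
    have huN : (u : G) ∈ Subgroup.normalizer ((Subgroup.zpowers (y : G) : Subgroup G) : Set G) := by
      apply Cfsg.Agent.S4023.norm_of_conj
      intro s hs
      obtain ⟨k, rfl⟩ := Subgroup.mem_zpowers_iff.1 hs
      have h1 : u * y ^ k * u⁻¹ ∈ Subgroup.zpowers y :=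
        (Subgroup.mem_normalizer_iff.1 hu (y ^ k)).1 (Subgroup.zpow_mem_zpowers y k)
      obtain ⟨j, hj⟩ := Subgroup.mem_zpowers_iff.1 h1
      exact Subgroup.mem_zpowers_iff.2 ⟨j, by have := congrArg Subtype.val hj; simpa using this⟩
    have h2 := h (y : G) hy2 huN
    rw [Subgroup.mem_centralizer_singleton_iff] at h2 ⊢
    exact Subtype.ext h2
  · intro h x hx u hu
    have hox : orderOf x = 2 ^ (orderOf x).primeFactorsList.length :=
      Nat.eq_prime_pow_of_unique_prime_dvd (orderOf_pos x).ne' (fun {d} hd hdvd => hx d hd hdvd)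
    obtain ⟨a, m, hm, hum⟩ := Nat.exists_eq_pow_mul_and_not_dvd (orderOf_pos u).ne' 2 (by norm_num)
    have hcop2 : Nat.Coprime m 2 := ((Nat.Prime.coprime_iff_not_dvd Nat.prime_two).2 hm).symm
    apply mem_of_pow_mem_coprime (a := m) (b := 2 ^ a) ?_ ?_ (hcop2.pow_right a)
    · have hvN : u ^ m ∈ Subgroup.normalizer ((Subgroup.zpowers x : Subgroup G) : Set G) :=
        Subgroup.pow_mem _ hu m
      have hv2 : (u ^ m) ^ 2 ^ a = 1 := by
        rw [← pow_mul, mul_comm, ← hum]; exact pow_orderOf_eq_one u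
      generalize u ^ m = v at hvN hv2
      have hzv : IsPGroup 2 ↥(Subgroup.zpowers v) := by
        rw [IsPGroup.iff_card]
        obtain ⟨j, _, hj⟩ := (Nat.dvd_prime_pow Nat.prime_two).1 (orderOf_dvd_of_pow_eq_one hv2)
        exact ⟨j, by rw [Nat.card_zpowers, hj]⟩
      have hzx : IsPGroup 2 ↥(Subgroup.zpowers x) := by
        rw [IsPGroup.iff_card]
        exact ⟨_, by rw [Nat.card_zpowers]; exact hox⟩
      have hT : IsPGroup 2 ↥(Subgroup.zpowers v ⊔ Subgroup.zpowers x : Subgroup G) :=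
        IsPGroup.to_sup_of_normal_right' hzv hzx ((Subgroup.zpowers_le).2 hvN)
      obtain ⟨Q, hQ⟩ := hT.exists_le_sylow
      obtain ⟨g, hg⟩ := MulAction.exists_smul_eq G Q P
      have hP : ∀ t ∈ (Q : Subgroup G), g * t * g⁻¹ ∈ (P : Subgroup G) := by
        intro t ht
        rw [← hg]
        show g * t * g⁻¹ ∈ MulAut.conj g • (Q : Subgroup G)
        exact conj_mem_conj_smul ht
      have hxQ : x ∈ (Q : Subgroup G) :=
        hQ ((le_sup_right : Subgroup.zpowers x ≤ _) (Subgroup.mem_zpowers x))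
      have hvQ : v ∈ (Q : Subgroup G) :=
        hQ ((le_sup_left : Subgroup.zpowers v ≤ _) (Subgroup.mem_zpowers v))
      have hv'N : (⟨g * v * g⁻¹, hP v hvQ⟩ : ↥(P : Subgroup G)) ∈ Subgroup.normalizer
          ((Subgroup.zpowers (⟨g * x * g⁻¹, hP x hxQ⟩ : ↥(P : Subgroup G)) :
            Subgroup ↥(P : Subgroup G)) : Set ↥(P : Subgroup G)) := by
        apply Cfsg.Agent.S4023.norm_of_conj
        intro s hs
        obtain ⟨j, rfl⟩ := Subgroup.mem_zpowers_iff.1 hs
        have h1 : v * x ^ j * v⁻¹ ∈ Subgroup.zpowers x :=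
          (Subgroup.mem_normalizer_iff.1 hvN (x ^ j)).1 (Subgroup.zpow_mem_zpowers x j)
        obtain ⟨i, hi⟩ := Subgroup.mem_zpowers_iff.1 h1
        refine Subgroup.mem_zpowers_iff.2 ⟨i, Subtype.ext ?_⟩
        simp only [Subgroup.coe_zpow, Subgroup.coe_mul, Subgroup.coe_inv]
        rw [conj_zpow, conj_zpow, hi]
        group
      have h2 := h _ hv'N
      rw [Subgroup.mem_centralizer_singleton_iff] at h2 ⊢
      have h3 : (g * v * g⁻¹) * (g * x * g⁻¹) = (g * x * g⁻¹) * (g * v * g⁻¹) :=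
        congrArg Subtype.val h2
      have h4 : g * (v * x) * g⁻¹ = g * (x * v) * g⁻¹ := by
        calc g * (v * x) * g⁻¹ = (g * v * g⁻¹) * (g * x * g⁻¹) := by group
          _ = (g * x * g⁻¹) * (g * v * g⁻¹) := h3
          _ = g * (x * v) * g⁻¹ := by group
      exact mul_left_cancel (mul_right_cancel h4)
    · have hwN : u ^ 2 ^ a ∈ Subgroup.normalizer ((Subgroup.zpowers x : Subgroup G) : Set G) :=
        Subgroup.pow_mem _ hu _
      have hwm : (u ^ 2 ^ a) ^ m = 1 := by
        rw [← pow_mul, ← hum]; exact pow_orderOf_eq_one u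
      generalize u ^ 2 ^ a = w at hwN hwm
      have h1 : ((Subgroup.zpowers x).normalizerMonoidHom ⟨w, hwN⟩) ^ m = 1 := by
        rw [← map_pow]
        have h0 : (⟨w, hwN⟩ : ↥(Subgroup.normalizer ((Subgroup.zpowers x : Subgroup G) : Set G))) ^ m
            = 1 := Subtype.ext (by simpa using hwm)
        rw [h0, map_one]
      have h2 : ((Subgroup.zpowers x).normalizerMonoidHom ⟨w, hwN⟩) ^
          (Nat.card (MulAut ↥(Subgroup.zpowers x))) = 1 := pow_card_eq_one'
      have h3 : Nat.card (MulAut ↥(Subgroup.zpowers x)) =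
          Nat.totient (2 ^ (orderOf x).primeFactorsList.length) := by
        rw [IsCyclic.card_mulAut, Nat.card_zpowers, ← hox]
      have hc : Nat.Coprime m (Nat.card (MulAut ↥(Subgroup.zpowers x))) := by
        rw [h3]
        rcases (orderOf x).primeFactorsList.length with _ | k
        · simp
        · rw [Nat.totient_prime_pow_succ Nat.prime_two]
          simpa using hcop2.pow_right k
      have h4 := eq_one_of_coprime_pow h1 h2 hc
      have h5 : (⟨w, hwN⟩ : ↥(Subgroup.normalizer ((Subgroup.zpowers x : Subgroup G) : Set G))) ∈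
          (Subgroup.zpowers x).normalizerMonoidHom.ker := h4
      rw [Subgroup.normalizerMonoidHom_ker, Subgroup.mem_subgroupOf] at h5
      rw [Subgroup.mem_centralizer_singleton_iff]
      exact (Subgroup.mem_centralizer_iff.1 h5 x (Subgroup.mem_zpowers x)).symm

end Cfsg.Agent.S4028
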