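import Cfsg.Statements.S4049

import Mathlib
import Cfsg.Agent.S3861
set_option autoImplicit false
open Cfsg

namespace Cfsg.Agent.S4049

open Cfsg.Agent.Lib.Helper7_Conj Cfsg.Agent.Lib.Helper7_Class

/-- Let G be a finite group such that N_G(H)/C_G(H) has odd order for every nontrivial subgroup H of odd order. Then the Sylow 2-subgroups of G are normal. -/
theorem result {G : Type*} [Group G] [Finite G]
    (hhom : ∀ H : Subgroup G, H ≠ ⊥ → ¬ 2 ∣ Nat.card ↥H →
        ¬ 2 ∣ (Subgroup.centralizer (H : Set G)).relIndex (Subgroup.normalizer (H : Set G))) (P : Sylow 2 G) :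
    (P : Subgroup G).Normal := by
  apply (Cfsg.Agent.S3861.result P).1
  intro x hx1 hodd hreal
  obtain ⟨t, ⟨j, hj⟩, ht⟩ := Cfsg.Agent.S3863.exists_two_elt_inverting x hreal
  set H := Subgroup.zpowers x with hH
  have hHbot : H ≠ ⊥ := by
    intro h
    apply hx1
    have : x ∈ H := Subgroup.mem_zpowers x
    rw [h, Subgroup.mem_bot] at this
    exact this
  have hHodd : ¬ 2 ∣ Nat.card H := by
    rw [hH, Nat.card_zpowers]
    exact fun h => (Nat.not_even_iff_odd.2 hodd) (even_iff_two_dvd.2 h)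
  have hrel := hhom H hHbot hHodd
  have htN : t ∈ Subgroup.normalizer (H : Set G) := by
    rw [mem_normalizer_iff_cj, hH, MonoidHom.map_zpowers]
    have : (MulAut.conj t).toMonoidHom x = x⁻¹ := ht
    rw [this, Subgroup.zpowers_inv]
  -- the centralizer is normal in the normalizer
  haveI hCn : ((Subgroup.centralizer (H : Set G)).subgroupOf
      (Subgroup.normalizer (H : Set G))).Normal := by
    refine ⟨fun n hn g => ?_⟩
    rw [Subgroup.mem_subgroupOf] at hn ⊢
    rw [Subgroup.mem_centralizer_iff] at hn ⊢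
    intro h hh
    have h1 : g.1⁻¹ * h * g.1 ∈ H := by
      have := (Subgroup.mem_normalizer_iff''.1 g.2 h).1 hh
      exact this
    have h2 := hn _ h1
    show h * (g.1 * n.1 * g.1⁻¹) = g.1 * n.1 * g.1⁻¹ * h
    calc h * (g.1 * n.1 * g.1⁻¹) = g.1 * ((g.1⁻¹ * h * g.1) * n.1) * g.1⁻¹ := by group
      _ = g.1 * (n.1 * (g.1⁻¹ * h * g.1)) * g.1⁻¹ := by rw [h2]
      _ = g.1 * n.1 * g.1⁻¹ * h := by group
  have h1 : (⟨t, htN⟩ : Subgroup.normalizer (H : Set G)) ∈
      (Subgroup.centralizer (H : Set G)).subgroupOf (Subgroup.normalizer (H : Set G)) := by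
    apply mem_of_pow_mem_of_coprime _ _ (a := 2 ^ j)
      (b := ((Subgroup.centralizer (H : Set G)).subgroupOf (Subgroup.normalizer (H : Set G))).index)
    · exact Nat.Coprime.pow_left j ((Nat.Prime.coprime_iff_not_dvd Nat.prime_two).2 hrel)
    · have : (⟨t, htN⟩ : Subgroup.normalizer (H : Set G)) ^ (2 ^ j) = 1 := by
        apply Subtype.ext
        show t ^ (2 ^ j) = 1
        rw [← hj, pow_orderOf_eq_one]
      rw [this]; exact one_mem _
    · exact Subgroup.pow_index_mem _ _
  rw [Subgroup.mem_subgroupOf] at h1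
  have h2 : x * t = t * x := (Subgroup.mem_centralizer_iff.1 h1) x (Subgroup.mem_zpowers x)
  have h3 : x = x⁻¹ := by
    rw [← ht, ← h2]; group
  have h4 : x ^ 2 = 1 := by
    rw [pow_two]; nth_rewrite 1 [h3]; group
  apply hx1
  have h5 : x ∈ (⊥ : Subgroup G) := by
    apply mem_of_pow_mem_of_coprime _ x (a := 2) (b := orderOf x) (Nat.coprime_two_left.2 hodd)
    · rw [h4]; exact one_mem _
    · rw [pow_orderOf_eq_one]; exact one_mem _
  exact h5

end Cfsg.Agent.S4049
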