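import Mathlib
import Cfsg.Statements.S4113

set_option autoImplicit false
open Cfsg

namespace Cfsg.Agent.S4113

/-- Let G be a finite group, M ≤ N non-trivial proper normal subgroups, and H a subgroup with HM = G and H ∩ M = 1. Then every element of G outside N acts fixed-point-freely on M (C_G(x) ≤ N for every x ∈ M, x ≠ 1) if and only if H ∩ gHg⁻¹ ≤ H ∩ N for every g outside H, with H proper and non-trivial and H ∩ N proper in H. -/
theorem result {G : Type*} [Group G] [Finite G] (N M : Subgroup G) [N.Normal] [M.Normal] (hMN : M ≤ N) (hM1 : M ≠ ⊥) (hN2 : N ≠ ⊤)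
    (H : Subgroup G) (hHM : H ⊔ M = ⊤) (hHM' : H ⊓ M = ⊥) :
    (∀ x ∈ M, x ≠ 1 → Subgroup.centralizer ({x} : Set G) ≤ N) ↔
      (H ≠ ⊥ ∧ H ≠ ⊤ ∧ H ⊓ N < H ∧ ∀ g : G, g ∉ H → H ⊓ H.map (MulAut.conj g).toMonoidHom ≤ N) := by
  have hdec : ∀ g : G, ∃ h ∈ H, ∃ m ∈ M, h * m = g := by
    intro g
    have hg : g ∈ H ⊔ M := by rw [hHM]; trivial
    rwa [Subgroup.mem_sup_of_normal_right] at hg
  have hint : ∀ y ∈ H, y ∈ M → y = 1 := by
    intro y hy hy'
    have : y ∈ H ⊓ M := ⟨hy, hy'⟩
    rwa [hHM', Subgroup.mem_bot] at this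
  constructor
  · intro hC
    refine ⟨?_, ?_, ?_, ?_⟩
    · intro h0
      rw [h0, bot_sup_eq] at hHM
      rw [hHM, top_le_iff] at hMN
      exact hN2 hMN
    · intro h0
      rw [h0, top_inf_eq] at hHM'
      exact hM1 hHM'
    · refine lt_of_le_of_ne inf_le_left ?_
      intro h0
      have h1 : H ≤ N := inf_eq_left.1 h0
      apply hN2
      rw [eq_top_iff, ← hHM]
      exact sup_le h1 hMN
    · intro g hg y hy
      obtain ⟨hyH, h', hh', hy'⟩ := hy
      have hy2 : g * h' * g⁻¹ = y := hy'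
      obtain ⟨h, hh, m, hm, rfl⟩ := hdec g
      have hm1 : m ≠ 1 := by
        intro h0
        apply hg
        rw [h0, mul_one]
        exact hh
      have h1 : m * h' * m⁻¹ ∈ H := by
        have : m * h' * m⁻¹ = h⁻¹ * y * h := by rw [← hy2]; group
        rw [this]
        exact H.mul_mem (H.mul_mem (H.inv_mem hh) hyH) hh
      have h2 : m * h' * m⁻¹ * h'⁻¹ = 1 := by
        apply hint
        · exact H.mul_mem h1 (H.inv_mem hh')
        · have : m * h' * m⁻¹ * h'⁻¹ = m * (h' * m⁻¹ * h'⁻¹) := by group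
          rw [this]
          exact M.mul_mem hm (‹M.Normal›.conj_mem _ (M.inv_mem hm) h')
      have h3 : h' * m = m * h' := by
        have := congrArg (fun w => w * h' * m) h2
        simpa [mul_assoc] using this.symm
      have h4 : h' ∈ N := hC m hm hm1 (Subgroup.mem_centralizer_singleton_iff.2 h3)
      rw [← hy2]
      exact ‹N.Normal›.conj_mem _ h4 _
  · rintro ⟨_, _, _, hF⟩ x hx hx1 c hc
    rw [Subgroup.mem_centralizer_singleton_iff] at hc
    by_contra hcN
    obtain ⟨h, hh, m, hm, rfl⟩ := hdec c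
    have hhN : h ∉ N := by
      intro h0
      exact hcN (N.mul_mem h0 (hMN hm))
    have hfix : ∀ m' ∈ M, m' * h = h * m' → m' = 1 := by
      intro m' hm' hcomm
      by_contra h1
      have h2 : m' ∉ H := fun h0 => h1 (hint m' h0 hm')
      apply hhN
      apply hF m' h2
      refine ⟨hh, h, hh, ?_⟩
      change m' * h * m'⁻¹ = h
      rw [hcomm]; group
    have hmem : ∀ k : M, (k : G) * h * (k : G)⁻¹ * h⁻¹ ∈ M := by
      intro k
      have : (k : G) * h * (k : G)⁻¹ * h⁻¹ = k * (h * (k : G)⁻¹ * h⁻¹) := by group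
      rw [this]
      exact M.mul_mem k.2 (‹M.Normal›.conj_mem _ (M.inv_mem k.2) h)
    let f : M → M := fun k => ⟨_, hmem k⟩
    have hinj : Function.Injective f := by
      intro k l hkl
      have h1 : (k : G) * h * (k : G)⁻¹ * h⁻¹ = (l : G) * h * (l : G)⁻¹ * h⁻¹ :=
        congrArg Subtype.val hkl
      have h2 : ((l : G)⁻¹ * k) * h = h * ((l : G)⁻¹ * k) := by
        have := congrArg (fun w => (l : G)⁻¹ * w * h * k) h1
        have e1 : (l : G)⁻¹ * ((k : G) * h * (k : G)⁻¹ * h⁻¹) * h * k = ((l : G)⁻¹ * k) * h := by group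
        have e2 : (l : G)⁻¹ * ((l : G) * h * (l : G)⁻¹ * h⁻¹) * h * k = h * ((l : G)⁻¹ * k) := by group
        rw [e1, e2] at this
        exact this
      have h3 := hfix _ (M.mul_mem (M.inv_mem l.2) k.2) h2
      ext
      exact (inv_mul_eq_one.1 h3).symm
    have hm2 : h * m * h⁻¹ ∈ M := ‹M.Normal›.conj_mem _ hm h
    obtain ⟨k, hk⟩ := (Finite.injective_iff_surjective.1 hinj) ⟨_, hm2⟩
    have hk' : (k : G) * h * (k : G)⁻¹ * h⁻¹ = h * m * h⁻¹ := congrArg Subtype.val hk
    have hk2 : h * m = (k : G) * h * (k : G)⁻¹ := by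
      have := congrArg (fun w => w * h) hk'
      simpa [mul_assoc] using this.symm
    rw [hk2] at hc
    have h5 : ((k : G)⁻¹ * x * k) * h = h * ((k : G)⁻¹ * x * k) := by
      have := congrArg (fun w => (k : G)⁻¹ * w * k) hc
      have e1 : (k : G)⁻¹ * ((k : G) * h * (k : G)⁻¹ * x) * k = h * ((k : G)⁻¹ * x * k) := by group
      have e2 : (k : G)⁻¹ * (x * ((k : G) * h * (k : G)⁻¹)) * k = ((k : G)⁻¹ * x * k) * h := by group
      rw [e1, e2] at this
      exact this.symm
    have h6 : (k : G)⁻¹ * x * k ∈ M := by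
      have := ‹M.Normal›.conj_mem _ hx (k : G)⁻¹
      rwa [inv_inv] at this
    have h7 := hfix _ h6 h5
    apply hx1
    have := congrArg (fun w => (k : G) * w * (k : G)⁻¹) h7
    simpa [mul_assoc] using this
end Cfsg.Agent.S4113
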