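import Cfsg.Statements.S4127
import Cfsg.Agent.S4035
import Cfsg.Agent.S0028
import Cfsg.Agent.Lib.Helper1_Kazarin
import Cfsg.Agent.Lib.Helper1_PNil

set_option autoImplicit false
open Cfsg

namespace Cfsg.Agent.S4127

/-- Let G be a finite group, p a prime and p^a the largest power of p dividing the size of any conjugacy class of G. If some element of p-power order has a conjugacy class of size exactly p^a, then G has a normal p-complement. -/
theorem result {G : Type*} [Group G] [Finite G] (p : ℕ) [Fact p.Prime]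
    (a : ℕ) (hmax : ∀ y : G, ¬ p ^ (a + 1) ∣ (Subgroup.centralizer ({y} : Set G)).index)
    (hx : ∃ x : G, (∃ k : ℕ, orderOf x = p ^ k) ∧ (Subgroup.centralizer ({x} : Set G)).index = p ^ a) :
    Cfsg.HasNormalPComplement p G := by
  have hp : p.Prime := Fact.out
  obtain ⟨x, ⟨k, hk⟩, hidx⟩ := hx
  haveI hRn := Cfsg.pCore_normal p G
  set C := Subgroup.centralizer ({x} : Set G) with hC
  have hxx : x ^ (p ^ k) = 1 := by rw [← hk]; exact pow_orderOf_eq_one x
  have hxR : x ∈ Cfsg.pCore p G := Cfsg.Agent.Lib.Helper1_Kazarin.pElement_mem_pCore hxx hidx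
  -- step 1
  have h1 : ∀ y : ↥C, (orderOf y).Coprime p → ¬ p ∣ (ConjClasses.mk y).carrier.ncard := by
    intro y hy hdv
    rw [Cfsg.Agent.Lib.Helper1_Kazarin.ncard_carrier] at hdv
    have e : Subgroup.centralizer ({y} : Set ↥C) =
        (Subgroup.centralizer ({(y : G)} : Set G)).subgroupOf C := by
      ext z
      simp only [Subgroup.mem_centralizer_singleton_iff, Subgroup.mem_subgroupOf, Subtype.ext_iff,
        Subgroup.coe_mul]
    rw [e] at hdv
    change p ∣ (Subgroup.centralizer ({(y : G)} : Set G)).relIndex C at hdv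
    have hcomm : Commute x (y : G) := (Subgroup.mem_centralizer_singleton_iff.mp y.2).symm
    have hyo : ¬ p ∣ orderOf (y : G) := by
      rw [Subgroup.orderOf_coe]
      exact fun h => (Nat.Prime.coprime_iff_not_dvd hp).mp hy.symm h
    obtain ⟨m, n, hm, hn⟩ := Cfsg.Agent.Lib.Helper2_PPart.isPPart_eq_pow hp rfl hcomm ⟨k, hk⟩ hyo
    have e2 : Subgroup.centralizer ({x * (y : G)} : Set G) =
        C ⊓ Subgroup.centralizer ({(y : G)} : Set G) := by
      ext z
      simp only [Subgroup.mem_inf, hC, Subgroup.mem_centralizer_singleton_iff]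
      constructor
      · intro hz
        have hz' : Commute z (x * (y : G)) := hz
        constructor
        · have := hz'.pow_right m
          rw [← hm] at this
          exact this.eq
        · have := hz'.pow_right n
          rw [← hn] at this
          exact this.eq
      · rintro ⟨hz1, hz2⟩
        exact (Commute.mul_right (show Commute z x from hz1) (show Commute z (y : G) from hz2)).eq
    have e3 : (Subgroup.centralizer ({x * (y : G)} : Set G)).index =
        (Subgroup.centralizer ({(y : G)} : Set G)).relIndex C * p ^ a := by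
      rw [e2, ← hidx, ← Subgroup.relIndex_mul_index (inf_le_left : C ⊓ _ ≤ C),
        Subgroup.inf_relIndex_left]
    apply hmax (x * (y : G))
    rw [e3, pow_succ, mul_comm]
    exact Nat.mul_dvd_mul_right hdv _
  obtain ⟨P₀⟩ : Nonempty (Sylow p ↥C) := inferInstance
  obtain ⟨hPn, H, hHn, hHp, hinf, hsup⟩ := Cfsg.Agent.S4035.result h1 P₀
  set H' : Subgroup G := H.map C.subtype with hH'
  have hH'C : H' ≤ C := Subgroup.map_subtype_le _
  have hcardH : Nat.card H' = Nat.card H := Subgroup.card_map_of_injective C.subtype_injective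
  have hcop : (Nat.card H').Coprime p := by
    rw [hcardH]
    exact ((Nat.Prime.coprime_iff_not_dvd hp).mpr hHp).symm
  -- step 4
  have h4 : H' ≤ Subgroup.centralizer ((Cfsg.pCore p G : Subgroup G) : Set G) := by
    apply Cfsg.Agent.S0028.result p (Subgroup.zpowers x) H' (Cfsg.pCore p G)
    · exact IsPGroup.of_card (n := k) (by rw [Nat.card_zpowers, hk])
    · exact hcop
    · exact Cfsg.Agent.Lib.Helper4_Core.pCore_isPGroup p G
    · rw [Subgroup.zpowers_le, Subgroup.mem_centralizer_iff]
      intro h hh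
      exact Subgroup.mem_centralizer_singleton_iff.mp (hH'C hh)
    · rw [Subgroup.normalizer_eq_top]; exact le_top
    · rw [Subgroup.normalizer_eq_top]; exact le_top
    · rintro r ⟨hr1, hr2⟩
      have hrC : r ∈ C := by
        rw [hC, Subgroup.mem_centralizer_singleton_iff]
        exact (Subgroup.mem_centralizer_iff.mp hr2 x (Subgroup.mem_zpowers x)).symm
      obtain ⟨j, hj⟩ := (Cfsg.Agent.Lib.Helper4_Core.pCore_isPGroup p G) ⟨r, hr1⟩
      have hj' : r ^ (p ^ j) = 1 := by
        have := congrArg Subtype.val hj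
        simpa using this
      obtain ⟨j', hj''⟩ := Cfsg.Agent.Lib.Helper2_PPart.orderOf_eq_pow_of_pow_eq_one hp hj'
      have hrP : (⟨r, hrC⟩ : ↥C) ∈ (P₀ : Subgroup ↥C) :=
        Cfsg.Agent.Lib.Helper7_Nilp.mem_sylow_of_orderOf_of_normal P₀ hPn (a := j')
          (by rw [Subgroup.orderOf_mk]; exact hj'')
      rw [Subgroup.mem_centralizer_iff]
      rintro _ ⟨h, hh, rfl⟩
      have := Subgroup.commute_of_normal_of_disjoint _ _ hPn hHn (disjoint_iff.mpr hinf) _ _ hrP hh
      have h5 := congrArg Subtype.val this.eq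
      exact h5.symm
  -- index
  have hHidx : H.index = Nat.card (P₀ : Subgroup ↥C) := by
    rw [← Subgroup.relIndex_top_right, ← hsup, Subgroup.relIndex_sup_right,
      ← Subgroup.inf_relIndex_right, inf_comm, hinf, Subgroup.relIndex_bot_left]
  obtain ⟨b, hb⟩ := IsPGroup.iff_card.mp P₀.2
  have hidx' : H'.index = p ^ (b + a) := by
    rw [hH', Subgroup.index_map_subtype, hHidx, hb, hidx, pow_add]
  -- normality
  have hnorm : H'.Normal := by
    constructor
    intro h hh g
    have hz1 : g * h * g⁻¹ ∈ Subgroup.centralizer ((Cfsg.pCore p G : Subgroup G) : Set G) :=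
      (inferInstance : (Subgroup.centralizer ((Cfsg.pCore p G : Subgroup G) : Set G)).Normal).conj_mem
        h (h4 hh) g
    have hzC : g * h * g⁻¹ ∈ C := by
      rw [hC, Subgroup.mem_centralizer_singleton_iff]
      exact (Subgroup.mem_centralizer_iff.mp hz1 x hxR).symm
    have hzo : (orderOf (⟨g * h * g⁻¹, hzC⟩ : ↥C)).Coprime H.index := by
      rw [Subgroup.orderOf_mk, hHidx, hb]
      have e1 : orderOf (g * h * g⁻¹) = orderOf h := by
        have := (MulAut.conj g).orderOf_eq h
        simpa using this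
      rw [e1]
      apply Nat.Coprime.pow_right
      exact Nat.Coprime.coprime_dvd_left (Subgroup.orderOf_dvd_natCard H' hh) hcop
    have hzH : (⟨g * h * g⁻¹, hzC⟩ : ↥C) ∈ H :=
      Cfsg.Agent.Lib.Helper7_Class.mem_of_pow_mem_of_coprime H _ hzo.symm (H.pow_index_mem _)
        (by rw [pow_orderOf_eq_one]; exact H.one_mem)
    exact ⟨_, hzH, rfl⟩
  exact Cfsg.Agent.Lib.Helper1_PNil.hasNormalPComplement_iff.mpr ⟨H', hnorm, hcop, _, hidx'⟩

end Cfsg.Agent.S4127
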