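import Cfsg.Statements.S4355

set_option autoImplicit false
open Cfsg

namespace Cfsg.Agent.S4355

universe u

/-- the hypothesis: every `2`-element has a class of odd size. -/
def HH (G : Type u) [Group G] : Prop :=
  ∀ x : G, (∃ k : ℕ, orderOf x = 2 ^ k) → ¬ 2 ∣ (Subgroup.centralizer ({x} : Set G)).index

variable {G : Type u} [Group G]

theorem mem_smul_iff {p : ℕ} (g x : G) (Q : Sylow p G) :
    x ∈ (g • Q : Sylow p G) ↔ g⁻¹ * x * g ∈ Q := by
  show x ∈ ((g • Q : Sylow p G) : Subgroup G) ↔ _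
  rw [Sylow.coe_subgroup_smul, Subgroup.mem_pointwise_smul_iff_inv_smul_mem, ← map_inv]
  have : (MulAut.conj g⁻¹) • x = g⁻¹ * x * g := by
    show g⁻¹ * x * g⁻¹⁻¹ = _
    rw [inv_inv]
  rw [this]
  rfl

theorem pow2 (P : Sylow 2 G) {x : G} (hx : x ∈ P) : ∃ k : ℕ, orderOf x = 2 ^ k := by
  obtain ⟨k, hk⟩ := P.2 ⟨x, hx⟩
  have hk' : x ^ 2 ^ k = 1 := congrArg Subtype.val hk
  obtain ⟨j, -, hj⟩ := (Nat.dvd_prime_pow Nat.prime_two).1 (orderOf_dvd_of_pow_eq_one hk')
  exact ⟨j, hj⟩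

/-- a `2`-element with odd class that is inverted by an involution is itself of order `≤ 2`. -/
theorem stepA0 [Finite G] (u s : G) (hs : s * s = 1) (hinv : s * u * s⁻¹ = u⁻¹)
    (hodd : ¬ 2 ∣ (Subgroup.centralizer ({u} : Set G)).index) : u * u = 1 := by
  classical
  haveI : Fact (Nat.Prime 2) := ⟨Nat.prime_two⟩
  set C := Subgroup.centralizer ({u} : Set G) with hC
  have hsi : s⁻¹ = s := inv_eq_of_mul_eq_one_left hs
  have h1 : s * u = u⁻¹ * s := by
    have := congrArg (· * s) hinv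
    simpa [mul_assoc] using this
  have h2 : s * u⁻¹ = u * s := by
    have : u * (s * u) * u⁻¹ = u * (u⁻¹ * s) * u⁻¹ := by rw [h1]
    have h3 : u * s = s * u⁻¹ := by simpa [mul_assoc] using this
    exact h3.symm
  have hnorm : ∀ c ∈ C, s⁻¹ * c * s ∈ C := by
    intro c hc
    rw [hC, Subgroup.mem_centralizer_singleton_iff] at hc ⊢
    have hc' : c * u⁻¹ = u⁻¹ * c := by
      have : u⁻¹ * (c * u) * u⁻¹ = u⁻¹ * (u * c) * u⁻¹ := by rw [hc]
      simpa [mul_assoc] using this.symm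
    rw [hsi]
    calc s * c * s * u = s * c * (s * u) := by group
      _ = s * (c * u⁻¹) * s := by rw [h1]; group
      _ = (s * u⁻¹) * c * s := by rw [hc']; group
      _ = u * (s * c * s) := by rw [h2]; group
  haveI : Fintype (G ⧸ C) := Fintype.ofFinite _
  let f : G ⧸ C → G ⧸ C := Quotient.map' (fun g => g * s) (by
    intro a b hab
    rw [QuotientGroup.leftRel_apply] at hab ⊢
    have := hnorm _ hab
    convert this using 1
    group)
  have hff : ∀ q, f (f q) = q := by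
    intro q
    induction q using Quotient.inductionOn' with | _ g => ?_
    show (Quotient.mk'' (g * s * s) : G ⧸ C) = Quotient.mk'' g
    rw [mul_assoc, hs, mul_one]
  let σ : Equiv.Perm (G ⧸ C) :=
    { toFun := f, invFun := f, left_inv := hff, right_inv := hff }
  have hσ : σ ^ 2 ^ 1 = 1 := by
    apply Equiv.ext
    intro q
    exact hff q
  have hcard : ¬ 2 ∣ Fintype.card (G ⧸ C) := by
    rw [← Nat.card_eq_fintype_card]
    exact hodd
  obtain ⟨q, hq⟩ := Equiv.Perm.exists_fixed_point_of_prime hcard hσ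
  induction q using Quotient.inductionOn' with | _ g => ?_
  have h3 : (Quotient.mk'' (g * s) : G ⧸ C) = Quotient.mk'' g := hq
  have h4 : (g * s)⁻¹ * g ∈ C := by
    have := Quotient.exact' h3
    rwa [QuotientGroup.leftRel_apply] at this
  have h5 : s ∈ C := by
    have : (g * s)⁻¹ * g = s⁻¹ := by group
    rw [this, hsi] at h4
    exact h4
  rw [hC, Subgroup.mem_centralizer_singleton_iff] at h5
  have h6 : u = u⁻¹ := by
    rw [← hinv, h5]; group
  calc u * u = u * u⁻¹ := by rw [← h6]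
    _ = 1 := mul_inv_cancel u

theorem L1 [Finite G] (hH : HH G) (x : G) (hx : ∃ k : ℕ, orderOf x = 2 ^ k) (U : Subgroup G)
    (hU : IsPGroup 2 U) (hUC : U ≤ Subgroup.centralizer ({x} : Set G)) :
    ∃ Q : Sylow 2 G, U ≤ Q ∧ (Q : Subgroup G) ≤ Subgroup.centralizer ({x} : Set G) := by
  haveI : Fact (Nat.Prime 2) := ⟨Nat.prime_two⟩
  set C := Subgroup.centralizer ({x} : Set G) with hC
  have hU' : IsPGroup 2 (U.subgroupOf C) := hU.comap_subtype
  obtain ⟨Q0, hQ0⟩ := hU'.exists_le_sylow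
  have hidx : ¬ 2 ∣ ((Q0 : Subgroup C).map C.subtype).index := by
    rw [Subgroup.index_map_subtype]
    exact Nat.Prime.not_dvd_mul Nat.prime_two Q0.not_dvd_index (hH x hx)
  refine ⟨(Q0.2.map C.subtype).toSylow hidx, ?_, ?_⟩
  · rw [IsPGroup.toSylow_coe]
    intro v hv
    exact ⟨⟨v, hUC hv⟩, hQ0 hv, rfl⟩
  · rw [IsPGroup.toSylow_coe]
    rintro _ ⟨v, -, rfl⟩
    exact v.2

theorem stepA [Finite G] (hH : HH G) (P : Sylow 2 G) {s t : G} (hs : s ∈ P) (hs2 : s * s = 1)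
    (ht : t ∈ P) (ht2 : t * t = 1) : s * t = t * s := by
  have hsi : s⁻¹ = s := inv_eq_of_mul_eq_one_left hs2
  have hti : t⁻¹ = t := inv_eq_of_mul_eq_one_left ht2
  have hu := pow2 P ((P : Subgroup G).mul_mem hs ht)
  have h1 := stepA0 (s * t) s hs2 (by
    rw [mul_inv_rev, hsi, hti, ← mul_assoc, hs2, one_mul]) (hH _ hu)
  calc s * t = s * t * ((s * t) * (t * s)) := by
        rw [mul_assoc s t (t * s), ← mul_assoc t t s, ht2, one_mul, hs2, mul_one]
    _ = (s * t * (s * t)) * (t * s) := by group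
    _ = t * s := by rw [h1, one_mul]

/-- the involutions of a Sylow `2`-subgroup form a subgroup. -/
def Om [Finite G] (hH : HH G) (P : Sylow 2 G) : Subgroup G where
  carrier := {x | x ∈ P ∧ x * x = 1}
  one_mem' := ⟨(P : Subgroup G).one_mem, by simp⟩
  mul_mem' := by
    rintro a b ⟨ha, ha2⟩ ⟨hb, hb2⟩
    refine ⟨(P : Subgroup G).mul_mem ha hb, ?_⟩
    calc a * b * (a * b) = a * (b * a) * b := by group
      _ = a * (a * b) * b := by rw [stepA hH P hb hb2 ha ha2]
      _ = (a * a) * (b * b) := by group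
      _ = 1 := by rw [ha2, hb2, one_mul]
  inv_mem' := by
    rintro a ⟨ha, ha2⟩
    refine ⟨(P : Subgroup G).inv_mem ha, ?_⟩
    rw [← mul_inv_rev, ha2, inv_one]

theorem mem_Om [Finite G] (hH : HH G) (P : Sylow 2 G) (x : G) :
    x ∈ Om hH P ↔ x ∈ P ∧ x * x = 1 := Iff.rfl

theorem Om_le [Finite G] (hH : HH G) (P : Sylow 2 G) : Om hH P ≤ P := fun _ hx => hx.1

theorem Om_eq_of_le [Finite G] (hH : HH G) (Q Q' : Sylow 2 G) (h : Om hH Q ≤ Q') :
    Om hH Q = Om hH Q' := by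
  haveI : Fact (Nat.Prime 2) := ⟨Nat.prime_two⟩
  obtain ⟨g, hg⟩ := MulAction.exists_smul_eq G Q Q'
  have h1 : (Om hH Q' : Set G) = (fun x => g * x * g⁻¹) '' (Om hH Q : Set G) := by
    ext x
    constructor
    · rintro ⟨hx, hx2⟩
      rw [← hg, mem_smul_iff] at hx
      refine ⟨g⁻¹ * x * g, ⟨hx, ?_⟩, by group⟩
      calc g⁻¹ * x * g * (g⁻¹ * x * g) = g⁻¹ * (x * x) * g := by group
        _ = 1 := by rw [hx2]; group
    · rintro ⟨v, ⟨hv, hv2⟩, rfl⟩
      refine ⟨?_, ?_⟩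
      · rw [← hg, mem_smul_iff]
        convert hv using 1
        group
      · calc g * v * g⁻¹ * (g * v * g⁻¹) = g * (v * v) * g⁻¹ := by group
          _ = 1 := by rw [hv2]; group
  have h2 : (Om hH Q' : Set G).ncard = (Om hH Q : Set G).ncard := by
    rw [h1]
    apply Set.ncard_image_of_injective
    intro a b hab
    simpa using hab
  have h3 : (Om hH Q : Set G) ⊆ (Om hH Q' : Set G) := fun x hx => ⟨h hx, hx.2⟩
  exact SetLike.coe_injective (Set.eq_of_subset_of_ncard_le h3 h2.le (Set.toFinite _))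

/-- Step B: the involutions of a Sylow `2`-subgroup are central in it. -/
theorem stepB [Finite G] (hH : HH G) (P : Sylow 2 G) {e0 b : G} (he0 : e0 ∈ P)
    (he02 : e0 * e0 = 1) (hb : b ∈ P) : b * e0 = e0 * b := by
  classical
  haveI : Fact (Nat.Prime 2) := ⟨Nat.prime_two⟩
  by_contra hne
  set E := Om hH P with hE
  have hex : ∃ k : ℕ, ∀ e ∈ E, b ^ 2 ^ k * e = e * b ^ 2 ^ k := by
    obtain ⟨k, hk⟩ := pow2 P hb
    refine ⟨k, fun e _ => ?_⟩
    rw [← hk, pow_orderOf_eq_one]; simp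
  have hk1 := Nat.find_spec hex
  have hk0 : Nat.find hex ≠ 0 := by
    intro h0
    rw [h0] at hk1
    apply hne
    simpa using hk1 e0 ⟨he0, he02⟩
  obtain ⟨j, hj⟩ := Nat.exists_eq_succ_of_ne_zero hk0
  have hj' : ¬ ∀ e ∈ E, b ^ 2 ^ j * e = e * b ^ 2 ^ j := Nat.find_min hex (by omega)
  have haa0 : b ^ 2 ^ j * b ^ 2 ^ j = b ^ 2 ^ (Nat.find hex) := by
    rw [← pow_add, hj, Nat.succ_eq_add_one, pow_succ 2 j, mul_two]
  set a := b ^ 2 ^ j with ha
  have haP : a ∈ P := (P : Subgroup G).pow_mem hb _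
  have haa : ∀ e ∈ E, a * a * e = e * (a * a) := by
    intro e he
    rw [haa0]
    exact hk1 e he
  push Not at hj'
  obtain ⟨e1, he1, hne1⟩ := hj'
  have hEcomm : ∀ x ∈ E, ∀ y ∈ E, x * y = y * x := fun x hx y hy =>
    stepA hH P hx.1 hx.2 hy.1 hy.2
  have haE : ∀ e ∈ E, a * e * a⁻¹ ∈ E := by
    intro e he
    refine ⟨(P : Subgroup G).mul_mem ((P : Subgroup G).mul_mem haP he.1)
      ((P : Subgroup G).inv_mem haP), ?_⟩
    calc a * e * a⁻¹ * (a * e * a⁻¹) = a * (e * e) * a⁻¹ := by group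
      _ = 1 := by rw [he.2]; group
  set Z0 : Subgroup G := E ⊓ Subgroup.centralizer ({a} : Set G) with hZ0
  have hZ0p : IsPGroup 2 Z0 := P.2.to_le (inf_le_left.trans (Om_le hH P))
  obtain ⟨Q, hZQ, hQC⟩ := L1 hH a (pow2 P haP) Z0 hZ0p inf_le_right
  set F := Om hH Q with hF
  have hZF : Z0 ≤ F := fun z hz => ⟨hZQ hz, hz.1.2⟩
  have hFcomm : ∀ x ∈ F, ∀ y ∈ F, x * y = y * x := fun x hx y hy =>
    stepA hH Q hx.1 hx.2 hy.1 hy.2
  have hFa : ∀ f ∈ F, a * f * a⁻¹ = f := by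
    intro f hf
    have := hQC hf.1
    rw [Subgroup.mem_centralizer_singleton_iff] at this
    rw [← this]; group
  let Y : Subgroup G :=
    { carrier := {x | (∀ z ∈ Z0, x * z = z * x) ∧ x⁻¹ * (a * x * a⁻¹) ∈ Z0}
      one_mem' := ⟨fun z _ => by simp, by simpa using Z0.one_mem⟩
      mul_mem' := by
        rintro x y ⟨hx1, hx2⟩ ⟨hy1, hy2⟩
        refine ⟨fun z hz => ?_, ?_⟩
        · rw [mul_assoc, hy1 z hz, ← mul_assoc, hx1 z hz, mul_assoc]
        · have h1 : (x * y)⁻¹ * (a * (x * y) * a⁻¹) =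
              y⁻¹ * (x⁻¹ * (a * x * a⁻¹)) * y * (y⁻¹ * (a * y * a⁻¹)) := by group
          have h2 : y⁻¹ * (x⁻¹ * (a * x * a⁻¹)) * y = x⁻¹ * (a * x * a⁻¹) := by
            rw [mul_assoc, ← hy1 _ hx2]; group
          rw [h1, h2]
          exact Z0.mul_mem hx2 hy2
      inv_mem' := by
        rintro x ⟨hx1, hx2⟩
        have hx1' : ∀ z ∈ Z0, x⁻¹ * z = z * x⁻¹ := by
          intro z hz
          have : x⁻¹ * (x * z) * x⁻¹ = x⁻¹ * (z * x) * x⁻¹ := by rw [hx1 z hz]
          simpa [mul_assoc] using this.symm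
        refine ⟨hx1', ?_⟩
        have h1 : x⁻¹⁻¹ * (a * x⁻¹ * a⁻¹) = x * (x⁻¹ * (a * x * a⁻¹))⁻¹ * x⁻¹ := by group
        have h2 : x * (x⁻¹ * (a * x * a⁻¹))⁻¹ * x⁻¹ = (x⁻¹ * (a * x * a⁻¹))⁻¹ := by
          rw [hx1 _ (Z0.inv_mem hx2)]; group
        rw [h1, h2]
        exact Z0.inv_mem hx2 }
  have hEY : E ≤ Y := by
    intro e he
    refine ⟨fun z hz => hEcomm e he z hz.1, ?_, ?_⟩
    · exact E.mul_mem (E.inv_mem he) (haE e he)
    · show e⁻¹ * (a * e * a⁻¹) ∈ Subgroup.centralizer ({a} : Set G)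
      rw [Subgroup.mem_centralizer_singleton_iff]
      have hei : e⁻¹ = e := inv_eq_of_mul_eq_one_left he.2
      rw [hei]
      have h1 : a * (a * e * a⁻¹) * a⁻¹ = e := by
        have : a * (a * e * a⁻¹) * a⁻¹ = (a * a * e) * (a * a)⁻¹ := by group
        rw [this, haa e he]; group
      have h2 : a * (e * (a * e * a⁻¹)) * a⁻¹ = e * (a * e * a⁻¹) := by
        calc a * (e * (a * e * a⁻¹)) * a⁻¹ = (a * e * a⁻¹) * (a * (a * e * a⁻¹) * a⁻¹) := by group
          _ = (a * e * a⁻¹) * e := by rw [h1]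
          _ = e * (a * e * a⁻¹) := hEcomm _ (haE e he) _ he
      calc e * (a * e * a⁻¹) * a = (a * (e * (a * e * a⁻¹)) * a⁻¹) * a := by rw [h2]
        _ = a * (e * (a * e * a⁻¹)) := by group
  have hFY : F ≤ Y := by
    intro f hf
    refine ⟨fun z hz => hFcomm f hf z (hZF hz), ?_⟩
    rw [hFa f hf, inv_mul_cancel]
    exact Z0.one_mem
  have hFp : IsPGroup 2 (F.subgroupOf Y) := (Q.2.to_le (Om_le hH Q)).comap_subtype
  have hEp : IsPGroup 2 (E.subgroupOf Y) := (P.2.to_le (Om_le hH P)).comap_subtype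
  obtain ⟨RF, hRF⟩ := hFp.exists_le_sylow
  obtain ⟨RE, hRE⟩ := hEp.exists_le_sylow
  obtain ⟨y, hy⟩ := MulAction.exists_smul_eq Y RF RE
  obtain ⟨Q', hQ'⟩ := (RF.2.map Y.subtype).exists_le_sylow
  have hFQ' : F ≤ Q' := by
    intro f hf
    exact hQ' ⟨⟨f, hFY hf⟩, hRF hf, rfl⟩
  have hOm : F = Om hH Q' := Om_eq_of_le hH Q Q' hFQ'
  have h1 : (⟨e1, hEY he1⟩ : Y) ∈ RE := hRE he1
  rw [← hy, mem_smul_iff] at h1
  have h2 : (y : G)⁻¹ * e1 * y ∈ Q' := hQ' ⟨_, h1, rfl⟩
  have h3 : (y : G)⁻¹ * e1 * y ∈ F := by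
    rw [hOm]
    refine ⟨h2, ?_⟩
    calc (y : G)⁻¹ * e1 * y * ((y : G)⁻¹ * e1 * y) = (y : G)⁻¹ * (e1 * e1) * y := by group
      _ = 1 := by rw [he1.2]; group
  set f := (y : G)⁻¹ * e1 * y with hf
  have h4 := hFa f h3
  obtain ⟨hy1, hy2⟩ := y.2
  set z := (y : G)⁻¹ * (a * y * a⁻¹) with hz
  have h5 : a * (y : G) * a⁻¹ = y * z := by rw [hz]; group
  have h6 : z * f = f * z := ((hFY h3).1 z hy2).symm
  have h7 : e1 = y * f * (y : G)⁻¹ := by rw [hf]; group
  apply hne1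
  have h8 : a * e1 * a⁻¹ = e1 := by
    calc a * e1 * a⁻¹ = (a * y * a⁻¹) * (a * f * a⁻¹) * (a * y * a⁻¹)⁻¹ := by rw [h7]; group
      _ = (y * z) * f * (y * z)⁻¹ := by rw [h5, h4]
      _ = y * (z * f) * z⁻¹ * (y : G)⁻¹ := by group
      _ = y * (f * z) * z⁻¹ * (y : G)⁻¹ := by rw [h6]
      _ = y * f * (y : G)⁻¹ := by group
      _ = e1 := h7.symm
  calc a * e1 = (a * e1 * a⁻¹) * a := by group
    _ = e1 * a := by rw [h8]

/-- the hypothesis passes to the centralizer of an involution. -/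
theorem HH_centralizer [Finite G] (hH : HH G) {y : G} (hy2 : y * y = 1) :
    HH (Subgroup.centralizer ({y} : Set G)) := by
  haveI : Fact (Nat.Prime 2) := ⟨Nat.prime_two⟩
  set C := Subgroup.centralizer ({y} : Set G) with hC
  intro x hx
  have hx' : ∃ k : ℕ, orderOf (x : G) = 2 ^ k := by
    rw [Subgroup.orderOf_coe]; exact hx
  have hyp : IsPGroup 2 (Subgroup.zpowers y) := by
    apply IsPGroup.of_card_dvd_pow (n := 1)
    rw [Nat.card_zpowers]
    apply orderOf_dvd_of_pow_eq_one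
    rw [pow_one, pow_two, hy2]
  have hyx : Subgroup.zpowers y ≤ Subgroup.centralizer ({(x : G)} : Set G) := by
    rw [Subgroup.zpowers_le, Subgroup.mem_centralizer_singleton_iff]
    have : (x : G) ∈ Subgroup.centralizer ({y} : Set G) := x.2
    rw [Subgroup.mem_centralizer_singleton_iff] at this
    exact this.symm
  obtain ⟨Q, hyQ, hQx⟩ := L1 hH (x : G) hx' _ hyp hyx
  have hyQ' : y ∈ Q := hyQ (Subgroup.mem_zpowers y)
  have hQC : (Q : Subgroup G) ≤ C := by
    intro q hq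
    rw [hC, Subgroup.mem_centralizer_singleton_iff]
    exact stepB hH Q hyQ' hy2 hq
  have h1 : (Q : Subgroup G).subgroupOf C ≤ Subgroup.centralizer ({x} : Set C) := by
    intro q hq
    rw [Subgroup.mem_centralizer_singleton_iff]
    apply Subtype.ext
    have := hQx hq
    rw [Subgroup.mem_centralizer_singleton_iff] at this
    exact this
  have h2 := Subgroup.index_dvd_of_le h1
  have h3 : ((Q : Subgroup G).subgroupOf C).index ∣ (Q : Subgroup G).index :=
    Dvd.intro _ (Subgroup.relIndex_mul_index hQC)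
  intro h
  exact Q.not_dvd_index ((h.trans h2).trans h3)

/-- the hypothesis passes to the quotient by a normal subgroup of exponent two. -/
theorem HH_quotient [Finite G] (hH : HH G) (N : Subgroup G) [N.Normal]
    (hN : ∀ v ∈ N, v * v = 1) : HH (G ⧸ N) := by
  intro xb hxb
  obtain ⟨x, rfl⟩ := QuotientGroup.mk_surjective xb
  obtain ⟨k, hk⟩ := hxb
  have h1 : x ^ 2 ^ k ∈ N := by
    rw [← QuotientGroup.eq_one_iff, QuotientGroup.mk_pow, ← hk, pow_orderOf_eq_one]
  have h2 : x ^ 2 ^ (k + 1) = 1 := by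
    rw [pow_succ, pow_mul, pow_two]
    exact hN _ h1
  obtain ⟨j, -, hj⟩ := (Nat.dvd_prime_pow Nat.prime_two).1 (orderOf_dvd_of_pow_eq_one h2)
  have h3 := hH x ⟨j, hj⟩
  have h4 : Subgroup.centralizer ({x} : Set G) ≤
      (Subgroup.centralizer ({(x : G ⧸ N)} : Set (G ⧸ N))).comap (QuotientGroup.mk' N) := by
    intro c hc
    rw [Subgroup.mem_centralizer_singleton_iff] at hc
    rw [Subgroup.mem_comap, Subgroup.mem_centralizer_singleton_iff]
    show ((c * x : G) : G ⧸ N) = ((x * c : G) : G ⧸ N)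
    rw [hc]
  have h5 := Subgroup.index_dvd_of_le h4
  rw [Subgroup.index_comap_of_surjective _ (QuotientGroup.mk'_surjective N)] at h5
  intro h
  exact h3 (h.trans h5)

theorem main : ∀ (n : ℕ) (G : Type u) [Group G] [Finite G], Nat.card G = n → HH G →
    ∀ (P : Sylow 2 G) (x w : G), x ∈ P → w ∈ P → x * w = w * x := by
  intro n
  induction n using Nat.strong_induction_on with
  | _ n ih =>
  intro G _ _ hn hH P x w hx hw
  classical
  haveI : Fact (Nat.Prime 2) := ⟨Nat.prime_two⟩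
  by_cases htriv : ∀ v ∈ P, v = 1
  · rw [htriv x hx, htriv w hw]
  push Not at htriv
  obtain ⟨v, hv, hv1⟩ := htriv
  obtain ⟨y, hyP, hy1, hy2⟩ : ∃ y ∈ P, y ≠ 1 ∧ y * y = 1 := by
    obtain ⟨k, hk⟩ := pow2 P hv
    have hk0 : k ≠ 0 := by
      rintro rfl
      apply hv1
      rw [pow_zero, orderOf_eq_one_iff] at hk
      exact hk
    obtain ⟨j, rfl⟩ := Nat.exists_eq_succ_of_ne_zero hk0
    refine ⟨v ^ 2 ^ j, (P : Subgroup G).pow_mem hv _, ?_, ?_⟩
    · apply pow_ne_one_of_lt_orderOf (by positivity)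
      rw [hk]
      exact Nat.pow_lt_pow_right (by norm_num) (by omega)
    · rw [← pow_add, ← mul_two, ← pow_succ, ← Nat.succ_eq_add_one, ← hk, pow_orderOf_eq_one]
  set C := Subgroup.centralizer ({y} : Set G) with hC
  have hPC : (P : Subgroup G) ≤ C := by
    intro q hq
    rw [hC, Subgroup.mem_centralizer_singleton_iff]
    exact stepB hH P hyP hy2 hq
  by_cases hCtop : C = ⊤
  · -- `y` is central
    have hyc : ∀ g : G, g * y = y * g := by
      intro g
      have : g ∈ C := by rw [hCtop]; trivial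
      rwa [hC, Subgroup.mem_centralizer_singleton_iff] at this
    set N := Subgroup.zpowers y with hN
    have hNc : ∀ v ∈ N, ∀ g : G, g * v = v * g := by
      intro v hv g
      obtain ⟨i, rfl⟩ := Subgroup.mem_zpowers_iff.mp hv
      exact ((Commute.zpow_right (hyc g) i)).eq
    haveI hNn : N.Normal := by
      constructor
      intro v hv g
      rw [hNc v hv g]
      simpa using hv
    have hN2 : ∀ v ∈ N, v * v = 1 := by
      intro v hv
      obtain ⟨i, rfl⟩ := Subgroup.mem_zpowers_iff.mp hv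
      rw [← zpow_add, ← two_mul, zpow_mul, zpow_two, hy2, one_zpow]
    have hNP : N ≤ P := by
      rw [hN, Subgroup.zpowers_le]
      exact hyP
    have hltq : Nat.card (G ⧸ N) < n := by
      rw [← hn, Subgroup.card_eq_card_quotient_mul_card_subgroup N]
      have h2 : 1 < Nat.card N := by
        rw [hN, Nat.card_zpowers]
        have h3 : orderOf y ≠ 1 := fun h => hy1 (orderOf_eq_one_iff.mp h)
        have h4 : 0 < orderOf y := orderOf_pos y
        omega
      have h3 : 0 < Nat.card (G ⧸ N) := Nat.card_pos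
      nlinarith
    set Pb : Sylow 2 (G ⧸ N) := P.mapSurjective (QuotientGroup.mk'_surjective N) with hPb
    have hcomm := ih _ hltq (G ⧸ N) rfl (HH_quotient hH N hN2) Pb
    have hmemPb : ∀ g : G, (g : G ⧸ N) ∈ Pb ↔ g ∈ P := by
      intro g
      constructor
      · intro hg
        obtain ⟨q, hq, hqg⟩ := hg
        have h1 : q⁻¹ * g ∈ N := QuotientGroup.eq.mp hqg
        have h2 : g = q * (q⁻¹ * g) := by group
        rw [h2]
        exact (P : Subgroup G).mul_mem hq (hNP h1)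
      · intro hg
        exact ⟨g, hg, rfl⟩
    have hxp : IsPGroup 2 (Subgroup.zpowers x) := by
      obtain ⟨k, hk⟩ := pow2 P hx
      exact IsPGroup.of_card (n := k) (by rw [Nat.card_zpowers, hk])
    have hxx : Subgroup.zpowers x ≤ Subgroup.centralizer ({x} : Set G) := by
      rw [Subgroup.zpowers_le, Subgroup.mem_centralizer_singleton_iff]
    obtain ⟨Q, hxQ, hQx⟩ := L1 hH x (pow2 P hx) _ hxp hxx
    obtain ⟨g, hg⟩ := MulAction.exists_smul_eq G P Q
    have hx'P : g⁻¹ * x * g ∈ P := by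
      rw [← mem_smul_iff, hg]
      exact hxQ (Subgroup.mem_zpowers x)
    have hx'c : ∀ q ∈ P, (g⁻¹ * x * g) * q = q * (g⁻¹ * x * g) := by
      intro q hq
      have h1 : g * q * g⁻¹ ∈ Q := by
        rw [← hg, mem_smul_iff]
        convert hq using 1
        group
      have h2 := hQx h1
      rw [Subgroup.mem_centralizer_singleton_iff] at h2
      calc (g⁻¹ * x * g) * q = g⁻¹ * (x * (g * q * g⁻¹)) * g := by group
        _ = g⁻¹ * ((g * q * g⁻¹) * x) * g := by rw [h2]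
        _ = q * (g⁻¹ * x * g) := by group
    have hcb : ∀ v ∈ Pb, v ∈ Subgroup.centralizer ((Pb : Subgroup (G ⧸ N)) : Set (G ⧸ N)) := by
      intro v hv
      rw [Subgroup.mem_centralizer_iff]
      intro h hh
      exact hcomm h v hh hv
    obtain ⟨nb, hnb, hnb2⟩ := Pb.conj_eq_normalizer_conj_of_mem_centralizer (x : G ⧸ N)
      (g : G ⧸ N) (hcb _ ((hmemPb x).2 hx)) (hcb _ ((hmemPb _).2 hx'P))
    obtain ⟨m, rfl⟩ := QuotientGroup.mk_surjective nb
    have h5 : (g⁻¹ * x * g)⁻¹ * (m⁻¹ * x * m) ∈ N := QuotientGroup.eq.mp hnb2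
    set ν := (g⁻¹ * x * g)⁻¹ * (m⁻¹ * x * m) with hν
    have h6 : m⁻¹ * x * m = (g⁻¹ * x * g) * ν := by rw [hν]; group
    have h7 : m⁻¹ * w * m ∈ P := by
      rw [← hmemPb]
      apply ((Subgroup.mem_normalizer_iff.mp hnb) ((m⁻¹ * w * m : G) : G ⧸ N)).2
      have e : (m : G ⧸ N) * ((m⁻¹ * w * m : G) : G ⧸ N) * (m : G ⧸ N)⁻¹ = (w : G ⧸ N) := by
        rw [← QuotientGroup.mk_inv, ← QuotientGroup.mk_mul, ← QuotientGroup.mk_mul]
        congr 1
        group
      rw [e]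
      exact (hmemPb w).2 hw
    have h8 : (m⁻¹ * x * m) * (m⁻¹ * w * m) = (m⁻¹ * w * m) * (m⁻¹ * x * m) := by
      rw [h6, mul_assoc, ← hNc ν h5 (m⁻¹ * w * m), ← mul_assoc, hx'c _ h7, mul_assoc]
    calc x * w = m * ((m⁻¹ * x * m) * (m⁻¹ * w * m)) * m⁻¹ := by group
      _ = m * ((m⁻¹ * w * m) * (m⁻¹ * x * m)) * m⁻¹ := by rw [h8]
      _ = w * x := by group
  · have hlt : Nat.card C < n := by
      rw [← hn]
      exact lt_of_le_of_ne (Subgroup.card_le_card_group C)
        (fun h => hCtop (Subgroup.eq_top_of_card_eq C h))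
    have h1 := ih _ hlt C rfl (HH_centralizer hH hy2) (P.subtype hPC) ⟨x, hPC hx⟩ ⟨w, hPC hw⟩
      hx hw
    exact congrArg Subtype.val h1

/-- If every element of 2-power order of a finite group has a conjugacy class of odd size, then the Sylow 2-subgroups of the group are abelian. -/
theorem result {G : Type*} [Group G] [Finite G]
    (h : ∀ x : G, (∃ k : ℕ, orderOf x = 2 ^ k) → ¬ 2 ∣ (Subgroup.centralizer ({x} : Set G)).index) (P : Sylow 2 G) :
    IsMulCommutative P := by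
  refine ⟨⟨fun a b => ?_⟩⟩
  apply Subtype.ext
  exact main _ G rfl h P a b a.2 b.2

end Cfsg.Agent.S4355
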