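import Cfsg.Statements.S4194
import Cfsg.Agent.S4355

set_option autoImplicit false
open Cfsg

namespace Cfsg.Agent.S4194

/-- A finite group G has commutative Sylow 2-subgroups if and only if every 2-element of G (element of order a power of 2) is 2-central, that is, its centralizer contains a Sylow 2-subgroup of G. -/
theorem result {G : Type*} [Group G] [Finite G] (P : Sylow 2 G) :
    IsMulCommutative (P : Subgroup G) ↔ ∀ x : G, (∃ k : ℕ, orderOf x = 2 ^ k) → (∃ Q : Sylow 2 G, (Q : Subgroup G) ≤ Subgroup.centralizer ({x} : Set G)) := by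
  haveI : Fact (Nat.Prime 2) := ⟨Nat.prime_two⟩
  constructor
  · intro hP x hx
    obtain ⟨k, hk⟩ := hx
    have hxp : IsPGroup 2 (Subgroup.zpowers x) :=
      IsPGroup.of_card (n := k) (by rw [Nat.card_zpowers, hk])
    obtain ⟨Q, hQ⟩ := hxp.exists_le_sylow
    refine ⟨Q, ?_⟩
    obtain ⟨g, hg⟩ := MulAction.exists_smul_eq G P Q
    have hxQ : x ∈ Q := hQ (Subgroup.mem_zpowers x)
    intro q hq
    rw [Subgroup.mem_centralizer_singleton_iff]
    have h1 : g⁻¹ * x * g ∈ P := by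
      rw [← Cfsg.Agent.S4355.mem_smul_iff, hg]; exact hxQ
    have h2 : g⁻¹ * q * g ∈ P := by
      rw [← Cfsg.Agent.S4355.mem_smul_iff, hg]; exact hq
    have h3 : (⟨g⁻¹ * q * g, h2⟩ : (P : Subgroup G)) * ⟨g⁻¹ * x * g, h1⟩ =
        ⟨g⁻¹ * x * g, h1⟩ * ⟨g⁻¹ * q * g, h2⟩ := hP.is_comm.comm _ _
    have h4 : (g⁻¹ * q * g) * (g⁻¹ * x * g) = (g⁻¹ * x * g) * (g⁻¹ * q * g) :=
      congrArg Subtype.val h3
    calc q * x = g * ((g⁻¹ * q * g) * (g⁻¹ * x * g)) * g⁻¹ := by group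
      _ = g * ((g⁻¹ * x * g) * (g⁻¹ * q * g)) * g⁻¹ := by rw [h4]
      _ = x * q := by group
  · intro h
    apply Cfsg.Agent.S4355.result
    intro x hx
    obtain ⟨Q, hQ⟩ := h x hx
    intro h2
    exact Q.not_dvd_index (h2.trans (Subgroup.index_dvd_of_le hQ))

end Cfsg.Agent.S4194
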