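import Cfsg.Statements.S4347

import Cfsg.Agent.Lib.Helper7_Conj
import Cfsg.Agent.Lib.Helper7_Class
set_option autoImplicit false
open Cfsg

namespace Cfsg.Agent.S4347

open Cfsg.Agent.Lib.Helper7_Conj Cfsg.Agent.Lib.Helper7_Class
open scoped Pointwise

/-- Let G be a finite group and p a prime. Say a Sylow p-subgroup Q is redundant when every element of p-power order lies in some Sylow p-subgroup other than Q. Then G has no redundant Sylow p-subgroup if and only if some element of p-power order lies in exactly one Sylow p-subgroup. -/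
theorem result {G : Type*} [Group G] [Finite G]
    (p : ℕ) [Fact p.Prime] :
    (¬ ∃ Q : Sylow p G, ∀ x : G, (∃ k : ℕ, orderOf x = p ^ k) → ∃ P : Sylow p G, P ≠ Q ∧ x ∈ P) ↔
      ∃ x : G, (∃ k : ℕ, orderOf x = p ^ k) ∧ ∃! P : Sylow p G, x ∈ P := by
  have hmem : ∀ (g y : G) (P : Sylow p G), y ∈ g • P ↔ g⁻¹ * y * g ∈ P := by
    intro g y P
    change y ∈ ((g • P : Sylow p G) : Subgroup G) ↔ _
    rw [Sylow.coe_subgroup_smul, mem_smul_conj]
    rfl
  constructor
  · intro h
    push Not at h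
    obtain ⟨Q⟩ : Nonempty (Sylow p G) := inferInstance
    obtain ⟨x, hx, hxQ⟩ := h Q
    refine ⟨x, hx, ?_⟩
    obtain ⟨k, hk⟩ := hx
    have hpg : IsPGroup p (Subgroup.zpowers x) :=
      IsPGroup.of_card (n := k) (by rw [Nat.card_zpowers, hk])
    obtain ⟨P, hP⟩ := hpg.exists_le_sylow
    have hxP : x ∈ P := hP (Subgroup.mem_zpowers x)
    have hPQ : P = Q := by
      by_contra hne
      exact hxQ P hne hxP
    refine ⟨Q, hPQ ▸ hxP, ?_⟩
    intro P' hP'
    by_contra hne
    exact hxQ P' hne hP'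
  · rintro ⟨x, hx, P0, hxP0, huniq⟩ ⟨Q, hQ⟩
    obtain ⟨g, rfl⟩ := MulAction.exists_smul_eq G P0 Q
    obtain ⟨P, hPne, hP⟩ := hQ (g * x * g⁻¹) (by rw [orderOf_conj]; exact hx)
    apply hPne
    have : g⁻¹ • P = P0 := huniq _ (by show x ∈ g⁻¹ • P; rw [hmem]; simpa [mul_assoc] using hP)
    rw [← this, smul_inv_smul]

end Cfsg.Agent.S4347
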