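import Cfsg.Statements.S4348

set_option autoImplicit false
open Cfsg

namespace Cfsg.Agent.S4348


/-- Let G be a finite group, p a prime and P a Sylow p-subgroup of G, and let O_p(G) be the largest normal p-subgroup of G. If P/O_p(G) is cyclic, then some element of p-power order of G lies in exactly one Sylow p-subgroup. -/
theorem result {G : Type*} [Group G] [Finite G]
    (p : ℕ) [Fact p.Prime] (P : Sylow p G)
    [hn : ((Cfsg.pCore p G).subgroupOf (P : Subgroup G)).Normal]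
    (hc : IsCyclic ((P : Subgroup G) ⧸ (Cfsg.pCore p G).subgroupOf (P : Subgroup G))) :
    ∃ x : G, (∃ k : ℕ, orderOf x = p ^ k) ∧ ∃! Q : Sylow p G, x ∈ Q := by
  obtain ⟨g, hg⟩ := hc.exists_generator
  obtain ⟨x', rfl⟩ := QuotientGroup.mk_surjective g
  have hcore : ∀ Q : Sylow p G, Cfsg.pCore p G ≤ Q := by
    intro Q
    apply sSup_le
    rintro N ⟨hN, hNp⟩
    haveI := hN
    exact hNp.le_sylow_of_normal Q
  refine ⟨x'.1, ?_, P, x'.2, ?_⟩
  · obtain ⟨k, hk⟩ := (IsPGroup.iff_orderOf.1 P.isPGroup') x'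
    exact ⟨k, by rw [← hk, Subgroup.orderOf_coe]⟩
  · intro Q hQ
    have hQ' : x'.1 ∈ Q := hQ
    have hle : (P : Subgroup G) ≤ Q := by
      intro y hy
      obtain ⟨k, hk⟩ := Subgroup.mem_zpowers_iff.1 (hg (QuotientGroup.mk ⟨y, hy⟩))
      have h1 : (QuotientGroup.mk (x' ^ k) : (P : Subgroup G) ⧸ (Cfsg.pCore p G).subgroupOf (P : Subgroup G)) = QuotientGroup.mk ⟨y, hy⟩ := hk
      have h2 := QuotientGroup.eq.1 h1
      rw [Subgroup.mem_subgroupOf] at h2
      have h3 : (x'.1 ^ k)⁻¹ * y ∈ Cfsg.pCore p G := by simpa using h2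
      have h4 : y = x'.1 ^ k * ((x'.1 ^ k)⁻¹ * y) := by group
      rw [h4]
      exact mul_mem (zpow_mem hQ' k) (hcore Q h3)
    exact (Sylow.ext (P.is_maximal' Q.isPGroup' hle))

end Cfsg.Agent.S4348
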