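import Cfsg.Statements.S5610
import Cfsg.Agent.Lib.Helper3_Orb3

set_option autoImplicit false
open scoped Pointwise
open Cfsg

namespace Cfsg.Agent.S5610


open Cfsg.Agent.Lib.Helper3_Sext Cfsg.Agent.Lib.Helper3_Orb Cfsg.Agent.Lib.Helper3_Orb2
open Cfsg.Agent.Lib.Helper3_Bfs Cfsg.Agent.Lib.Helper3_Bfs2 Cfsg.Agent.Lib.Helper3_Orb3
open Cfsg.Agent.Lib.Helper3_Golay2 Cfsg.Agent.Lib.Helper3_Golay3 Cfsg.Agent.Lib.Helper3_M24a
open Cfsg.Agent.Lib.Helper3_M24d

def Tgens : List ℕ := [711841878000796360060330734761639973, 55346512819389288994096823153018019]

def TY0 : List ℕ := [337856, 7903248, 8536111]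

def TC0 : List ℕ := [3, 11, 44, 14, 20, 1]

def Tp0 : ℕ := 101

def TY1 : List ℕ := [5279, 4038912, 12733024]

def TC1 : List ℕ := [3, 15, 255, 26623, 67076094, 121975892188157, 278706934727774823903, 44440070625699650093874675687, 267365861135805384842190788137528049171897, 18173545406955956384586145724719580233681125781759949, 5716177560355731729783097725241842856217429380, 302231599581795390083136, 64]

def Tp1 : ℕ := 22051

def TY2 : List ℕ := [5279, 1009728, 15762208]

def TC2 : List ℕ := [3, 15, 255, 32767, 1073709055, 270110424525930495, 321983252448486335575514551254975, 50167390153246173656889008024647807272389400148476044500990, 36674700263164389560663509825882790088036909506420367022415716861238253659489941057106504922841087219783679, 3227708463568095315363049792552084741277075351428377748994301510850492074613353706032106771535505700176614933423461461666329521445479333314236224907578827829735399283433185529983569754111, 10707964330792954910658059801167711773438467065058574156644569574237619946368168788960631852363420880729046449369716516698456847878365731169332249846339459382793184104188134749761949822903967821187460483457206541441425726043837300197811679246975127119509452280066875785732819036848395222569681969221711231,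 17421899352097790497211648205578391286444994382184217048383290633765028446233566467589208309378180715292389339284367453701868001214162228364376484631790831844338532399208886497358656960992867757711532881524733691098281744046001366004004438049774009525640922811911437362695634170287497891101001327721603571874891290203994697637610206738843843332072923010654502861119550456614816106874217789332448827473852583, 41878899232868505309221130594153905530341622088825803609285980423894264477385395122326385333376071586476630055549883857970235556875005924816571163813602839098936703194946157864024080496915782163458193456274977845235847415065255843963092067393374090959901628701539981777088172318245082081667988885710989289815921406752641243810074392897440779752880182546891145162244781324215443866294704718786723283173958138332285962743411008139759363244071861562, 6578122649173738615827059694531450100709533288964195600737531677393396093861377632762579581001887414527672450842779057005087986414075198552963958404478972026721519666938916089097504754241559510157392003905434391873503575961780467784092079973705281019831844029282253451930674147135169980527408767885253642854485967214868430978,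 32719890369872682760686908870075636711889211078968309795375066523214466257827825846421815296]

def Tp2 : ℕ := 1411235

def TYL : Fin 3 → List ℕ := ![TY0, TY1, TY2]

def TnL : Fin 3 → ℕ := ![15, 420, 3360]

theorem Tc0 : chkS (inStM O0) Tgens TY0 TC0 4 Tp0 15 = true := by decide +kernel

theorem Tc1 : chkS (inStM O0) Tgens TY1 TC1 4 Tp1 420 = true := by decide +kernel

theorem Tc2 : chkS (inStM O0) Tgens TY2 TC2 4 Tp2 3360 = true := by decide +kernel

theorem Thm : ∀ i : Fin 3, isTrio (TYL i) = true := by decide +kernel

theorem Thvl : ∀ i : Fin 3, validL (TYL i) = true := by decide +kernel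

theorem Thinj : Function.Injective fun i => cInvL (fun k => k * k) [O0] (TYL i) := by decide +kernel

theorem Thle : ∀ i, TnL i ≤ (MulAction.orbit (MulAction.stabilizer M24 (dec O0)) (decS (TYL i))).ncard := by
  intro i
  fin_cases i
  · exact chkS_le (sound_inStM O0) Tc0
  · exact chkS_le (sound_inStM O0) Tc1
  · exact chkS_le (sound_inStM O0) Tc2

theorem Tdec0 : OrbDec M24 (dec O0) trios TnL := by
  obtain ⟨h1, h2⟩ := orbDec_sys' (dec O0) [O0] (by decide +kernel) (hX_mask O0)
    trios (fun g z hz => smul_mem_trios g.2 hz) TYL TnL (fun k => k * k)
    (fun i => decS_mem_trios (Thm i)) Thvl Thle Thinj (by rw [ncard_trios]; decide +kernel)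
  exact ⟨fun i => decS (TYL i), fun i => decS_mem_trios (Thm i), h1, h2⟩

def Sgens : List ℕ := [711841878000796360060330734761639973, 55346512819389288994096823153018019]

def SY0 : List ℕ := [15, 5264, 622848, 3416064, 4196928, 8536096]

def SC0 : List ℕ := [3, 15, 231, 1066, 111, 2670, 577, 3]

def Sp0 : ℕ := 207

def SY1 : List ℕ := [83, 272512, 1065220, 2162728, 4752384, 8524288]

def SC1 : List ℕ := [1, 3, 15, 255, 32765, 268427263, 15755589309166591, 16866932435743539906186575870, 8768828271078282166335482911253656747270557654399, 5424330253764162176699149669936482081907417531431587526835600727849797900243, 441527797565533564768534612191664327165817816565976802429493827694878500874053006511519836700214951289, 93676038535768351207847382975431029062819638834790351697772585297312815070223683180762162569339006694446206080843912, 7076015443795374121543276654911080950875146455846846977708207308879961088, 8858370304]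

def Sp1 : ℕ := 88249

def SY2 : List ℕ := [23, 5256, 786976, 1065280, 2263040, 12656640]

def SC2 : List ℕ := [3, 15, 255, 32767, 1073708031, 72031205758828543, 80654114620868024891873326742527, 584646997652803970670132080606241368670728601548752895964, 26650929091170364356972457841636228915498179419851091971029107445243819811696841263583, 43905043597624475882344557735639625202785926574134029872502043089873789750289699786848461619953850959649860736890, 163913242807684752553440946391228731464251501973279518196637904143072709882422994767898515220756511555458083785471998762, 1790309160103281002658210222352917504941438428707600508836118726147]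

def Sp2 : ℕ := 100819

def SYL : Fin 3 → List ℕ := ![SY0, SY1, SY2]

def SnL : Fin 3 → ℕ := ![35, 840, 896]

theorem Sc0 : chkS (inStM O0) Sgens SY0 SC0 4 Sp0 35 = true := by decide +kernel

theorem Sc1 : chkS (inStM O0) Sgens SY1 SC1 4 Sp1 840 = true := by decide +kernel

theorem Sc2 : chkS (inStM O0) Sgens SY2 SC2 4 Sp2 896 = true := by decide +kernel

theorem Shm : ∀ i : Fin 3, isSext (SYL i) = true := by decide +kernel

theorem Shvl : ∀ i : Fin 3, validL (SYL i) = true := by decide +kernel

theorem Shinj : Function.Injective fun i => cInvL (fun k => k * k) [O0] (SYL i) := by decide +kernel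

theorem Shle : ∀ i, SnL i ≤ (MulAction.orbit (MulAction.stabilizer M24 (dec O0)) (decS (SYL i))).ncard := by
  intro i
  fin_cases i
  · exact chkS_le (sound_inStM O0) Sc0
  · exact chkS_le (sound_inStM O0) Sc1
  · exact chkS_le (sound_inStM O0) Sc2

theorem Sdec0 : OrbDec M24 (dec O0) sextets SnL := by
  obtain ⟨h1, h2⟩ := orbDec_sys' (dec O0) [O0] (by decide +kernel) (hX_mask O0)
    sextets (fun g z hz => smul_mem_sextets g.2 hz) SYL SnL (fun k => k * k)
    (fun i => decS_mem_sextets (Shm i)) Shvl Shle Shinj (by rw [ncard_sextets]; decide +kernel)
  exact ⟨fun i => decS (SYL i), fun i => decS_mem_sextets (Shm i), h1, h2⟩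

/-- The stabiliser of an octad in the group of the length-24 code has exactly three orbits on the 3795 trios, of sizes 15, 420 and 3360, and exactly three orbits on the 1771 sextets, of sizes 35, 840 and 896. -/
theorem result (o : Finset Cfsg.GolayPt) (ho : o ∈ Cfsg.octads) : (∃ X₁ ∈ Cfsg.trios, ∃ X₂ ∈ Cfsg.trios, ∃ X₃ ∈ Cfsg.trios, (MulAction.orbit ↥(MulAction.stabilizer Cfsg.M24 o) X₁).ncard = 15 ∧ (MulAction.orbit ↥(MulAction.stabilizer Cfsg.M24 o) X₂).ncard = 420 ∧ (MulAction.orbit ↥(MulAction.stabilizer Cfsg.M24 o) X₃).ncard = 3360 ∧ Cfsg.trios = MulAction.orbit ↥(MulAction.stabilizer Cfsg.M24 o) X₁ ∪ MulAction.orbit ↥(MulAction.stabilizer Cfsg.M24 o) X₂ ∪ MulAction.orbit ↥(MulAction.stabilizer Cfsg.M24 o) X₃) ∧ (∃ Y₁ ∈ Cfsg.sextets, ∃ Y₂ ∈ Cfsg.sextets, ∃ Y₃ ∈ Cfsg.sextets, (MulAction.orbit ↥(MulAction.stabilizer Cfsg.M24 o) Y₁).ncard = 35 ∧ (MulAction.orbit ↥(MulAction.stabilizer Cfsg.M24 o) Y₂).ncard = 840 ∧ (MulAction.orbit ↥(MulAction.stabilizer Cfsg.M24 o) Y₃).ncard = 896 ∧ Cfsg.sextets = MulAction.orbit ↥(MulAction.stabilizer Cfsg.M24 o) Y₁ ∪ MulAction.orbit ↥(MulAction.stabilizer Cfsg.M24 o) Y₂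 ∪ MulAction.orbit ↥(MulAction.stabilizer Cfsg.M24 o) Y₃) := by
  obtain ⟨g, hg, rfl⟩ := trans_octads O0_mem ho
  obtain ⟨y, hy, hn, hU⟩ := Tdec0.smul (fun g z hz => smul_mem_trios g.2 hz) ⟨g, hg⟩
  obtain ⟨z, hz, hm, hV⟩ := Sdec0.smul (fun g z hz => smul_mem_sextets g.2 hz) ⟨g, hg⟩
  refine ⟨⟨y 0, hy 0, y 1, hy 1, y 2, hy 2, hn 0, hn 1, hn 2, ?_⟩,
    ⟨z 0, hz 0, z 1, hz 1, z 2, hz 2, hm 0, hm 1, hm 2, ?_⟩⟩
  · rw [← iUnion_fin3 (fun i => MulAction.orbit _ (y i))]; exact hU
  · rw [← iUnion_fin3 (fun i => MulAction.orbit _ (z i))]; exact hV

end Cfsg.Agent.S5610
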