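import Cfsg.Statements.S5611
import Cfsg.Agent.Lib.Helper3_Orb3

set_option autoImplicit false
open scoped Pointwise
open Cfsg

namespace Cfsg.Agent.S5611


open Cfsg.Agent.Lib.Helper3_Sext Cfsg.Agent.Lib.Helper3_Orb Cfsg.Agent.Lib.Helper3_Orb2
open Cfsg.Agent.Lib.Helper3_Bfs Cfsg.Agent.Lib.Helper3_Bfs2 Cfsg.Agent.Lib.Helper3_Orb3
open Cfsg.Agent.Lib.Helper3_Golay2 Cfsg.Agent.Lib.Helper3_Golay3 Cfsg.Agent.Lib.Helper3_M24a
open Cfsg.Agent.Lib.Helper3_M24d

def Ogens : List ℕ := [689730463470616958177692653115282125, 426484765170459393181018695807706767]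

def OY0 : ℕ := 416040

def OC0 : List ℕ := [3, 15, 218, 578]

def Op0 : ℕ := 4096

def OY1 : ℕ := 10558

def OC1 : List ℕ := [3, 15, 255, 65535, 4294967294, 3449730891775999983, 280264050749646931905702085508855, 4011060178970080189265946341126617789971030001, 145192315026488253206715543133614818893343455514406700, 10633823971231089575343325609462349825]

def Op1 : ℕ := 4096

def OY2 : ℕ := 5279

def OC2 : List ℕ := [3, 15, 254, 16383, 259784695, 844424928034783, 19473074870860951336263868415, 332765057236688047902556396618682888050970518672269, 310252473655321529534295415716163072929576242513621641408467811, 11150378417233942884336598598473082044678290, 33554432]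

def Op2 : ℕ := 4096

def OYL : Fin 3 → ℕ := ![OY0, OY1, OY2]

def OnL : Fin 3 → ℕ := ![15, 360, 384]

theorem Oc0 : chkM (inStS S0L) Ogens OY0 OC0 4 Op0 15 = true := by decide +kernel

theorem Oc1 : chkM (inStS S0L) Ogens OY1 OC1 4 Op1 360 = true := by decide +kernel

theorem Oc2 : chkM (inStS S0L) Ogens OY2 OC2 4 Op2 384 = true := by decide +kernel

theorem Ohm : ∀ i : Fin 3, isOct (OYL i) = true := by decide +kernel

theorem Ohvl : ∀ i : Fin 3, OYL i < 2 ^ 24 := by decide +kernel

theorem Ohinj : Function.Injective fun i => cInvL (fun k => k * k) S0L [OYL i] := by decide +kernel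

theorem Ohle : ∀ i, OnL i ≤ (MulAction.orbit (MulAction.stabilizer M24 (decS S0L)) (dec (OYL i))).ncard := by
  intro i
  fin_cases i
  · exact chkM_le (sound_inStS S0L) Oc0
  · exact chkM_le (sound_inStS S0L) Oc1
  · exact chkM_le (sound_inStS S0L) Oc2

theorem Odec0 : OrbDec M24 (decS S0L) octads OnL := by
  obtain ⟨h1, h2⟩ := orbDec_set' (decS S0L) S0L (by decide +kernel) (fun g hg => hg)
    octads (fun g z hz => smul_mem_octads g.2 hz) OYL OnL (fun k => k * k)
    (fun i => dec_mem_octads (Ohm i)) Ohvl Ohle Ohinj (by rw [ncard_octads]; decide +kernel)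
  exact ⟨fun i => dec (OYL i), fun i => dec_mem_octads (Ohm i), h1, h2⟩

def Tgens : List ℕ := [689730463470616958177692653115282125, 426484765170459393181018695807706767]

def TY0 : List ℕ := [416040, 3704512, 12656663]

def TC0 : List ℕ := [3, 13, 47, 650]

def Tp0 : ℕ := 71

def TY1 : List ℕ := [10558, 3704512, 13062145]

def TC1 : List ℕ := [3, 15, 255, 65535, 2147483646, 1143887323142545295, 1863811875046102545828596727, 79832049276838906952064864, 2147484706]

def Tp1 : ℕ := 4373

def TY2 : List ℕ := [10558, 2019456, 14747201]

def TC2 : List ℕ := [3, 15, 255, 65535, 4294967167, 2882277373238046655, 4867778302380630211046581181874175, 89536572819101303075334285361566620322019181160452354975202295, 4976086499008548645609601148438508134524700839606960450891007423279014721367233684505184159226, 627133158915525188072634945654976408051897597805024348355540551774731446445130583909212014880300840652041, 58305959905132706964254285429100088547462561459828593571051038685607248000, 64]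

def Tp2 : ℕ := 64927

def TY3 : List ℕ := [5279, 1009728, 15762208]

def TC3 : List ℕ := [3, 15, 255, 65535, 4294967295, 18446744073709551615, 340282366920937859000464800117180856319, 7222870800391962818599696738962865005016321323892582179821189780552959328255, 3045489142275027223316902349588260296147952243453683545556818067844983943866884213407493912277141648540177063115891780944342105960582605701119, 423835519422169967750214852831928622930047113158805896212282722845314649834957467833375793344377889542858225058606897064171399994204358022469347609303233234899205558163748766298290120717406500756141744385233514338599764781820778447212052240446520187, 526851273048766898847951791858717682693955246694043039309517875577003305782375434687151508447455621331482200770509206596738003813811639195990605433719203966806765774056063990824845279949474584851421937332240976759900517251265969413537427141453068252717632741073320132525808978672060536998211858367674597559460854437564947090980362989558630089820668187163739293001790479249423562808767, 1408101796037820503466595977795903414450332367153757786527633838651178511525859320278598578683403071996686008100792024750132431990846523684527786743810146789084243899969473066164698917501185853437856030692390079592703865797030457057030271809066622426907902197351749324515185494202352910502434249653127146532507807873050627075689102622912017877205589754978941984950002646497980723845183011222560549590889514698998559215803084171762,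 279142377604076577790350995351209450040456648655278192735212833593683862388946069658371687935732700012223730783498231342030970878333821611946911655325232661460664269789156466310448870823813455946084643935740833134744335165964230638417759464675377471172742500594089706108625928, 392321851617020804152169500979917815918242583163468513282]

def Tp3 : ℕ := 1036939

def TYL : Fin 4 → List ℕ := ![TY0, TY1, TY2, TY3]

def TnL : Fin 4 → ℕ := ![15, 180, 720, 2880]

theorem Tc0 : chkS (inStS S0L) Tgens TY0 TC0 4 Tp0 15 = true := by decide +kernel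

theorem Tc1 : chkS (inStS S0L) Tgens TY1 TC1 4 Tp1 180 = true := by decide +kernel

theorem Tc2 : chkS (inStS S0L) Tgens TY2 TC2 4 Tp2 720 = true := by decide +kernel

theorem Tc3 : chkS (inStS S0L) Tgens TY3 TC3 4 Tp3 2880 = true := by decide +kernel

theorem Thm : ∀ i : Fin 4, isTrio (TYL i) = true := by decide +kernel

theorem Thvl : ∀ i : Fin 4, validL (TYL i) = true := by decide +kernel

theorem Thinj : Function.Injective fun i => cInvL (fun k => k * k) S0L (TYL i) := by decide +kernel

theorem Thle : ∀ i, TnL i ≤ (MulAction.orbit (MulAction.stabilizer M24 (decS S0L)) (decS (TYL i))).ncard := by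
  intro i
  fin_cases i
  · exact chkS_le (sound_inStS S0L) Tc0
  · exact chkS_le (sound_inStS S0L) Tc1
  · exact chkS_le (sound_inStS S0L) Tc2
  · exact chkS_le (sound_inStS S0L) Tc3

theorem Tdec0 : OrbDec M24 (decS S0L) trios TnL := by
  obtain ⟨h1, h2⟩ := orbDec_sys' (decS S0L) S0L (by decide +kernel) (fun g hg => hg)
    trios (fun g z hz => smul_mem_trios g.2 hz) TYL TnL (fun k => k * k)
    (fun i => decS_mem_trios (Thm i)) Thvl Thle Thinj (by rw [ncard_trios]; decide +kernel)
  exact ⟨fun i => decS (TYL i), fun i => decS_mem_trios (Thm i), h1, h2⟩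

/-- The stabiliser of a sextet in the group of the length-24 code has exactly three orbits on the 759 octads, of sizes 15, 360 and 384, and exactly four orbits on the 3795 trios, of sizes 15, 180, 720 and 2880. -/
theorem result (S : Finset (Finset Cfsg.GolayPt)) (hS : S ∈ Cfsg.sextets) : (∃ X₁ ∈ Cfsg.octads, ∃ X₂ ∈ Cfsg.octads, ∃ X₃ ∈ Cfsg.octads, (MulAction.orbit ↥(MulAction.stabilizer Cfsg.M24 S) X₁).ncard = 15 ∧ (MulAction.orbit ↥(MulAction.stabilizer Cfsg.M24 S) X₂).ncard = 360 ∧ (MulAction.orbit ↥(MulAction.stabilizer Cfsg.M24 S) X₃).ncard = 384 ∧ Cfsg.octads = MulAction.orbit ↥(MulAction.stabilizer Cfsg.M24 S) X₁ ∪ MulAction.orbit ↥(MulAction.stabilizer Cfsg.M24 S) X₂ ∪ MulAction.orbit ↥(MulAction.stabilizer Cfsg.M24 S) X₃) ∧ (∃ Y₁ ∈ Cfsg.trios, ∃ Y₂ ∈ Cfsg.trios, ∃ Y₃ ∈ Cfsg.trios, ∃ Y₄ ∈ Cfsg.trios, (MulAction.orbit ↥(MulAction.stabilizer Cfsg.M24 S) Y₁).ncard = 15 ∧ (MulAction.orbit ↥(MulAction.stabilizer Cfsg.M24 S) Y₂).ncard = 180 ∧ (MulAction.orbit ↥(MulAction.stabilizer Cfsg.M24 S) Y₃).ncard = 720 ∧ (MulAction.orbit ↥(MulAction.stabilizer Cfsg.M24 S)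 Y₄).ncard = 2880 ∧ Cfsg.trios = MulAction.orbit ↥(MulAction.stabilizer Cfsg.M24 S) Y₁ ∪ MulAction.orbit ↥(MulAction.stabilizer Cfsg.M24 S) Y₂ ∪ MulAction.orbit ↥(MulAction.stabilizer Cfsg.M24 S) Y₃ ∪ MulAction.orbit ↥(MulAction.stabilizer Cfsg.M24 S) Y₄) := by
  obtain ⟨g, hg, rfl⟩ := trans_sextets S0_mem hS
  obtain ⟨y, hy, hn, hU⟩ := Odec0.smul (fun g z hz => smul_mem_octads g.2 hz) ⟨g, hg⟩
  obtain ⟨z, hz, hm, hV⟩ := Tdec0.smul (fun g z hz => smul_mem_trios g.2 hz) ⟨g, hg⟩
  refine ⟨⟨y 0, hy 0, y 1, hy 1, y 2, hy 2, hn 0, hn 1, hn 2, ?_⟩,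
    ⟨z 0, hz 0, z 1, hz 1, z 2, hz 2, z 3, hz 3, hm 0, hm 1, hm 2, hm 3, ?_⟩⟩
  · rw [← iUnion_fin3 (fun i => MulAction.orbit _ (y i))]; exact hU
  · rw [← iUnion_fin4 (fun i => MulAction.orbit _ (z i))]; exact hV

end Cfsg.Agent.S5611
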