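import Cfsg.Statements.S5726
import Cfsg.Agent.Lib.Helper7_Idx

set_option autoImplicit false
open Cfsg

namespace Cfsg.Agent.S5726

open Subgroup

/-- If a finite group acts faithfully and transitively on a set with p^k elements, p a prime and k ≥ 1, then some element of order p fixes no point. -/
theorem result {G Ω : Type*} [Group G] [Finite G] [MulAction G Ω] [FaithfulSMul G Ω] [Fintype Ω] (htr : MulAction.IsPretransitive G Ω)
    (p k : ℕ) (hp : p.Prime) (hk : 1 ≤ k) (hΩ : Fintype.card Ω = p ^ k) :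
    ∃ g : G, orderOf g = p ∧ ∀ ω : Ω, g • ω ≠ ω := by
  classical
  haveI : Fact p.Prime := ⟨hp⟩
  obtain ⟨P⟩ : Nonempty (Sylow p G) := inferInstance
  haveI hne : Nonempty Ω := by
    rw [← Fintype.card_pos_iff, hΩ]; exact pow_pos hp.pos k
  obtain ⟨ω₀⟩ := id hne
  have hidx : (MulAction.stabilizer G ω₀).index = p ^ k := by
    rw [MulAction.index_stabilizer_of_transitive G ω₀, Nat.card_eq_fintype_card, hΩ]
  have hcop : (P : Subgroup G).index.Coprime (MulAction.stabilizer G ω₀).index := by
    rw [hidx]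
    apply Nat.Coprime.pow_right
    exact ((Nat.Prime.coprime_iff_not_dvd hp).mpr P.not_dvd_index).symm
  have htrP : ∀ b : Ω, ∃ a ∈ (P : Subgroup G), a • ω₀ = b := by
    intro b
    obtain ⟨g, rfl⟩ := MulAction.exists_smul_eq G ω₀ b
    obtain ⟨a, ha, c, hc, rfl⟩ := Cfsg.Agent.Lib.Helper7_Idx.exists_mul_of_coprime_index _ _ hcop g
    refine ⟨a, ha, ?_⟩
    rw [mul_smul]
    congr 1
    exact hc.symm
  have hpG : p ∣ Nat.card G := by
    have h1 : (MulAction.stabilizer G ω₀).index ∣ Nat.card G := Subgroup.index_dvd_card _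
    rw [hidx] at h1
    exact (dvd_pow_self p (by omega)).trans h1
  haveI hPnt : Nontrivial (P : Subgroup G) := by
    rw [Subgroup.nontrivial_iff_ne_bot]
    exact P.ne_bot_of_dvd_card hpG
  haveI : Nontrivial (center (P : Subgroup G)) := P.isPGroup'.center_nontrivial
  have hpc : p ∣ Nat.card (center (P : Subgroup G)) := by
    have hcp : IsPGroup p (center (P : Subgroup G)) := P.isPGroup'.to_subgroup _
    obtain ⟨n, hn⟩ := IsPGroup.iff_card.mp hcp
    rcases Nat.eq_zero_or_pos n with h0 | h0
    · rw [h0, pow_zero] at hn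
      have := (Nat.card_eq_one_iff_unique.mp hn).1
      exact absurd ‹Nontrivial (center (P : Subgroup G))› (not_nontrivial_iff_subsingleton.mpr this)
    · rw [hn]; exact dvd_pow_self p (by omega)
  obtain ⟨z, hz⟩ := exists_prime_orderOf_dvd_card' (G := center (P : Subgroup G)) p hpc
  refine ⟨((z : (P : Subgroup G)) : G), ?_, ?_⟩
  · rw [Subgroup.orderOf_coe, Subgroup.orderOf_coe, hz]
  · intro ω hfix
    have hall : ∀ b : Ω, ((z : (P : Subgroup G)) : G) • b = b := by
      intro b
      obtain ⟨a, ha, rfl⟩ := htrP b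
      obtain ⟨c, hc, rfl⟩ := htrP ω
      have hcomm : ∀ x ∈ (P : Subgroup G), x * ((z : (P : Subgroup G)) : G) = ((z : (P : Subgroup G)) : G) * x := by
        intro x hx
        exact congrArg Subtype.val (mem_center_iff.mp z.2 ⟨x, hx⟩)
      have h1 : ((z : (P : Subgroup G)) : G) • ω₀ = ω₀ := by
        rw [← mul_smul, ← hcomm c hc, mul_smul] at hfix
        exact smul_left_cancel c hfix
      rw [← mul_smul, ← hcomm a ha, mul_smul, h1]
    have h1 : ((z : (P : Subgroup G)) : G) = 1 := by
      apply FaithfulSMul.eq_of_smul_eq_smul (α := Ω)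
      intro b; rw [hall b, one_smul]
    have h2 : z = 1 := Subtype.ext (Subtype.ext h1)
    rw [h2, orderOf_one] at hz
    exact hp.one_lt.ne hz

end Cfsg.Agent.S5726
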