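import Mathlib
import Cfsg.Statements.S5727

set_option autoImplicit false
open Cfsg

namespace Cfsg.Agent.S5727

/-- If a finite group acts faithfully and transitively on a set with m·p elements, where p is a prime and 1 ≤ m ≤ p, then some element of order p fixes no point. -/
theorem result {G Ω : Type*} [Group G] [Finite G] [MulAction G Ω] [FaithfulSMul G Ω] [Fintype Ω] (htr : MulAction.IsPretransitive G Ω)
    (p m : ℕ) (hp : p.Prime) (hm : 1 ≤ m) (hmp : m ≤ p) (hΩ : Fintype.card Ω = m * p) :
    ∃ g : G, orderOf g = p ∧ ∀ ω : Ω, g • ω ≠ ω := by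
  classical
  haveI : Fact p.Prime := ⟨hp⟩
  obtain ⟨P⟩ : Nonempty (Sylow p G) := inferInstance
  have hidx : ∀ ω : Ω, (MulAction.stabilizer G ω).index = m * p := by
    intro ω
    rw [MulAction.index_stabilizer_of_transitive, Nat.card_eq_fintype_card, hΩ]
  have hstab : ∀ ω : Ω, MulAction.stabilizer P ω = (MulAction.stabilizer G ω).subgroupOf P := by
    intro ω
    ext x
    simp [MulAction.mem_stabilizer_iff, Subgroup.mem_subgroupOf, Subgroup.smul_def]
  have hr_le : ∀ ω : Ω, (MulAction.stabilizer P ω).index ≤ m * p := by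
    intro ω
    rw [hstab, ← hidx ω]
    show (MulAction.stabilizer G ω).relIndex P ≤ _
    rw [← Subgroup.relIndex_top_right (MulAction.stabilizer G ω)]
    exact Subgroup.relIndex_le_of_le_right le_top
      (by rw [Subgroup.relIndex_top_right]; exact Subgroup.index_ne_zero_of_finite)
  have hr_dvd : ∀ (ω : Ω) (a : ℕ), p ^ a ∣ m * p → p ^ a ∣ (MulAction.stabilizer P ω).index := by
    intro ω a ha
    rw [hstab]
    show p ^ a ∣ (MulAction.stabilizer G ω).relIndex P
    have h1 := Subgroup.relIndex_mul_index
      (inf_le_left : (P : Subgroup G) ⊓ MulAction.stabilizer G ω ≤ P)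
    have h2 := Subgroup.relIndex_mul_index
      (inf_le_right : (P : Subgroup G) ⊓ MulAction.stabilizer G ω ≤ MulAction.stabilizer G ω)
    rw [Subgroup.inf_relIndex_left] at h1
    rw [hidx] at h2
    have h3 : p ^ a ∣ (MulAction.stabilizer G ω).relIndex P * (P : Subgroup G).index := by
      rw [h1, ← h2]
      exact Dvd.dvd.mul_left ha _
    exact (Nat.Coprime.pow_left a
      ((Nat.Prime.coprime_iff_not_dvd hp).mpr P.not_dvd_index)).dvd_of_dvd_mul_right h3
  have hr_pow : ∀ ω : Ω, ∃ j, (MulAction.stabilizer P ω).index = p ^ j := by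
    intro ω
    obtain ⟨k, hk⟩ := IsPGroup.iff_card.mp P.isPGroup'
    have h1 := Subgroup.index_dvd_card (MulAction.stabilizer P ω)
    have hk' : Nat.card P = p ^ k := hk
    rw [hk'] at h1
    obtain ⟨j, -, hj⟩ := (Nat.dvd_prime_pow hp).mp h1
    exact ⟨j, hj⟩
  have hne : Nonempty Ω := by
    rw [← Fintype.card_pos_iff, hΩ]
    exact Nat.mul_pos hm hp.pos
  obtain ⟨ω₀⟩ := hne
  rcases hmp.lt_or_eq with hlt | heq
  · -- all stabilizers have index `p`
    have hr : ∀ ω : Ω, (MulAction.stabilizer P ω).index = p := by
      intro ω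
      obtain ⟨j, hj⟩ := hr_pow ω
      have h1 := hr_dvd ω 1 (by rw [pow_one]; exact Dvd.intro_left m rfl)
      have h2 := hr_le ω
      rw [hj] at h1 h2
      have h3 : p ^ j < p ^ 2 := by
        calc p ^ j ≤ m * p := h2
          _ < p * p := Nat.mul_lt_mul_of_pos_right hlt hp.pos
          _ = p ^ 2 := by ring
      have h4 : j < 2 := (Nat.pow_lt_pow_iff_right hp.one_lt).mp h3
      have h5 : j ≠ 0 := by
        rintro rfl
        rw [pow_one, pow_zero] at h1
        exact hp.one_lt.ne' (Nat.dvd_one.mp h1)
      have h6 : j = 1 := by omega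
      rw [hj, h6, pow_one]
    have hnorm : ∀ ω : Ω, (MulAction.stabilizer P ω).Normal := by
      intro ω
      apply Subgroup.normal_of_index_eq_minFac_card
      rw [hr ω]
      obtain ⟨k, hk⟩ := IsPGroup.iff_card.mp P.isPGroup'
      have hk' : Nat.card P = p ^ k := hk
      have hk0 : k ≠ 0 := by
        rintro rfl
        have h1 := Subgroup.index_dvd_card (MulAction.stabilizer P ω)
        rw [hk', hr ω, pow_zero] at h1
        exact hp.one_lt.ne' (Nat.dvd_one.mp h1)
      rw [hk', hp.pow_minFac hk0]
    have hex : ∃ g : P, ∀ ω : Ω, g • ω ≠ ω := by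
      by_contra hcon
      push Not at hcon
      letI : Fintype P := Fintype.ofFinite P
      have hdc : ∑ g : P, (Finset.univ.filter (fun ω : Ω => g • ω = ω)).card =
          ∑ ω : Ω, (Finset.univ.filter (fun g : P => g • ω = ω)).card := by
        simp only [Finset.card_filter]
        exact Finset.sum_comm
      have hL : ∀ g : P, p ≤ (Finset.univ.filter (fun ω : Ω => g • ω = ω)).card := by
        intro g
        obtain ⟨ω, hω⟩ := hcon g
        have h1 : (MulAction.orbit P ω).ncard = p := by
          rw [← MulAction.index_stabilizer, hr ω]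
        have h2 : MulAction.orbit P ω ⊆
            ((Finset.univ.filter (fun ω : Ω => g • ω = ω) : Finset Ω) : Set Ω) := by
          rintro _ ⟨x, rfl⟩
          simp only [Finset.coe_filter, Finset.mem_univ, true_and, Set.mem_setOf_eq]
          have h3 : x⁻¹ * g * x⁻¹⁻¹ ∈ MulAction.stabilizer P ω :=
            (hnorm ω).conj_mem g hω x⁻¹
          rw [MulAction.mem_stabilizer_iff, inv_inv, mul_smul, mul_smul, inv_smul_eq_iff] at h3
          exact h3
        have h4 := Set.ncard_le_ncard h2 (Finset.finite_toSet _)
        rw [h1, Set.ncard_coe_finset] at h4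
        exact h4
      have hR : ∀ ω : Ω, (Finset.univ.filter (fun g : P => g • ω = ω)).card * p = Nat.card P := by
        intro ω
        have h1 := Subgroup.card_mul_index (MulAction.stabilizer P ω)
        rw [hr ω] at h1
        rw [← h1]
        congr 1
        rw [Nat.card_eq_fintype_card, Fintype.card_subtype]
        rfl
      have h1 : Nat.card P * p ≤ ∑ g : P, (Finset.univ.filter (fun ω : Ω => g • ω = ω)).card := by
        calc Nat.card P * p = ∑ _g : P, p := by
              rw [Finset.sum_const, Finset.card_univ, Nat.card_eq_fintype_card, smul_eq_mul]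
          _ ≤ _ := Finset.sum_le_sum (fun g _ => hL g)
      have h2 : (∑ ω : Ω, (Finset.univ.filter (fun g : P => g • ω = ω)).card) * p
          = m * p * Nat.card P := by
        rw [Finset.sum_mul, Finset.sum_congr rfl (fun ω _ => hR ω), Finset.sum_const,
          Finset.card_univ, hΩ, smul_eq_mul]
      rw [hdc] at h1
      have h3 : Nat.card P * p * p ≤ m * p * Nat.card P := by
        rw [← h2]
        exact Nat.mul_le_mul_right p h1
      have h4 : 0 < Nat.card P := Nat.card_pos
      have h5 : (Nat.card P * p) * p ≤ (Nat.card P * p) * m := by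
        calc (Nat.card P * p) * p ≤ m * p * Nat.card P := h3
          _ = (Nat.card P * p) * m := by ring
      have h6 := Nat.le_of_mul_le_mul_left h5 (Nat.mul_pos h4 hp.pos)
      omega
    obtain ⟨g, hg⟩ := hex
    refine ⟨g, ?_, fun ω => hg ω⟩
    apply orderOf_eq_prime
    · apply FaithfulSMul.eq_of_smul_eq_smul (α := Ω)
      intro ω
      rw [one_smul]
      haveI := hnorm ω
      have h1 := Subgroup.pow_index_mem (MulAction.stabilizer P ω) g
      rw [hr ω, MulAction.mem_stabilizer_iff] at h1
      exact h1
    · intro h1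
      apply hg ω₀
      have : g = 1 := Subtype.ext h1
      rw [this, one_smul]
  · -- `m = p`: `P` is transitive
    subst heq
    have hr : ∀ ω : Ω, (MulAction.stabilizer P ω).index = m * m := by
      intro ω
      have h1 := hr_dvd ω 2 (by rw [pow_two])
      have h2 := hr_le ω
      rw [pow_two] at h1
      exact le_antisymm h2 (Nat.le_of_dvd (Nat.pos_of_ne_zero Subgroup.index_ne_zero_of_finite) h1)
    have horb : ∀ ω : Ω, MulAction.orbit P ω = Set.univ := by
      intro ω
      apply Set.eq_of_subset_of_ncard_le (Set.subset_univ _) _ Set.finite_univ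
      rw [← MulAction.index_stabilizer, hr ω, Set.ncard_univ, Nat.card_eq_fintype_card, hΩ]
    have hnt : Nontrivial P := by
      rw [← Finite.one_lt_card_iff_nontrivial]
      have h1 := Subgroup.index_dvd_card (MulAction.stabilizer P ω₀)
      rw [hr ω₀] at h1
      have h2 := Nat.le_of_dvd Nat.card_pos h1
      have h3 : 1 < m * m := Nat.one_lt_mul_iff.mpr ⟨hp.pos, hp.pos, Or.inl hp.one_lt⟩
      omega
    have hcn := P.isPGroup'.center_nontrivial
    have hdvd : m ∣ Nat.card (Subgroup.center P) := by
      have hpc : IsPGroup m (Subgroup.center P) := P.isPGroup'.to_subgroup _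
      obtain ⟨k, hk⟩ := IsPGroup.iff_card.mp hpc
      have hk0 : k ≠ 0 := by
        rintro rfl
        rw [pow_zero] at hk
        have := Finite.one_lt_card_iff_nontrivial.mpr hcn
        omega
      rw [hk]
      exact dvd_pow_self m hk0
    obtain ⟨z, hz⟩ := exists_prime_orderOf_dvd_card' m hdvd
    refine ⟨((z : P) : G), ?_, ?_⟩
    · rw [Subgroup.orderOf_coe, Subgroup.orderOf_coe, hz]
    · intro ω hω
      have hz1 : ((z : P) : G) = 1 := by
        apply FaithfulSMul.eq_of_smul_eq_smul (α := Ω)
        intro ω'
        rw [one_smul]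
        have h1 : ω' ∈ MulAction.orbit P ω := by rw [horb ω]; trivial
        obtain ⟨x, rfl⟩ := h1
        have h2 : (z : P) * x = x * (z : P) := (Subgroup.mem_center_iff.mp z.2 x).symm
        show (z : P) • (x • ω) = x • ω
        rw [← mul_smul, h2, mul_smul]
        congr 1
      have hz2 : orderOf ((z : P) : G) = m := by
        rw [Subgroup.orderOf_coe, Subgroup.orderOf_coe, hz]
      rw [hz1, orderOf_one] at hz2
      exact hp.one_lt.ne hz2

end Cfsg.Agent.S5727
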